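import Cfsg.Agent.Lib.GrossTwo.Small
import Cfsg.Agent.Lib.Solvable.Carter
import Mathlib.GroupTheory.Perm.Cycle.Type
import Mathlib.Algebra.CharP.Lemmas

/-!
An element of order four normalising a non-abelian odd group of operators of a six-dimensional
space over the field of two elements has short Jordan blocks.
-/

set_option autoImplicit false
set_option linter.unusedSectionVars false
set_option linter.style.haveILetI false

open Module
open scoped commutatorElement

namespace Cfsg.Agent.GrossTwo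

variable {X : Type*} [AddCommGroup X] [Module (ZMod 2) X] [Finite X]

/-- An operator of order three without fixed points has invariant spaces of even dimension. -/
theorem even_of_fpf {P : Module.End (ZMod 2) X} (hP3 : P * P * P = 1) (hfix : fix P = ⊥)
    (Y : Submodule (ZMod 2) X) (hY : ∀ u ∈ Y, P u ∈ Y) : Even (finrank (ZMod 2) Y) := by
  classical
  haveI : FiniteDimensional (ZMod 2) X := Module.Finite.of_finite
  haveI : Fintype Y := Fintype.ofFinite Y
  by_contra hodd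
  obtain ⟨m, hm⟩ := Nat.not_even_iff_odd.1 hodd
  have hc : Fintype.card Y = 2 ^ (2 * m + 1) := by
    rw [← Nat.card_eq_fintype_card, Module.natCard_eq_pow_finrank (K := ZMod 2), Nat.card_zmod, hm]
  let p : Function.End Y := fun u => ⟨P u, hY u u.2⟩
  have hp : p ^ 3 ^ 1 = 1 := by
    funext u
    apply Subtype.ext
    show P (P (P (u : X))) = u
    have := LinearMap.congr_fun hP3 (u : X)
    simpa [Module.End.mul_apply] using this
  have h0 := Equiv.Perm.card_fixedPoints_modEq (p := 3) (n := 1) hp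
  have hfp : Fintype.card (Function.fixedPoints p) = 1 := by
    refine Fintype.card_eq_one_iff.2 ⟨⟨0, Subtype.ext (map_zero P)⟩, fun u => Subtype.ext ?_⟩
    have h1 : P ((u : Y) : X) = (u : Y) := congrArg Subtype.val u.2
    have h2 : ((u : Y) : X) ∈ fix P := mem_fix.2 h1
    rw [hfix, Submodule.mem_bot] at h2
    exact Subtype.ext h2
  rw [hfp, hc] at h0
  have h4 : ∀ m : ℕ, 2 ^ (2 * m + 1) % 3 = 2 := by
    intro m
    induction m with
    | zero => rfl
    | succ m ih =>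
      rw [show 2 * (m + 1) + 1 = 2 * m + 1 + 2 by omega, pow_add, Nat.mul_mod, ih]
      rfl
  rw [Nat.ModEq, h4] at h0
  norm_num at h0

theorem zmod_three_sq : ∀ t : ZMod 3, t * t = -1 → False := by decide

theorem short_blocks {q : ℕ} (hq : q.Prime) (hq2 : q ≠ 2) (hn : finrank (ZMod 2) X = 6)
    (Q₀ : Subgroup (Module.End (ZMod 2) X)ˣ) (hQ : IsPGroup q Q₀)
    (hnc : ¬ ∀ a ∈ Q₀, ∀ b ∈ Q₀, a * b = b * a)
    (hclass : ∀ a ∈ Q₀, ∀ b ∈ Q₀, ∀ c ∈ Q₀, ⁅a, b⁆ * c = c * ⁅a, b⁆)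
    (Vu : (Module.End (ZMod 2) X)ˣ) (hV : ∀ a ∈ Q₀, Vu * a * Vu⁻¹ ∈ Q₀) (hV4 : Vu ^ 4 = 1)
    (hinv : ∀ a ∈ Q₀, ∀ c ∈ Q₀,
      Vu * (Vu * a * Vu⁻¹) * Vu⁻¹ * a * c = c * (Vu * (Vu * a * Vu⁻¹) * Vu⁻¹ * a)) :
    ((Vu : Module.End (ZMod 2) X) - 1) ^ 3 = 0 := by
  classical
  haveI := Fact.mk hq
  haveI : FiniteDimensional (ZMod 2) X := Module.Finite.of_finite
  haveI hEf : Finite (Module.End (ZMod 2) X) := Finite.of_injective _ DFunLike.coe_injective
  haveI : Finite (Module.End (ZMod 2) X)ˣ := Finite.of_injective _ Units.val_injective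
  obtain ⟨k, hk⟩ := hQ.exists_card_eq
  have hdvd : q ^ k ∣ 20158709760 := hk ▸ card_units_six hn ▸ Subgroup.card_subgroup_dvd_card _
  have hk3 : 3 ≤ k := by
    by_contra h
    refine hnc fun a ha b hb => ?_
    suffices h' : ∀ a b : Q₀, a * b = b * a from congrArg Subtype.val (h' ⟨a, ha⟩ ⟨b, hb⟩)
    rcases (by omega : k = 0 ∨ k = 1 ∨ k = 2) with rfl | rfl | rfl
    · rw [pow_zero] at hk
      haveI := (Nat.card_eq_one_iff_unique.1 hk).1
      exact fun a b => Subsingleton.elim _ _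
    · rw [pow_one] at hk
      haveI : IsCyclic Q₀ := isCyclic_of_prime_card hk
      exact fun a b => IsMulCommutative.is_comm.comm a b
    · exact IsPGroup.commutative_of_card_eq_prime_sq hk
  obtain ⟨rfl, hk4⟩ := six_cases hq hq2 hk3 hdvd
  have hVn : Vu ∈ Subgroup.normalizer (Q₀ : Set (Module.End (ZMod 2) X)ˣ) :=
    Carter.le_normalizer_of_conj_mem hV
  let f : MulAut Q₀ := Q₀.normalizerMonoidHom ⟨Vu, hVn⟩
  have hf : ∀ a : Q₀, ((f a : Q₀) : (Module.End (ZMod 2) X)ˣ) = Vu * a * Vu⁻¹ := fun a => rfl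
  have hcc : ∀ a b : Q₀, ⁅a, b⁆ ∈ Subgroup.center Q₀ := fun a b =>
    Subgroup.mem_center_iff.2 fun g => Subtype.ext (hclass a a.2 b b.2 g g.2).symm
  set Z := Subgroup.center Q₀ with hZ
  set c := QuotientGroup.mk' Z with hc
  have hfZ : Z ≤ Z.comap f.toMonoidHom := fun g hg => Subgroup.mem_center_iff.2 fun h => by
    obtain ⟨h', rfl⟩ := f.surjective h
    show f h' * f g = f g * f h'
    rw [← map_mul, ← map_mul, Subgroup.mem_center_iff.1 hg h']
  let fb : Q₀ ⧸ Z →* Q₀ ⧸ Z := QuotientGroup.map Z Z f.toMonoidHom hfZ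
  have hfb : ∀ g, fb (c g) = c (f g) := fun g => rfl
  have hffZ : ∀ g, f (f g) * g ∈ Z := fun g => Subgroup.mem_center_iff.2 fun h => Subtype.ext
    (hinv g g.2 h h.2).symm
  have hfb2 : ∀ w, fb (fb w) = w⁻¹ := by
    intro w
    obtain ⟨g, rfl⟩ := QuotientGroup.mk'_surjective Z w
    rw [hfb, hfb, eq_inv_iff_mul_eq_one, ← map_mul]
    exact (QuotientGroup.eq_one_iff _).2 (hffZ g)
  haveI hQn : Nontrivial Q₀ := Finite.one_lt_card_iff_nontrivial.1
    (hk ▸ Nat.one_lt_pow (by omega) (by norm_num))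
  have hZ3 : 3 ∣ Nat.card Z := by
    haveI : Nontrivial Z := hQ.center_nontrivial
    exact ((hQ.to_subgroup Z).card_eq_or_dvd).resolve_left (Finite.one_lt_card (α := Z)).ne'
  have hW27 : Nat.card (Q₀ ⧸ Z) ∣ 27 := by
    have h1 : Nat.card (Q₀ ⧸ Z) * 3 ∣ 3 ^ 4 := by
      refine (Nat.mul_dvd_mul_left _ hZ3).trans ?_
      rw [← Subgroup.card_eq_card_quotient_mul_card_subgroup, hk]
      exact Nat.pow_dvd_pow 3 hk4
    rw [show (3 : ℕ) ^ 4 = 27 * 3 by norm_num] at h1
    exact Nat.dvd_of_mul_dvd_mul_right (by norm_num) h1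
  have hsq : ∀ w : Q₀ ⧸ Z, w⁻¹ = w → w = 1 := fun w h => by
    have h2 : w ^ 2 = 1 := by rw [pow_two]; nth_rewrite 1 [← h]; exact inv_mul_cancel w
    exact orderOf_eq_one_iff.1 (Nat.eq_one_of_dvd_coprimes (show Nat.Coprime 27 2 by norm_num)
      ((orderOf_dvd_natCard w).trans hW27) (orderOf_dvd_of_pow_eq_one h2))
  have h4 : 4 ∣ Nat.card {w : Q₀ ⧸ Z // w ≠ 1} := by
    have hmaps : ∀ w : {w : Q₀ ⧸ Z // w ≠ 1}, fb w ≠ 1 := fun w h => w.2 (inv_eq_one.1 (by
      rw [← hfb2, h, map_one]))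
    refine four_dvd (fun w => ⟨fb w, hmaps w⟩) (fun w => Subtype.ext ?_) fun w h => w.2 ?_
    · show fb (fb (fb (fb w))) = w
      rw [hfb2, hfb2, inv_inv]
    · exact hsq _ ((hfb2 w).symm.trans (congrArg Subtype.val h))
  have hne1 : Nat.card (Q₀ ⧸ Z) ≠ 1 := fun h1 => hnc fun a ha b hb => by
    haveI := (Nat.card_eq_one_iff_unique.1 h1).1
    exact congrArg Subtype.val (Subgroup.mem_center_iff.1
      ((QuotientGroup.eq_one_iff (N := Z) (⟨b, hb⟩ : Q₀)).1 (Subsingleton.elim _ _)) ⟨a, ha⟩)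
  have hW9 : Nat.card (Q₀ ⧸ Z) = 9 := by
    haveI := Fintype.ofFinite (Q₀ ⧸ Z)
    have hcard : Nat.card {w : Q₀ ⧸ Z // w ≠ 1} = Nat.card (Q₀ ⧸ Z) - 1 := by
      rw [Nat.card_eq_fintype_card, Nat.card_eq_fintype_card, Fintype.card_subtype_compl,
        Fintype.card_subtype_eq]
    rw [hcard] at h4
    have hmem : Nat.card (Q₀ ⧸ Z) ∈ Nat.divisors 27 := Nat.mem_divisors.2 ⟨hW27, by norm_num⟩
    have hdiv : Nat.divisors 27 = {1, 3, 9, 27} := by decide
    rw [hdiv] at hmem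
    simp only [Finset.mem_insert, Finset.mem_singleton] at hmem
    omega
  obtain ⟨g, hg⟩ : ∃ g : Q₀, c g ≠ 1 := by
    by_contra h
    push Not at h
    exact hne1 (Nat.card_eq_one_iff_unique.2 ⟨⟨fun a b => by
      obtain ⟨a, rfl⟩ := QuotientGroup.mk'_surjective Z a
      obtain ⟨b, rfl⟩ := QuotientGroup.mk'_surjective Z b
      rw [h a, h b]⟩, ⟨1⟩⟩)
  set H₀ := Subgroup.zpowers (c g) ⊔ Subgroup.zpowers (fb (c g)) with hH₀
  have hH₀top : H₀ = ⊤ := by
    refine Subgroup.eq_top_of_card_eq _ ?_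
    rw [hW9]
    have hd : Nat.card H₀ ∈ Nat.divisors 9 :=
      Nat.mem_divisors.2 ⟨hW9 ▸ Subgroup.card_subgroup_dvd_card _, by norm_num⟩
    have hdiv : Nat.divisors 9 = {1, 3, 9} := by decide
    rw [hdiv] at hd
    simp only [Finset.mem_insert, Finset.mem_singleton] at hd
    rcases hd with hle | hle | hle
    · exact absurd (Subgroup.mem_bot.1 (Subgroup.card_eq_one.1 hle ▸
        Subgroup.mem_sup_left (Subgroup.mem_zpowers _) : c g ∈ (⊥ : Subgroup (Q₀ ⧸ Z)))) hg
    · exfalso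
      have ho : orderOf (c g) = 3 := by
        refine ((Nat.dvd_prime Nat.prime_three).1 ?_).resolve_left fun h => hg (orderOf_eq_one_iff.1 h)
        exact hle ▸ Subgroup.orderOf_dvd_natCard H₀ (Subgroup.mem_sup_left (Subgroup.mem_zpowers _))
      have hz : Subgroup.zpowers (c g) = H₀ := Subgroup.eq_of_le_of_card_ge le_sup_left
        (by rw [hle, Nat.card_zpowers, ho])
      obtain ⟨n, hn⟩ : fb (c g) ∈ Subgroup.zpowers (c g) :=
        hz.ge (Subgroup.mem_sup_right (Subgroup.mem_zpowers _))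
      replace hn : (c g) ^ n = fb (c g) := hn
      have h2 : (c g) ^ (n * n) = (c g) ^ (-1 : ℤ) := by
        rw [zpow_mul, zpow_neg_one, ← hfb2 (c g)]
        conv_rhs => rw [← hn, map_zpow fb, ← hn]
      have h3 := zpow_eq_zpow_iff_modEq.1 h2
      rw [ho, ← ZMod.intCast_eq_intCast_iff] at h3
      push_cast at h3
      revert h3
      generalize ((n : ℤ) : ZMod 3) = t
      exact zmod_three_sq t
    · exact hle
  have hgv : g * f g ≠ f g * g := by
    intro hcm
    refine hg ((QuotientGroup.eq_one_iff g).2 (Subgroup.mem_center_iff.2 fun h => ?_))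
    have hle : (⊤ : Subgroup (Q₀ ⧸ Z)) ≤ (Subgroup.centralizer {g}).map c := by
      rw [← hH₀top]
      refine sup_le (Subgroup.zpowers_le.2 ⟨g, ?_, rfl⟩) (Subgroup.zpowers_le.2 ⟨f g, ?_, rfl⟩)
      · exact Subgroup.mem_centralizer_singleton_iff.2 rfl
      · exact Subgroup.mem_centralizer_singleton_iff.2 hcm.symm
    obtain ⟨h', hh', he'⟩ := hle (Subgroup.mem_top (c h))
    have hz : Commute (h'⁻¹ * h) g := (Subgroup.mem_center_iff.1 (QuotientGroup.eq.1 he') g).symm
    have e1 : Commute h' g := Subgroup.mem_centralizer_singleton_iff.1 hh'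
    have := e1.mul_left hz
    rw [mul_inv_cancel_left] at this
    exact this.eq
  set w₀ := ⁅g, f g⁆ with hw₀
  have hw₀Z : w₀ ∈ Z := hcc _ _
  have hw₀1 : w₀ ≠ 1 := fun h => hgv (commutatorElement_eq_one_iff_mul_comm.1 h)
  have hfw₀ : f w₀ = w₀ := by
    set z := g * f (f g) with hz
    have hzZ : z ∈ Z := by
      have h := hffZ g
      have e : z = g * (f (f g) * g) * g⁻¹ := by rw [hz]; group
      rw [e, Subgroup.mem_center_iff.1 h g, mul_inv_cancel_right]
      exact h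
    have hff : f (f g) = g⁻¹ * z := by rw [hz, inv_mul_cancel_left]
    calc f w₀ = ⁅f g, g⁻¹ * z⁆ := by rw [hw₀, map_commutatorElement, hff]
      _ = ⁅f g, g⁻¹⁆ := by
        simp only [commutatorElement_def, mul_inv_rev, inv_inv]
        rw [mul_assoc (f g), mul_assoc (f g), mul_assoc g⁻¹ z, ← Subgroup.mem_center_iff.1 hzZ (f g)⁻¹]
        simp [mul_assoc]
      _ = g⁻¹ * w₀ * g := by rw [hw₀]; simp [commutatorElement_def, mul_assoc]
      _ = w₀ := by rw [Subgroup.mem_center_iff.1 hw₀Z g⁻¹, inv_mul_cancel_right]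
  obtain ⟨w, hwZ, hfw, hw3, hw1⟩ : ∃ w ∈ Z, f w = w ∧ w ^ 3 = 1 ∧ w ≠ 1 := by
    obtain ⟨l, hl⟩ := IsPGroup.iff_orderOf.1 hQ w₀
    rcases l with _ | l
    · exact absurd (orderOf_eq_one_iff.1 hl) hw₀1
    refine ⟨w₀ ^ 3 ^ l, pow_mem hw₀Z _, by rw [map_pow, hfw₀], ?_, fun h => ?_⟩
    · rw [← pow_mul, ← pow_succ, ← hl, pow_orderOf_eq_one]
    · have := Nat.le_of_dvd (by positivity) (hl ▸ orderOf_dvd_of_pow_eq_one h)
      exact absurd this (not_le.2 (Nat.pow_lt_pow_right (by norm_num) (by omega)))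
  set P : Module.End (ZMod 2) X := ((w : (Module.End (ZMod 2) X)ˣ) : Module.End (ZMod 2) X) with hP
  have hP3 : P * P * P = 1 := by
    have := congrArg (fun u : Q₀ => ((u : (Module.End (ZMod 2) X)ˣ) : Module.End (ZMod 2) X)) hw3
    simpa [pow_succ] using this
  have hPc : ∀ b : Q₀, P * (b : (Module.End (ZMod 2) X)ˣ) = (b : (Module.End (ZMod 2) X)ˣ) * P :=
    fun b => (congrArg (fun u : Q₀ => ((u : (Module.End (ZMod 2) X)ˣ) : Module.End (ZMod 2) X))
      (Subgroup.mem_center_iff.1 hwZ b)).symm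
  have hPV : P * (Vu : Module.End (ZMod 2) X) = Vu * P := by
    have h := congrArg Subtype.val hfw
    rw [hf, mul_inv_eq_iff_eq_mul] at h
    exact (congrArg Units.val h).symm
  -- no fixed points
  have hPF : fix P = ⊥ := by
    by_contra hFne
    set E := LinearMap.ker (1 + P + P * P) with hE
    have hmemE : ∀ u, u ∈ E ↔ (1 + P + P * P) u = 0 := fun u => LinearMap.mem_ker
    have htwo : ∀ u : X, u + u = 0 := fun u => by
      rw [← two_smul (ZMod 2), show (2 : ZMod 2) = 0 from rfl, zero_smul]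
    have hFtop : fix P ≠ ⊤ := fun h => hw1 (Subtype.ext (Units.ext (LinearMap.ext fun u => by
      have hu : u ∈ fix P := by rw [h]; trivial
      simpa [Module.End.one_apply] using mem_fix.1 hu)))
    have hdisj : fix P ⊓ E = ⊥ := (Submodule.eq_bot_iff _).2 fun u hu => by
      obtain ⟨h1, h2⟩ := Submodule.mem_inf.1 hu
      rw [hmemE, LinearMap.add_apply, LinearMap.add_apply, Module.End.one_apply,
        Module.End.mul_apply, mem_fix.1 h1, mem_fix.1 h1, htwo, zero_add] at h2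
      exact h2
    have h1 : P * (1 + P + P * P) = 1 + P + P * P := by
      rw [mul_add, mul_add, mul_one, ← mul_assoc, hP3]; abel
    have h2 : (1 + P + P * P) * (1 + P + P * P) = 1 + P + P * P := by
      rw [add_mul (1 + P), add_mul 1 P, one_mul, mul_assoc, h1, h1]
      refine LinearMap.ext fun u => ?_
      rw [LinearMap.add_apply, LinearMap.add_apply, htwo, zero_add]
    have hsup : ∀ u : X, (1 + P + P * P) u ∈ fix P ∧ u - (1 + P + P * P) u ∈ E := fun u =>
      ⟨mem_fix.2 (by rw [← Module.End.mul_apply, h1]),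
        (hmemE _).2 (by rw [map_sub, ← Module.End.mul_apply (1 + P + P * P), h2, sub_self])⟩
    have hcompl : fix P ⊔ E = ⊤ := top_le_iff.1 fun u _ =>
      Submodule.mem_sup.2 ⟨_, (hsup u).1, _, (hsup u).2, add_sub_cancel _ _⟩
    have hrk := Submodule.finrank_sup_add_finrank_inf_eq (fix P) E
    rw [hcompl, hdisj, finrank_bot, finrank_top, hn] at hrk
    have hFpos : 1 ≤ finrank (ZMod 2) (fix P) := Submodule.one_le_finrank_iff.2 hFne
    have hFlt : finrank (ZMod 2) (fix P) < 6 := hn ▸ Submodule.finrank_lt hFtop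
    let θ : Q₀ →* Module.End (ZMod 2) X := (Units.coeHom _).comp Q₀.subtype
    have hsub : ∀ (Y : Submodule (ZMod 2) X), finrank (ZMod 2) Y ≤ 5 →
        (∀ b : Q₀, ∀ u ∈ Y, θ b u ∈ Y) → ∀ a b : Q₀, ∀ u ∈ Y, θ a (θ b u) = θ b (θ a u) := by
      intro Y hY hYi a b u hu
      let θY : Q₀ →* Module.End (ZMod 2) Y :=
        { toFun := fun b => (θ b).restrict (hYi b)
          map_one' := LinearMap.ext fun u => Subtype.ext (by simp)
          map_mul' := fun a b => LinearMap.ext fun u => Subtype.ext (by simp) }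
      exact congrArg Subtype.val (LinearMap.congr_fun
        (commute_of_small hq hq2 hQ hY θY a b) ⟨u, hu⟩)
    have hFi : ∀ b : Q₀, ∀ u ∈ fix P, θ b u ∈ fix P := fun b u hu => mem_fix.2 (by
      rw [← Module.End.mul_apply]
      show (P * ((b : (Module.End (ZMod 2) X)ˣ) : Module.End (ZMod 2) X)) u = _
      rw [hPc, Module.End.mul_apply, mem_fix.1 hu]
      rfl)
    have hEi : ∀ b : Q₀, ∀ u ∈ E, θ b u ∈ E := fun b u hu => by
      rw [hmemE] at hu ⊢
      have hb : Commute (1 + P + P * P) (θ b) :=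
        ((Commute.one_left _).add_left (hPc b)).add_left
          ((show Commute P (θ b) from hPc b).mul_left (show Commute P (θ b) from hPc b))
      rw [← Module.End.mul_apply, hb.eq, Module.End.mul_apply, hu, map_zero]
    refine hnc fun a ha b hb => Units.ext (LinearMap.ext fun u => ?_)
    show θ ⟨a, ha⟩ (θ ⟨b, hb⟩ u) = θ ⟨b, hb⟩ (θ ⟨a, ha⟩ u)
    conv_lhs => rw [← add_sub_cancel ((1 + P + P * P) u) u]
    conv_rhs => rw [← add_sub_cancel ((1 + P + P * P) u) u]
    simp only [map_add]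
    rw [hsub _ (by omega) hFi _ _ _ (hsup u).1, hsub _ (by omega) hEi _ _ _ (hsup u).2]
  -- the kernels
  set M : Module.End (ZMod 2) X := (Vu : Module.End (ZMod 2) X) - 1 with hM
  have hMP : ∀ n, ∀ u ∈ LinearMap.ker (M ^ n), P u ∈ LinearMap.ker (M ^ n) := fun n u hu => by
    rw [LinearMap.mem_ker] at hu ⊢
    have hc' : Commute P M := Commute.sub_right hPV (Commute.one_right P)
    rw [← Module.End.mul_apply, ← (hc'.pow_right n).eq, Module.End.mul_apply, hu, map_zero]
  have hM4 : M ^ 4 = 0 := by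
    have h : ((Polynomial.X : Polynomial (ZMod 2)) - 1) ^ 2 ^ 2 = Polynomial.X ^ 2 ^ 2 - 1 := by
      rw [sub_pow_char_pow, one_pow]
    have h' := congrArg (Polynomial.aeval (Vu : Module.End (ZMod 2) X)) h
    simp only [map_pow, map_sub, Polynomial.aeval_X, map_one] at h'
    rw [show (4 : ℕ) = 2 ^ 2 by norm_num, hM, h', show (2 : ℕ) ^ 2 = 4 by norm_num, ← Units.val_pow_eq_pow_val,
      hV4, Units.val_one, sub_self]
  by_contra h3
  have hne3 : ∀ n, n < 3 → finrank (ZMod 2) (LinearMap.ker (M ^ n)) <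
      finrank (ZMod 2) (LinearMap.ker (M ^ (n + 1))) := by
    intro n hn'
    have hle : LinearMap.ker (M ^ n) ≤ LinearMap.ker (M ^ (n + 1)) := fun u hu => by
      rw [LinearMap.mem_ker] at hu ⊢
      rw [pow_succ', Module.End.mul_apply, hu, map_zero]
    refine Submodule.finrank_lt_finrank_of_lt (lt_of_le_of_ne hle fun heq => h3 ?_)
    have hst := Module.End.ker_pow_constant heq (4 - n)
    rw [show n + (4 - n) = 4 by omega, hM4, LinearMap.ker_zero] at hst
    obtain ⟨l, hl⟩ := Nat.exists_eq_add_of_le (show n ≤ 3 by omega)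
    rw [hl, pow_add, (LinearMap.ker_eq_top (f := M ^ n)).1 hst, zero_mul]
  have e0 := hne3 0 (by norm_num)
  have e1 := hne3 1 (by norm_num)
  have e2 := hne3 2 (by norm_num)
  obtain ⟨m1, hm1⟩ := even_of_fpf hP3 hPF _ (hMP 1)
  obtain ⟨m2, hm2⟩ := even_of_fpf hP3 hPF _ (hMP 2)
  obtain ⟨m3, hm3⟩ := even_of_fpf hP3 hPF _ (hMP 3)
  change _ < finrank (ZMod 2) (LinearMap.ker (M ^ 1)) at e0
  change _ < finrank (ZMod 2) (LinearMap.ker (M ^ 2)) at e1
  change _ < finrank (ZMod 2) (LinearMap.ker (M ^ 3)) at e2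
  have hlt : finrank (ZMod 2) (LinearMap.ker (M ^ 3)) < 6 :=
    hn ▸ Submodule.finrank_lt fun h => h3 ((LinearMap.ker_eq_top (f := M ^ 3)).1 h)
  omega

end Cfsg.Agent.GrossTwo
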