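import Cfsg.Agent.Lib.GrossTwo.Linear
import Mathlib.GroupTheory.PGroup

/-!
Components of a symplectic space under a `2`-group with central commutators, and the spread of the
bound on negated spaces over an orbit of components.
-/

set_option autoImplicit false
set_option linter.unusedSectionVars false

open Module
open scoped commutatorElement

namespace Cfsg.Agent.GrossTwo

variable {r : ℕ} [Fact r.Prime] {W : Type*} [AddCommGroup W] [Module (ZMod r) W]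
  [FiniteDimensional (ZMod r) W] {Γ : Type*} [Group Γ] [Finite Γ]
  (β : W →ₗ[ZMod r] W →ₗ[ZMod r] ZMod r) (φ : Γ →* Module.End (ZMod r) W)

theorem zmod_two_ne_zero (hr2 : r ≠ 2) : (2 : ZMod r) ≠ 0 := by
  intro h
  have h' : ((2 : ℕ) : ZMod r) = 0 := by exact_mod_cast h
  rw [ZMod.natCast_eq_zero_iff] at h'
  exact hr2 ((Nat.prime_dvd_prime_iff_eq Fact.out Nat.prime_two).1 h')

theorem natCard_ne_zero_of_two_group (hr2 : r ≠ 2) {H : Type*} [Group H] [Finite H]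
    (h : IsPGroup 2 H) : (Nat.card H : ZMod r) ≠ 0 := by
  obtain ⟨n, hn⟩ := h.exists_card_eq
  rw [hn, Nat.cast_pow]
  exact pow_ne_zero _ (by exact_mod_cast zmod_two_ne_zero hr2)

theorem map_inj (g : Γ) : Function.Injective (φ g) := by
  intro a b hab
  have h : φ g⁻¹ (φ g a) = φ g⁻¹ (φ g b) := by rw [hab]
  rwa [← Module.End.mul_apply, ← Module.End.mul_apply, ← map_mul, inv_mul_cancel, map_one] at h

theorem conj_inv_mem {A : Subgroup Γ} {g : Γ} (hg : ∀ a ∈ A, g * a * g⁻¹ ∈ A) :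
    ∀ a ∈ A, g⁻¹ * a * g ∈ A := by
  intro a ha
  have h : ∀ n : ℕ, g ^ n * a * (g ^ n)⁻¹ ∈ A := by
    intro n
    induction n with
    | zero => simpa using ha
    | succ n ih =>
      rw [pow_succ', show g * g ^ n * a * (g * g ^ n)⁻¹ = g * (g ^ n * a * (g ^ n)⁻¹) * g⁻¹ by group]
      exact hg _ ih
  have h1 := h (orderOf g - 1)
  have hpos := (isOfFinOrder_of_finite g).orderOf_pos
  have hgi : g ^ (orderOf g - 1) = g⁻¹ :=
    eq_inv_of_mul_eq_one_left (by rw [← pow_succ, Nat.sub_add_cancel hpos, pow_orderOf_eq_one])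
  rwa [hgi, inv_inv] at h1

/-- The component of a common eigenvector. -/
theorem exists_component (hr2 : r ≠ 2) (hnd : NondegOn β ⊤) {A B : Subgroup Γ}
    (hA2 : IsPGroup 2 A) (hiso : ∀ a ∈ A, ∀ u w, β (φ a u) (φ a w) = β u w) (hBA : B ≤ A)
    (hBc : ∀ b ∈ B, ∀ a ∈ A, b * a = a * b) (hBsq : ∀ b ∈ B, b * b = 1)
    (hcomm : ∀ a ∈ A, ∀ a' ∈ A, ⁅a, a'⁆ ∈ B)
    (hsqrad : ∀ B₀ : Subgroup Γ, B₀ ≤ B → ∀ a ∈ A, (∀ a' ∈ A, ⁅a, a'⁆ ∈ B₀) → a * a ∈ B₀)
    {U : Submodule (ZMod r) W} (hU : U ≠ ⊥) (hUA : ∀ a ∈ A, ∀ w ∈ U, φ a w ∈ U) :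
    ∃ (B₀ R : Subgroup Γ) (W₁ : Submodule (ZMod r) W) (w₀ : W), w₀ ≠ 0 ∧ w₀ ∈ W₁ ∧ w₀ ∈ U ∧
      B₀ ≤ B ∧ (∀ a, a ∈ R ↔ a ∈ A ∧ ∀ a' ∈ A, ⁅a, a'⁆ ∈ B₀) ∧
      (∀ b ∈ B, b ∈ B₀ ↔ φ b w₀ = w₀) ∧
      (∀ a ∈ A, ∀ w ∈ W₁, φ a w ∈ W₁) ∧ NondegOn β W₁ ∧
      (∀ a ∈ R, (∀ w ∈ W₁, φ a w = w) ∨ ∀ w ∈ W₁, φ a w = -w) ∧
      (∀ a ∈ A, a ∉ R → ∃ a' ∈ A, ∀ w ∈ W₁, φ a (φ a' w) = -φ a' (φ a w)) ∧
      ∀ g : Γ, (∀ a ∈ A, g * a * g⁻¹ ∈ A) → (∀ b ∈ B, g * b * g⁻¹ ∈ B) →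
        W₁.map (φ g) = W₁ ∨ ∀ u ∈ W₁, ∀ w ∈ W₁, β u (φ g w) = 0 := by
  classical
  haveI := Fintype.ofFinite Γ
  have h2 := zmod_two_ne_zero (r := r) hr2
  have hφφ : ∀ (g h : Γ) (w : W), φ g (φ h w) = φ (g * h) w := fun g h w => by
    rw [map_mul, Module.End.mul_apply]
  have hone : ∀ w : W, φ 1 w = w := fun w => by rw [map_one, Module.End.one_apply]
  obtain ⟨w₁, hw₁U, hw₁0, hw₁⟩ := exists_common_eigen (Finset.univ.filter (· ∈ B)) (fun b => φ b)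
    U hU (fun b hb => hUA b (hBA (by simpa using hb)))
    (fun b hb w _ => by rw [hφφ, hBsq b (by simpa using hb), hone])
    (fun b hb c hc w _ => by
      rw [hφφ, hφφ, hBc b (by simpa using hb) c (hBA (by simpa using hc))])
  replace hw₁ : ∀ b ∈ B, φ b w₁ = w₁ ∨ φ b w₁ = -w₁ := fun b hb => hw₁ b (by simpa using hb)
  let B₀ : Subgroup Γ :=
    { carrier := {b | b ∈ B ∧ φ b w₁ = w₁}
      one_mem' := ⟨one_mem B, hone w₁⟩
      mul_mem' := fun {b c} hb hc => ⟨mul_mem hb.1 hc.1, by rw [← hφφ, hc.2, hb.2]⟩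
      inv_mem' := fun {b} hb => ⟨inv_mem hb.1, by
        conv_lhs => rw [← hb.2]
        rw [hφφ, inv_mul_cancel, hone]⟩ }
  have hB₀B : B₀ ≤ B := fun b hb => hb.1
  let Wχ : Submodule (ZMod r) W := ⨅ b : B, if φ (b : Γ) w₁ = w₁ then fix (φ b) else neg (φ b)
  have hχmem : ∀ w, w ∈ Wχ ↔
      ∀ b ∈ B, (φ b w₁ = w₁ → φ b w = w) ∧ (φ b w₁ ≠ w₁ → φ b w = -w) := by
    intro w
    simp only [Wχ, Submodule.mem_iInf, Subtype.forall]
    refine forall₂_congr fun b _ => ?_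
    split_ifs with h
    · simp [mem_fix, h]
    · simp [mem_neg, h]
  have hw₁χ : w₁ ∈ Wχ := (hχmem _).2 fun b hb => ⟨id, fun h => (hw₁ b hb).resolve_left h⟩
  have hχA : ∀ a ∈ A, ∀ w ∈ Wχ, φ a w ∈ Wχ := fun a ha w hw => (hχmem _).2 fun b hb => by
    have hc : φ b (φ a w) = φ a (φ b w) := by rw [hφφ, hφφ, hBc b hb a ha]
    exact ⟨fun h => by rw [hc, ((hχmem w).1 hw b hb).1 h],
      fun h => by rw [hc, ((hχmem w).1 hw b hb).2 h, map_neg]⟩
  have hB₀χ : ∀ b ∈ B₀, ∀ w ∈ Wχ, φ b w = w := fun b hb w hw => ((hχmem w).1 hw b hb.1).1 hb.2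
  have hcomm_mul : ∀ a ∈ A, ∀ b ∈ A, ∀ c ∈ A, ⁅a * b, c⁆ = ⁅b, c⁆ * ⁅a, c⁆ := by
    intro a ha b hb c hc
    have h : ⁅a * b, c⁆ = a * ⁅b, c⁆ * a⁻¹ * ⁅a, c⁆ := by simp [commutatorElement_def, mul_assoc]
    rw [h, ← hBc _ (hcomm b hb c hc) a ha, mul_inv_cancel_right]
  let R : Subgroup Γ :=
    { carrier := {a | a ∈ A ∧ ∀ a' ∈ A, ⁅a, a'⁆ ∈ B₀}
      one_mem' := ⟨one_mem A, fun a' _ => by rw [commutatorElement_one_left]; exact one_mem _⟩
      mul_mem' := fun {a b} ha hb => ⟨mul_mem ha.1 hb.1, fun c hc => by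
        rw [hcomm_mul a ha.1 b hb.1 c hc]; exact mul_mem (hb.2 c hc) (ha.2 c hc)⟩
      inv_mem' := fun {a} ha => ⟨inv_mem ha.1, fun c hc => by
        have h := hcomm_mul a⁻¹ (inv_mem ha.1) a ha.1 c hc
        rw [inv_mul_cancel, commutatorElement_one_left] at h
        rw [show ⁅a⁻¹, c⁆ = ⁅a, c⁆⁻¹ from eq_inv_of_mul_eq_one_right h.symm]
        exact inv_mem (ha.2 c hc)⟩ }
  have hBR : B ≤ R := fun b hb => ⟨hBA hb, fun c hc => by
    rw [commutatorElement_eq_one_iff_mul_comm.2 (hBc b hb c hc)]; exact one_mem _⟩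
  obtain ⟨w₀, hw₀', hw₀0, hw₀⟩ := exists_common_eigen (Finset.univ.filter (· ∈ R)) (fun a => φ a)
    (U ⊓ Wχ) ((Submodule.ne_bot_iff _).2 ⟨w₁, ⟨hw₁U, hw₁χ⟩, hw₁0⟩)
    (fun a ha w hw => by
      have ha' : a ∈ R := by simpa using ha
      exact ⟨hUA a ha'.1 w hw.1, hχA a ha'.1 w hw.2⟩)
    (fun a ha w hw => by
      have ha' : a ∈ R := by simpa using ha
      rw [hφφ]
      exact hB₀χ _ (hsqrad B₀ hB₀B a ha'.1 ha'.2) w hw.2)
    (fun a ha c hc w hw => by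
      have ha' : a ∈ R := by simpa using ha
      have hc' : c ∈ R := by simpa using hc
      rw [hφφ, hφφ, show a * c = ⁅a, c⁆ * (c * a) by simp [commutatorElement_def, mul_assoc],
        ← hφφ]
      refine hB₀χ _ (ha'.2 c hc'.1) _ ?_
      rw [← hφφ]
      exact hχA c hc'.1 _ (hχA a ha'.1 w hw.2))
  replace hw₀ : ∀ a ∈ R, φ a w₀ = w₀ ∨ φ a w₀ = -w₀ := fun a ha => hw₀ a (by simpa using ha)
  have hsc : ∀ {c d : ZMod r}, c • w₀ = d • w₀ → c = d := fun {c d} h =>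
    smul_left_injective (ZMod r) hw₀0 h
  let s : Γ → ZMod r := fun a => if φ a w₀ = w₀ then 1 else -1
  have hs : ∀ a ∈ R, φ a w₀ = s a • w₀ := fun a ha => by
    by_cases h : φ a w₀ = w₀
    · simp [s, h]
    · simp [s, h, (hw₀ a ha).resolve_left h]
  have hsmul : ∀ a ∈ R, ∀ b ∈ R, s (a * b) = s a * s b := fun a ha b hb => hsc (by
    rw [← hs _ (mul_mem ha hb), ← hφφ, hs b hb, map_smul, hs a ha, smul_smul, mul_comm])
  have hssq : ∀ a, s a * s a = 1 := fun a => by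
    by_cases h : φ a w₀ = w₀ <;> simp [s, h]
  have hsB₀ : ∀ b ∈ B, b ∈ B₀ ↔ φ b w₀ = w₀ := by
    intro b hb
    refine ⟨fun h => hB₀χ b h w₀ hw₀'.2, fun h => ⟨hb, ?_⟩⟩
    by_contra hne
    have h' := ((hχmem _).1 hw₀'.2 b hb).2 hne
    exact hw₀0 (eq_zero_of_fix_neg h2 (mem_fix.2 h) (mem_neg.2 h'))
  have hs₀ : ∀ b ∈ B₀, s b = 1 := fun b hb => if_pos ((hsB₀ b hb.1).1 hb)
  let W₁ : Submodule (ZMod r) W := ⨅ a : R, LinearMap.ker (φ (a : Γ) - s a • 1)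
  have hmem : ∀ w, w ∈ W₁ ↔ ∀ a ∈ R, φ a w = s a • w := by
    intro w
    simp [W₁, Submodule.mem_iInf, sub_eq_zero]
  refine ⟨B₀, R, W₁, w₀, hw₀0, (hmem _).2 hs, hw₀'.1, hB₀B, fun a => Iff.rfl, hsB₀, ?_, ?_, ?_, ?_, ?_⟩
  · intro a ha w hw
    refine (hmem _).2 fun c hc => ?_
    have hd : ⁅c⁻¹, a⁻¹⁆ ∈ B₀ := (inv_mem hc : c⁻¹ ∈ R).2 _ (inv_mem ha)
    rw [hφφ, show c * a = a * c * ⁅c⁻¹, a⁻¹⁆ by simp [commutatorElement_def, mul_assoc], ← hφφ,
      (hmem w).1 hw _ (hBR (hB₀B hd)), hs₀ _ hd, one_smul, ← hφφ, (hmem w).1 hw c hc, map_smul]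
  · intro u hu h
    refine hnd u trivial fun v _ => ?_
    let P : W := ∑ a : R, s a • φ (a : Γ) v
    have hP : P ∈ W₁ := (hmem _).2 fun c hc => by
      simp only [P, map_sum, map_smul, hφφ, Finset.smul_sum, smul_smul]
      refine Fintype.sum_equiv (Equiv.mulLeft (⟨c, hc⟩ : R)) _ _ fun a => ?_
      simp only [Equiv.coe_mulLeft, Subgroup.coe_mul]
      rw [hsmul c hc a a.2, ← mul_assoc, hssq, one_mul]
    have h1 := h P hP
    have hterm : ∀ a : R, β u (φ (a : Γ) v) = s a * β u v := fun a => by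
      have h3 : φ (a : Γ) (s a • u) = u := by
        rw [map_smul, (hmem u).1 hu a a.2, smul_smul, hssq, one_smul]
      conv_lhs => rw [← h3, hiso a a.2.1]
      rw [map_smul, LinearMap.smul_apply, smul_eq_mul]
    simp only [P, map_sum, map_smul, hterm, smul_eq_mul, ← mul_assoc, hssq, one_mul,
      Finset.sum_const, Finset.card_univ, nsmul_eq_mul] at h1
    refine (mul_eq_zero.1 h1).resolve_left ?_
    rw [← Nat.card_eq_fintype_card]
    exact natCard_ne_zero_of_two_group hr2 (hA2.to_le fun a ha => ha.1)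
  · intro a ha
    by_cases h : φ a w₀ = w₀
    · exact Or.inl fun w hw => by rw [(hmem w).1 hw a ha]; simp [s, h]
    · exact Or.inr fun w hw => by rw [(hmem w).1 hw a ha]; simp [s, h]
  · intro a ha haR
    have hex : ∃ a' ∈ A, ⁅a, a'⁆ ∉ B₀ := by
      by_contra hcon
      push Not at hcon
      exact haR ⟨ha, hcon⟩
    obtain ⟨a', ha', hb⟩ := hex
    have hbB := hcomm a ha a' ha'
    have hs1 : s ⁅a, a'⁆ = -1 := if_neg fun h => hb ((hsB₀ _ hbB).2 h)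
    refine ⟨a', ha', fun w hw => ?_⟩
    rw [hφφ, show a * a' = a' * a * ⁅a⁻¹, a'⁻¹⁆ by simp [commutatorElement_def, mul_assoc],
      ← hφφ, ← hφφ]
    have hb' : ⁅a⁻¹, a'⁻¹⁆ = ⁅a, a'⁆ := by
      have e : ⁅a, a'⁆ = (a * a') * ⁅a⁻¹, a'⁻¹⁆ * (a * a')⁻¹ := by
        simp [commutatorElement_def, mul_assoc]
      rw [e, ← hBc _ (hcomm _ (inv_mem ha) _ (inv_mem ha')) _ (mul_mem ha ha'),
        mul_inv_cancel_right]
    rw [hb', (hmem w).1 hw _ (hBR hbB), hs1, neg_one_smul, map_neg, map_neg]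
  · intro g hgA hgB
    have hinv : ∀ {g h : Γ} {w : W}, w ∈ W₁ → g⁻¹ * h * g ∈ R →
        φ h (φ g w) = s (g⁻¹ * h * g) • φ g w := fun {g h w} hw hh => by
      rw [← map_smul, ← (hmem w).1 hw _ hh, hφφ, hφφ]
      congr 2
      group
    have horth : ∀ h ∈ R, g⁻¹ * h * g ∈ R → s h ≠ s (g⁻¹ * h * g) →
        ∀ u ∈ W₁, ∀ w ∈ W₁, β u (φ g w) = 0 := by
      intro h hh hh' hne u hu w hw
      have e := hiso h hh.1 u (φ g w)
      rw [(hmem u).1 hu h hh, hinv hw hh', map_smul, map_smul, LinearMap.smul_apply, smul_eq_mul,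
        smul_eq_mul] at e
      have e' : (s (g⁻¹ * h * g) * s h - 1) * β u (φ g w) = 0 := by
        rw [sub_mul, one_mul, mul_assoc, e, sub_self]
      refine (mul_eq_zero.1 e').resolve_left fun h0 => hne ?_
      calc s h = s (g⁻¹ * h * g) * s (g⁻¹ * h * g) * s h := by rw [hssq, one_mul]
        _ = s (g⁻¹ * h * g) := by rw [mul_assoc, sub_eq_zero.1 h0, mul_one]
    by_cases hall : ∀ h ∈ R, g⁻¹ * h * g ∈ R → s h = s (g⁻¹ * h * g)
    swap
    · push Not at hall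
      obtain ⟨h, hh, hh', hne⟩ := hall
      exact Or.inr (horth h hh hh' hne)
    have hgA' := conj_inv_mem hgA
    have hgB' := conj_inv_mem hgB
    have hconjB₀ : ∀ b ∈ B₀, g⁻¹ * b * g ∈ B₀ := fun b hb => by
      have hb' := hgB' b hb.1
      refine (hsB₀ _ hb').2 ?_
      rw [hs _ (hBR hb'), ← hall b (hBR hb.1) (hBR hb'), hs₀ b hb, one_smul]
    have hR : ∀ a ∈ R, g⁻¹ * a * g ∈ R := fun a ha => ⟨hgA' a ha.1, fun c hc => by
      have e : ⁅g⁻¹ * a * g, c⁆ = g⁻¹ * ⁅a, g * c * g⁻¹⁆ * g := by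
        simp [commutatorElement_def, mul_assoc]
      rw [e]
      exact hconjB₀ _ (ha.2 _ (hgA c hc))⟩
    left
    have hle : W₁.map (φ g) ≤ W₁ := by
      rintro _ ⟨w, hw, rfl⟩
      refine (hmem _).2 fun a ha => ?_
      rw [hinv hw (hR a ha), ← hall a ha (hR a ha)]
    refine Submodule.eq_of_le_of_finrank_le hle (le_of_eq ?_)
    exact (Submodule.equivMapOfInjective _ (map_inj φ g) W₁).finrank_eq

/-- A power of two describes the powers lying in a subgroup. -/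
theorem exists_two_pow_dvd (H : Subgroup Γ) (x : Γ) (n : ℕ) (hx : x ^ 2 ^ n ∈ H) :
    ∃ h ≤ n, ∀ t : ℕ, x ^ t ∈ H ↔ 2 ^ h ∣ t := by
  classical
  have hex : ∃ h, x ^ 2 ^ h ∈ H := ⟨n, hx⟩
  refine ⟨Nat.find hex, Nat.find_le hx, fun t => ⟨fun ht => ?_, ?_⟩⟩
  · obtain ⟨a, ha, he⟩ := (Nat.dvd_prime_pow Nat.prime_two).1
      (Nat.gcd_dvd_left (2 ^ Nat.find hex) t)
    have hmem : x ^ 2 ^ a ∈ H := by
      have h1 := Nat.gcd_eq_gcd_ab (2 ^ Nat.find hex) t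
      rw [he] at h1
      rw [← zpow_natCast, h1, zpow_add, zpow_mul, zpow_mul, zpow_natCast, zpow_natCast]
      exact mul_mem (zpow_mem (Nat.find_spec hex) _) (zpow_mem ht _)
    have := Nat.find_le (h := hex) hmem
    rw [show Nat.find hex = a by omega, ← he]
    exact Nat.gcd_dvd_right _ _
  · rintro ⟨k, rfl⟩
    rw [pow_mul]
    exact pow_mem (Nat.find_spec hex) _

/-- The bound on negated spaces spreads over the orbit of a component. -/
theorem exists_orbit (hsim : ∀ g : Γ, ∃ c : ZMod r, c ≠ 0 ∧ ∀ u w, β (φ g u) (φ g w) = c * β u w)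
    (halt : ∀ w, β w w = 0) {A : Subgroup Γ} (v : Γ) (hvA : ∀ a ∈ A, v * a * v⁻¹ ∈ A)
    {W₁ : Submodule (ZMod r) W} (hne : W₁ ≠ ⊥) (hAW : ∀ a ∈ A, ∀ w ∈ W₁, φ a w ∈ W₁)
    (hndW : NondegOn β W₁)
    (hdich : ∀ t : ℕ, W₁.map (φ (v ^ t)) = W₁ ∨ ∀ u ∈ W₁, ∀ w ∈ W₁, β u (φ (v ^ t) w) = 0)
    (m : ℕ) (hv : v ^ 2 ^ (m + 1) = 1) {S : Set Γ} (hSA : ∀ a ∈ S, a ∈ A) (hS1 : 1 ∈ S)
    (hord : ∀ a ∈ S, (a * v) ^ 2 ^ (m + 1) = 1)
    (hminus : ∀ a ∈ S, finrank (ZMod r) (neg (φ ((a * v) ^ 2 ^ m))) ≤ 2 ^ m) :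
    ∃ l ≤ m, W₁.map (φ (v ^ 2 ^ l)) = W₁ ∧
      ∀ a ∈ S, 2 ^ l * finrank (ZMod r) ↥(W₁ ⊓ neg (φ ((a * v) ^ 2 ^ m))) ≤ 2 ^ m := by
  classical
  have hφφ : ∀ (g h : Γ) (w : W), φ g (φ h w) = φ (g * h) w := fun g h w => by
    rw [map_mul, Module.End.mul_apply]
  let St : Subgroup Γ :=
    { carrier := {g | W₁.map (φ g) = W₁}
      one_mem' := by
        show W₁.map (φ 1) = W₁
        rw [map_one]
        exact Submodule.map_id _
      mul_mem' := fun {g h} hg hh => by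
        show W₁.map (φ (g * h)) = W₁
        rw [map_mul, Module.End.mul_eq_comp, Submodule.map_comp, hh, hg]
      inv_mem' := fun {g} hg => by
        show W₁.map (φ g⁻¹) = W₁
        conv_lhs => rw [← hg]
        rw [← Submodule.map_comp, ← Module.End.mul_eq_comp, ← map_mul, inv_mul_cancel, map_one]
        exact Submodule.map_id _ }
  have hSt : ∀ g, g ∈ St ↔ W₁.map (φ g) = W₁ := fun g => Iff.rfl
  obtain ⟨l, hl, hlt⟩ := exists_two_pow_dvd St v (m + 1) (by rw [hv]; exact one_mem _)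
  -- the cosets move the component as the powers of `v` do
  have hcoset : ∀ a ∈ A, ∀ n : ℕ, ∃ b ∈ A, (a * v) ^ n = v ^ n * b := by
    intro a ha n
    induction n with
    | zero => exact ⟨1, one_mem A, by simp⟩
    | succ n ih =>
      obtain ⟨b, hb, he⟩ := ih
      exact ⟨v⁻¹ * (b * a) * v, conj_inv_mem hvA _ (mul_mem hb ha), by
        rw [pow_succ, he, pow_succ]; simp [mul_assoc]⟩
  have horth : ∀ a ∈ A, ∀ n : ℕ, ¬ 2 ^ l ∣ n → ∀ u ∈ W₁, ∀ w ∈ W₁,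
      β u (φ ((a * v) ^ n) w) = 0 := by
    intro a ha n hn u hu w hw
    obtain ⟨b, hb, he⟩ := hcoset a ha n
    rw [he, ← hφφ]
    exact ((hdich n).resolve_left fun h => hn ((hlt n).1 h)) u hu _ (hAW b hb w hw)
  have hnd' : ∀ g : Γ, NondegOn β (W₁.map (φ g)) := by
    rintro g _ ⟨u, hu, rfl⟩ h
    obtain ⟨c, hc, hcβ⟩ := hsim g
    rw [hndW u hu fun w hw => ?_, map_zero]
    have := h _ (Submodule.mem_map_of_mem hw)
    rw [hcβ] at this
    exact (mul_eq_zero.1 this).resolve_left hc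
  have horth' : ∀ a ∈ A, ∀ s t : ℕ, s < 2 ^ l → t < 2 ^ l → s ≠ t →
      ∀ u ∈ W₁.map (φ ((a * v) ^ s)), ∀ w ∈ W₁.map (φ ((a * v) ^ t)), β u w = 0 := by
    intro a ha s t hs ht hst
    have key : ∀ s t : ℕ, t < 2 ^ l → s < t → ∀ u ∈ W₁, ∀ w ∈ W₁,
        β (φ ((a * v) ^ s) u) (φ ((a * v) ^ t) w) = 0 := by
      intro s t ht hst u hu w hw
      obtain ⟨c, -, hc⟩ := hsim ((a * v) ^ s)
      rw [← Nat.add_sub_cancel' hst.le, pow_add, ← hφφ, hc,
        horth a ha (t - s) (Nat.not_dvd_of_pos_of_lt (by omega) (by omega)) u hu w hw, mul_zero]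
    rintro _ ⟨u, hu, rfl⟩ _ ⟨w, hw, rfl⟩
    rcases lt_or_gt_of_ne hst with h | h
    · exact key s t ht h u hu w hw
    · have hz := key t s hs h w hw u hu
      exact (LinearMap.IsAlt.isRefl (B := β) halt) _ _ hz
  -- the component cannot be moved by the last power
  have hlm : l ≤ m := by
    by_contra hcon
    obtain rfl : l = m + 1 := by omega
    let g := fun t : ℕ => φ ((1 * v) ^ t)
    let Ψ : (Fin (2 ^ m) → W₁) →ₗ[ZMod r] W :=
      ∑ t : Fin (2 ^ m), (g t - g (t + 2 ^ m)) ∘ₗ W₁.subtype ∘ₗ LinearMap.proj t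
    have hP : φ ((1 * v) ^ 2 ^ m) * φ ((1 * v) ^ 2 ^ m) = 1 := by
      rw [← map_mul, ← pow_add, ← two_mul, ← pow_succ', one_mul, hv, map_one]
    have hΨ : ∀ y, Ψ y ∈ neg (φ ((1 * v) ^ 2 ^ m)) := fun y => by
      simp only [Ψ, LinearMap.sum_apply]
      refine Submodule.sum_mem _ fun t _ => mem_neg.2 ?_
      have e1 : φ ((1 * v) ^ 2 ^ m) * g t = g (t + 2 ^ m) := by
        simp only [g, ← map_mul, ← pow_add, add_comm]
      have e2 : φ ((1 * v) ^ 2 ^ m) * g (t + 2 ^ m) = g t := by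
        rw [← e1, ← mul_assoc, hP, one_mul]
      simp only [LinearMap.comp_apply, LinearMap.sub_apply, map_sub, ← Module.End.mul_apply, e1, e2,
        neg_sub]
    have hinj : Function.Injective (Ψ.codRestrict _ hΨ) := by
      rw [← LinearMap.ker_eq_bot, Submodule.eq_bot_iff]
      intro y hy
      have hy' : Ψ y = 0 := congrArg Subtype.val hy
      let u : Fin (2 ^ m) ⊕ Fin (2 ^ m) → W :=
        Sum.elim (fun t => g t (y t)) fun t => -g (t + 2 ^ m) (y t)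
      let idx : Fin (2 ^ m) ⊕ Fin (2 ^ m) → ℕ := Sum.elim (fun t => t) fun t => t + 2 ^ m
      have hidx : ∀ i, idx i < 2 ^ (m + 1) := by
        rintro (t | t) <;> simp only [idx, Sum.elim_inl, Sum.elim_inr] <;>
          (have := t.2; rw [pow_succ]; omega)
      have hidxi : Function.Injective idx := by
        rintro (s | s) (t | t) h <;> simp only [idx, Sum.elim_inl, Sum.elim_inr] at h
        · rw [Fin.ext h]
        · exact absurd s.2 (by omega)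
        · exact absurd t.2 (by omega)
        · rw [Fin.ext (by omega : (s : ℕ) = t)]
      have h0 := eq_zero_of_sum β (fun i => W₁.map (φ ((1 * v) ^ idx i))) (fun i => hnd' _)
        (fun i k hik => horth' 1 (one_mem A) _ _ (hidx i) (hidx k) fun h => hik (hidxi h)) u
        (by
          rintro (t | t)
          · exact Submodule.mem_map_of_mem (y t).2
          · exact Submodule.neg_mem _ (Submodule.mem_map_of_mem (y t).2))
        (by
          rw [← hy', Fintype.sum_sum_type]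
          simp [Ψ, u, sub_eq_add_neg, Finset.sum_add_distrib])
      refine funext fun t => Subtype.ext (map_inj φ _ ((h0 (Sum.inl t)).trans (map_zero _).symm))
    have h1 := LinearMap.finrank_le_finrank_of_injective hinj
    have hfin : finrank (ZMod r) (Fin (2 ^ m) → W₁) = 2 ^ m * finrank (ZMod r) W₁ := by
      rw [Module.finrank_pi_fintype]
      simp
    have h2 := hminus 1 hS1
    have hpos : 1 ≤ finrank (ZMod r) W₁ := Submodule.one_le_finrank_iff.2 hne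
    obtain ⟨k, hk⟩ := even_finrank β halt hndW
    have h3 : 2 ^ m * 2 ≤ 2 ^ m * finrank (ZMod r) W₁ := Nat.mul_le_mul_left _ (by omega)
    have := Nat.one_le_two_pow (n := m)
    omega
  refine ⟨l, hlm, (hSt _).1 ((hlt _).2 dvd_rfl), fun a ha => ?_⟩
  set P := φ ((a * v) ^ 2 ^ m) with hP
  let g := fun t : ℕ => φ ((a * v) ^ t)
  let Ψ : (Fin (2 ^ l) → ↥(W₁ ⊓ neg P)) →ₗ[ZMod r] W :=
    ∑ t : Fin (2 ^ l), g t ∘ₗ (W₁ ⊓ neg P).subtype ∘ₗ LinearMap.proj t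
  have hΨ : ∀ y, Ψ y ∈ neg P := fun y => by
    simp only [Ψ, LinearMap.sum_apply]
    refine Submodule.sum_mem _ fun t _ => mem_neg.2 ?_
    simp only [LinearMap.comp_apply, LinearMap.proj_apply, Submodule.subtype_apply]
    have e : P * g t = g t * P := by
      simp only [g, hP, ← map_mul, ← pow_add, add_comm]
    rw [← Module.End.mul_apply, e, Module.End.mul_apply, mem_neg.1 (y t).2.2, map_neg]
  have hinj : Function.Injective (Ψ.codRestrict _ hΨ) := by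
    rw [← LinearMap.ker_eq_bot, Submodule.eq_bot_iff]
    intro y hy
    have hy' : Ψ y = 0 := congrArg Subtype.val hy
    have h0 := eq_zero_of_sum β (fun t : Fin (2 ^ l) => W₁.map (g t)) (fun t => hnd' _)
      (fun s t hst => horth' a (hSA a ha) _ _ s.2 t.2 fun h => hst (Fin.ext h))
      (fun t => g t (y t)) (fun t => Submodule.mem_map_of_mem (y t).2.1)
      (by rw [← hy']; simp [Ψ])
    exact funext fun t => Subtype.ext (map_inj φ _ ((h0 t).trans (map_zero _).symm))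
  have h1 := LinearMap.finrank_le_finrank_of_injective hinj
  rw [Module.finrank_pi_fintype] at h1
  simp only [Finset.sum_const, Finset.card_univ, Fintype.card_fin, smul_eq_mul] at h1
  exact h1.trans (hminus a ha)

end Cfsg.Agent.GrossTwo
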