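import Cfsg.Agent.Lib.Solvable.HHLinear
import Cfsg.Agent.Lib.Classical.AlternatingForm

/-!
Linear algebra for Gross's bound on the `2`-length: involutions and alternating forms.
-/

set_option autoImplicit false
set_option linter.unusedSectionVars false

open Module

namespace Cfsg.Agent.GrossTwo

variable {K : Type*} [Field K] {W : Type*} [AddCommGroup W] [Module K W]

/-- The fixed space of an operator. -/
def fix (P : Module.End K W) : Submodule K W := LinearMap.ker (P - 1)

/-- The space negated by an operator. -/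
def neg (P : Module.End K W) : Submodule K W := LinearMap.ker (P + 1)

theorem mem_fix {P : Module.End K W} {w : W} : w ∈ fix P ↔ P w = w := by
  simp [fix, sub_eq_zero]

theorem mem_neg {P : Module.End K W} {w : W} : w ∈ neg P ↔ P w = -w := by
  simp [neg, add_eq_zero_iff_eq_neg]

theorem fix_neg (P : Module.End K W) : fix (-P) = neg P := by
  ext w
  rw [mem_fix, mem_neg, LinearMap.neg_apply, neg_eq_iff_eq_neg]

theorem eq_zero_of_fix_neg (h2 : (2 : K) ≠ 0) {P : Module.End K W} {w : W} (h1 : w ∈ fix P)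
    (h3 : w ∈ neg P) : w = 0 := by
  have h : (2 : K) • w = 0 := by
    rw [two_smul]
    exact add_eq_zero_iff_eq_neg.2 ((mem_fix.1 h1).symm.trans (mem_neg.1 h3))
  exact (smul_eq_zero.1 h).resolve_left h2

/-- A form is non-degenerate on a subspace. -/
def NondegOn (β : W →ₗ[K] W →ₗ[K] K) (U : Submodule K W) : Prop :=
  ∀ u ∈ U, (∀ w ∈ U, β u w = 0) → u = 0

variable [FiniteDimensional K W]

theorem finrank_fix_add_neg (h2 : (2 : K) ≠ 0) {P : Module.End K W} (hP : P * P = 1)
    {U : Submodule K W} (hU : ∀ w ∈ U, P w ∈ U) :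
    finrank K ↥(U ⊓ fix P) + finrank K ↥(U ⊓ neg P) = finrank K U := by
  have hPP : ∀ w, P (P w) = w := fun w => by rw [← Module.End.mul_apply, hP, Module.End.one_apply]
  have hsup : U ⊓ fix P ⊔ U ⊓ neg P = U := by
    refine le_antisymm (sup_le inf_le_left inf_le_left) fun w hw => ?_
    have h1 : (2 : K)⁻¹ • (w + P w) ∈ U ⊓ fix P :=
      ⟨U.smul_mem _ (U.add_mem hw (hU w hw)), mem_fix.2 (by rw [map_smul, map_add, hPP, add_comm])⟩
    have h3 : (2 : K)⁻¹ • (w - P w) ∈ U ⊓ neg P :=
      ⟨U.smul_mem _ (U.sub_mem hw (hU w hw)),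
        mem_neg.2 (by rw [map_smul, map_sub, hPP, ← smul_neg, neg_sub])⟩
    have heq : w = (2 : K)⁻¹ • (w + P w) + (2 : K)⁻¹ • (w - P w) := by
      rw [← smul_add, show w + P w + (w - P w) = (2 : K) • w by rw [two_smul]; abel, smul_smul,
        inv_mul_cancel₀ h2, one_smul]
    rw [heq]
    exact Submodule.add_mem_sup h1 h3
  have hinf : (U ⊓ fix P) ⊓ (U ⊓ neg P) = ⊥ :=
    (Submodule.eq_bot_iff _).2 fun w hw => eq_zero_of_fix_neg h2 hw.1.2 hw.2.2
  have h := Submodule.finrank_sup_add_finrank_inf_eq (U ⊓ fix P) (U ⊓ neg P)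
  rw [hsup, hinf, finrank_bot] at h
  omega

theorem finrank_le_of_maps {a : Module.End K W} (ha : Function.Injective a) {X Y : Submodule K W}
    (h : ∀ w ∈ X, a w ∈ Y) : finrank K X ≤ finrank K Y :=
  LinearMap.finrank_le_finrank_of_injective (f := a.restrict h)
    fun u w huw => Subtype.ext (ha (congrArg Subtype.val huw))

/-- An invariant subspace is halved by an involution negated by an operator. -/
theorem two_mul_finrank_fix (h2 : (2 : K) ≠ 0) {P : Module.End K W} (hP : P * P = 1)
    {a : Module.End K W} (ha : Function.Injective a) (hac : a * P = -(P * a)) {U : Submodule K W}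
    (hU : ∀ w ∈ U, P w ∈ U) (haU : ∀ w ∈ U, a w ∈ U) :
    2 * finrank K ↥(U ⊓ fix P) = finrank K U := by
  have hPa : ∀ w, P (a w) = -a (P w) := fun w => by
    rw [← Module.End.mul_apply a P, hac, LinearMap.neg_apply, neg_neg, Module.End.mul_apply]
  have h1 := finrank_le_of_maps ha (X := U ⊓ fix P) (Y := U ⊓ neg P) fun w hw =>
    ⟨haU w hw.1, mem_neg.2 (by rw [hPa, mem_fix.1 hw.2])⟩
  have h3 := finrank_le_of_maps ha (X := U ⊓ neg P) (Y := U ⊓ fix P) fun w hw =>
    ⟨haU w hw.1, mem_fix.2 (by rw [hPa, mem_neg.1 hw.2, map_neg, neg_neg])⟩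
  have := finrank_fix_add_neg h2 hP hU
  omega

variable (β : W →ₗ[K] W →ₗ[K] K)

theorem nondegOn_fix (h2 : (2 : K) ≠ 0) {P : Module.End K W} (hP : P * P = 1)
    (hiso : ∀ u w, β (P u) (P w) = β u w) {U : Submodule K W} (hU : ∀ w ∈ U, P w ∈ U)
    (hnd : NondegOn β U) : NondegOn β (U ⊓ fix P) := by
  intro u hu h
  refine hnd u hu.1 fun w hw => ?_
  have h1 := h (w + P w) ⟨U.add_mem hw (hU w hw), mem_fix.2 (by
    rw [map_add, ← Module.End.mul_apply, hP, Module.End.one_apply, add_comm])⟩
  have h3 : β u (P w) = β u w := by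
    conv_lhs => rw [← mem_fix.1 hu.2]
    exact hiso u w
  rw [map_add, h3, ← two_mul] at h1
  exact (mul_eq_zero.1 h1).resolve_left h2

theorem even_finrank (halt : ∀ w, β w w = 0) {U : Submodule K W} (hnd : NondegOn β U) :
    Even (finrank K U) := by
  have hA : (LinearMap.BilinForm.restrict β U).IsAlt := fun x => halt x
  have hN : (LinearMap.BilinForm.restrict β U).Nondegenerate :=
    (LinearMap.IsRefl.nondegenerate_iff_separatingLeft hA.isRefl).2 fun x hx =>
      Subtype.ext (hnd x x.2 fun w hw => hx ⟨w, hw⟩)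
  obtain ⟨m, hm⟩ := Cfsg.Agent.AltForm.exists_finrank_eq hA hN
  exact ⟨m, by omega⟩

/-- Members of pairwise orthogonal non-degenerate subspaces which add to zero vanish. -/
theorem eq_zero_of_sum {ι : Type*} [Fintype ι] (U : ι → Submodule K W)
    (hnd : ∀ i, NondegOn β (U i)) (horth : ∀ i k, i ≠ k → ∀ u ∈ U i, ∀ w ∈ U k, β u w = 0)
    (u : ι → W) (hu : ∀ i, u i ∈ U i) (h : ∑ i, u i = 0) : ∀ i, u i = 0 := by
  classical
  intro i
  refine hnd i _ (hu i) fun w hw => ?_
  have h1 : β (∑ k, u k) w = 0 := by rw [h]; simp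
  rw [map_sum, LinearMap.sum_apply, Finset.sum_eq_single i
    (fun k _ hk => horth k i hk _ (hu k) _ hw) (fun hi => absurd (Finset.mem_univ i) hi)] at h1
  exact h1

/-- Commuting involutions of an invariant subspace have a common eigenvector. -/
theorem exists_common_eigen {ι : Type*} (s : Finset ι) (f : ι → Module.End K W) :
    ∀ (U : Submodule K W), U ≠ ⊥ → (∀ i ∈ s, ∀ w ∈ U, f i w ∈ U) →
      (∀ i ∈ s, ∀ w ∈ U, f i (f i w) = w) →
      (∀ i ∈ s, ∀ k ∈ s, ∀ w ∈ U, f i (f k w) = f k (f i w)) →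
      ∃ w ∈ U, w ≠ 0 ∧ ∀ i ∈ s, f i w = w ∨ f i w = -w := by
  classical
  induction s using Finset.induction with
  | empty =>
    intro U hU _ _ _
    obtain ⟨w, hw, hw0⟩ := Submodule.exists_mem_ne_zero_of_ne_bot hU
    exact ⟨w, hw, hw0, by simp⟩
  | @insert a s _ ih =>
    intro U hU hinv hsq hcomm
    obtain ⟨w, hw, hw0, hws⟩ := ih U hU (fun i hi => hinv i (Finset.mem_insert_of_mem hi))
      (fun i hi => hsq i (Finset.mem_insert_of_mem hi))
      (fun i hi k hk => hcomm i (Finset.mem_insert_of_mem hi) k (Finset.mem_insert_of_mem hk))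
    have haU := hinv a (Finset.mem_insert_self a s) w hw
    have haa := hsq a (Finset.mem_insert_self a s) w hw
    by_cases h0 : w + f a w = 0
    · refine ⟨w, hw, hw0, fun i hi => ?_⟩
      rcases Finset.mem_insert.1 hi with rfl | hi
      · exact Or.inr (eq_neg_of_add_eq_zero_right h0)
      · exact hws i hi
    · refine ⟨w + f a w, U.add_mem hw haU, h0, fun i hi => ?_⟩
      rcases Finset.mem_insert.1 hi with rfl | hi'
      · exact Or.inl (by rw [map_add, haa, add_comm])
      · have hc := hcomm i hi a (Finset.mem_insert_self a s) w hw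
        rcases hws i hi' with h | h
        · exact Or.inl (by rw [map_add, hc, h])
        · exact Or.inr (by rw [map_add, hc, h, map_neg, neg_add])

theorem eq_zero_of_eq_nilpotent {N : Module.End K W} (hN : IsNilpotent N) {y : W} (h : N y = y) :
    y = 0 := by
  obtain ⟨n, hn⟩ := hN
  have h1 : ∀ k : ℕ, (N ^ k) y = y := by
    intro k
    induction k with
    | zero => simp
    | succ k ih => rw [pow_succ, Module.End.mul_apply, h, ih]
  rw [← h1 n, hn, LinearMap.zero_apply]

theorem pow_finrank_eq_zero {N : Module.End K W} (hN : IsNilpotent N) :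
    N ^ finrank K W = 0 := by
  obtain ⟨n, hn⟩ := hN
  refine LinearMap.ker_eq_top.1 (top_le_iff.1 ?_)
  rcases le_or_gt n (finrank K W) with h | h
  · rw [← Nat.sub_add_cancel h, pow_add, hn, mul_zero, LinearMap.ker_zero]
  · rw [← Module.End.ker_pow_eq_ker_pow_finrank_of_le h.le, hn, LinearMap.ker_zero]

end Cfsg.Agent.GrossTwo
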