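import Cfsg.Agent.Lib.GrossTwo.Linear

/-!
The local contradiction behind Gross's bound on the `2`-length: a `2`-group acting with scalar
commutators on a symplectic space and an automorphism whose cosets negate small subspaces.
-/

set_option autoImplicit false
set_option linter.unusedSectionVars false

open Module

namespace Cfsg.Agent.GrossTwo

section Triple

variable {K : Type*} [Field K] {W : Type*} [AddCommGroup W] [Module K W] [FiniteDimensional K W]
  (β : W →ₗ[K] W →ₗ[K] K)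

/-- Three commuting isometric involutions negated in turn cut the dimension by eight, to an even
number. -/
theorem eight_mul_finrank (h2 : (2 : K) ≠ 0) (halt : ∀ w, β w w = 0) (hnd : NondegOn β ⊤)
    {P₁ P₂ P₃ a₁ a₂ a₃ : Module.End K W} (hP₁ : P₁ * P₁ = 1) (hP₂ : P₂ * P₂ = 1) (hP₃ : P₃ * P₃ = 1)
    (hi₁ : ∀ u w, β (P₁ u) (P₁ w) = β u w) (hi₂ : ∀ u w, β (P₂ u) (P₂ w) = β u w)
    (hi₃ : ∀ u w, β (P₃ u) (P₃ w) = β u w) (h12 : Commute P₁ P₂) (h13 : Commute P₁ P₃)
    (h23 : Commute P₂ P₃) (ha₁ : Function.Injective a₁) (ha₂ : Function.Injective a₂)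
    (ha₃ : Function.Injective a₃) (h11 : a₁ * P₁ = -(P₁ * a₁)) (h21 : Commute a₂ P₁)
    (h22 : a₂ * P₂ = -(P₂ * a₂)) (h31 : Commute a₃ P₁) (h32 : Commute a₃ P₂)
    (h33 : a₃ * P₃ = -(P₃ * a₃)) :
    8 * finrank K ↥(fix P₁ ⊓ fix P₂ ⊓ fix P₃) = finrank K W ∧ 16 ∣ finrank K W := by
  have inv : ∀ {X P : Module.End K W}, Commute X P → ∀ w ∈ fix P, X w ∈ fix P := by
    intro X P h w hw
    rw [mem_fix, ← Module.End.mul_apply, ← h.eq, Module.End.mul_apply, mem_fix.1 hw]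
  have e1 : 2 * finrank K ↥(fix P₁) = finrank K W := by
    have h := two_mul_finrank_fix h2 hP₁ ha₁ h11 (U := ⊤) (fun _ _ => trivial) (fun _ _ => trivial)
    rwa [top_inf_eq, finrank_top] at h
  have e2 := two_mul_finrank_fix h2 hP₂ ha₂ h22 (U := fix P₁) (inv h12.symm) (inv h21)
  have e3 := two_mul_finrank_fix h2 hP₃ ha₃ h33 (U := fix P₁ ⊓ fix P₂)
    (fun w hw => ⟨inv h13.symm w hw.1, inv h23.symm w hw.2⟩)
    (fun w hw => ⟨inv h31 w hw.1, inv h32 w hw.2⟩)
  have n1 : NondegOn β (fix P₁) := by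
    have := nondegOn_fix β h2 hP₁ hi₁ (U := ⊤) (fun _ _ => trivial) hnd
    rwa [top_inf_eq] at this
  have n2 := nondegOn_fix β h2 hP₂ hi₂ (U := fix P₁) (inv h12.symm) n1
  have n3 := nondegOn_fix β h2 hP₃ hi₃ (U := fix P₁ ⊓ fix P₂)
    (fun w hw => ⟨inv h13.symm w hw.1, inv h23.symm w hw.2⟩) n2
  refine ⟨by omega, ?_⟩
  obtain ⟨m, hm⟩ := even_finrank β halt n3
  exact ⟨m, by omega⟩

/-- The negated space of a product of commuting involutions. -/
theorem finrank_neg_mul (h2 : (2 : K) ≠ 0) {P Y : Module.End K W} (hY : Y * Y = 1)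
    (hP : P * P = 1) (hc : Commute P Y) :
    finrank K (neg P) + finrank K (neg Y) ≤
      finrank K (neg (P * Y)) + 2 * finrank K ↥(neg P ⊓ neg Y) := by
  have invP : ∀ w ∈ neg P, Y w ∈ neg P := fun w hw => by
    rw [mem_neg, ← Module.End.mul_apply, hc.eq, Module.End.mul_apply, mem_neg.1 hw, map_neg]
  have invY : ∀ w ∈ neg Y, P w ∈ neg Y := fun w hw => by
    rw [mem_neg, ← Module.End.mul_apply, ← hc.eq, Module.End.mul_apply, mem_neg.1 hw, map_neg]
  have e1 := finrank_fix_add_neg h2 hY invP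
  have e2 := finrank_fix_add_neg h2 hP invY
  have hle1 : neg P ⊓ fix Y ⊔ neg Y ⊓ fix P ≤ neg (P * Y) := by
    refine sup_le (fun w hw => ?_) (fun w hw => ?_)
    · rw [mem_neg, Module.End.mul_apply, mem_fix.1 hw.2, mem_neg.1 hw.1]
    · rw [mem_neg, Module.End.mul_apply, mem_neg.1 hw.1, map_neg, mem_fix.1 hw.2]
  have hinf : (neg P ⊓ fix Y) ⊓ (neg Y ⊓ fix P) = ⊥ :=
    (Submodule.eq_bot_iff _).2 fun w hw => eq_zero_of_fix_neg h2 hw.2.2 hw.1.1
  have h := Submodule.finrank_sup_add_finrank_inf_eq (neg P ⊓ fix Y) (neg Y ⊓ fix P)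
  rw [hinf, finrank_bot] at h
  have hmono := Submodule.finrank_mono hle1
  rw [inf_comm (neg Y) (neg P)] at e2
  omega

end Triple

/-- The hypotheses of the local configuration. -/
structure LocalData {r : ℕ} [Fact r.Prime] {W : Type*} [AddCommGroup W] [Module (ZMod r) W]
    {Q : Type*} [AddCommGroup Q] [Module (ZMod 2) Q] {Γ : Type*} [Group Γ]
    (β : W →ₗ[ZMod r] W →ₗ[ZMod r] ZMod r) (φ : Γ →* Module.End (ZMod r) W) (A : Subgroup Γ)
    (v : Γ) (j : ℕ) (π : Γ → Q) (T : Module.End (ZMod 2) Q) (S : Set Γ) : Prop where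
  hr2 : r ≠ 2
  halt : ∀ w, β w w = 0
  hnd : NondegOn β ⊤
  hA : IsPGroup 2 A
  hvA : ∀ a ∈ A, v * a * v⁻¹ ∈ A
  hv : v ^ 2 ^ (j + 1) = 1
  hisoA : ∀ a ∈ A, ∀ u w, β (φ a u) (φ a w) = β u w
  hisoy : ∀ u w, β (φ (v ^ 2 ^ j) u) (φ (v ^ 2 ^ j) w) = β u w
  hπs : ∀ q, ∃ a ∈ A, π a = q
  hπm : ∀ a ∈ A, ∀ a' ∈ A, π (a * a') = π a + π a'
  hπc : ∀ a ∈ A, π (v * a * v⁻¹) = T (π a)
  hscal : ∀ a ∈ A, π a = 0 → φ a = 1 ∨ φ a = -1
  hrad : ∀ a ∈ A, (∀ a' ∈ A, Commute (φ a) (φ a')) → π a = 0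
  hSA : ∀ u ∈ S, u ∈ A
  hS1 : 1 ∈ S
  hSadd : ∀ u ∈ S, ∀ u' ∈ S, ∃ u'' ∈ S, π u'' = π u + π u'
  hSN : ∀ u ∈ S, ∃ u' ∈ S, π u' = (T - 1) (π u)
  hSord : ∀ u ∈ S, (u * v) ^ 2 ^ (j + 1) = 1
  hminus : ∀ u ∈ S, finrank (ZMod r) (neg (φ ((u * v) ^ 2 ^ j))) ≤ 2 ^ j

namespace LocalData

variable {r : ℕ} [Fact r.Prime] {W : Type*} [AddCommGroup W] [Module (ZMod r) W]
  [FiniteDimensional (ZMod r) W] {Q : Type*} [AddCommGroup Q] [Module (ZMod 2) Q] [Finite Q]
  {Γ : Type*} [Group Γ] {β : W →ₗ[ZMod r] W →ₗ[ZMod r] ZMod r}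
  {φ : Γ →* Module.End (ZMod r) W} {A : Subgroup Γ} {v : Γ} {j : ℕ} {π : Γ → Q}
  {T : Module.End (ZMod 2) Q} {S : Set Γ}

theorem two_ne_zero (D : LocalData β φ A v j π T S) : (2 : ZMod r) ≠ 0 := by
  intro h
  have h' : ((2 : ℕ) : ZMod r) = 0 := by exact_mod_cast h
  rw [ZMod.natCast_eq_zero_iff] at h'
  exact D.hr2 ((Nat.prime_dvd_prime_iff_eq Fact.out Nat.prime_two).1 h')

theorem inj (_D : LocalData β φ A v j π T S) (g : Γ) : Function.Injective (φ g) := by
  intro a b hab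
  have h : φ g⁻¹ (φ g a) = φ g⁻¹ (φ g b) := by rw [hab]
  rwa [← Module.End.mul_apply, ← Module.End.mul_apply, ← map_mul, inv_mul_cancel, map_one] at h

theorem pi_one (D : LocalData β φ A v j π T S) : π 1 = 0 := by
  have h := D.hπm 1 (one_mem A) 1 (one_mem A)
  rw [mul_one] at h
  exact left_eq_add.1 h

theorem char_two (_D : LocalData β φ A v j π T S) (q : Q) : q + q = 0 := by
  rw [← two_smul (ZMod 2), show (2 : ZMod 2) = 0 from rfl, zero_smul]

theorem pi_inv (D : LocalData β φ A v j π T S) {a : Γ} (ha : a ∈ A) : π a⁻¹ = π a := by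
  have h := D.hπm a⁻¹ (inv_mem ha) a ha
  rw [inv_mul_cancel, D.pi_one] at h
  rw [eq_neg_of_add_eq_zero_left h.symm, ← eq_neg_of_add_eq_zero_left (D.char_two (π a))]

theorem rel (D : LocalData β φ A v j π T S) {a a' : Γ} (ha : a ∈ A) (ha' : a' ∈ A)
    (h : π a = π a') : φ a = φ a' ∨ φ a = -φ a' := by
  have hc : π (a * a'⁻¹) = 0 := by
    rw [D.hπm a ha a'⁻¹ (inv_mem ha'), D.pi_inv ha', h, D.char_two]
  have he : φ a = φ (a * a'⁻¹) * φ a' := by rw [← map_mul, inv_mul_cancel_right]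
  rcases D.hscal _ (mul_mem ha (inv_mem ha')) hc with h1 | h1
  · exact Or.inl (by rw [he, h1, one_mul])
  · exact Or.inr (by rw [he, h1, neg_one_mul])

theorem commute_or (D : LocalData β φ A v j π T S) {a a' : Γ} (ha : a ∈ A) (ha' : a' ∈ A) :
    Commute (φ a) (φ a') ∨ φ a * φ a' = -(φ a' * φ a) := by
  have h := D.rel (mul_mem ha ha') (mul_mem ha' ha) (by rw [D.hπm a ha a' ha', D.hπm a' ha' a ha, add_comm])
  rwa [map_mul, map_mul] at h

/-- An invertible operator differs from its negative. -/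
theorem ne_neg (D : LocalData β φ A v j π T S) [Nontrivial W] (g : Γ) : φ g ≠ -φ g := by
  intro h
  obtain ⟨w, hw⟩ := exists_ne (0 : W)
  have h1 : (2 : ZMod r) • φ g w = 0 := by
    rw [two_smul]
    nth_rewrite 2 [h]
    rw [LinearMap.neg_apply, add_neg_cancel]
  exact hw (D.inj g (by rw [(smul_eq_zero.1 h1).resolve_left D.two_ne_zero, map_zero]))

theorem nontrivial_W (D : LocalData β φ A v j π T S) [Nontrivial Q] : Nontrivial W := by
  obtain ⟨q, hq⟩ := exists_ne (0 : Q)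
  obtain ⟨a, ha, rfl⟩ := D.hπs q
  by_contra h
  haveI := not_nontrivial_iff_subsingleton.1 h
  exact hq (D.hrad a ha fun a' _ => LinearMap.ext fun w => Subsingleton.elim _ _)

theorem not_commute_of_anti (D : LocalData β φ A v j π T S) [Nontrivial W] {g g' : Γ}
    (h : φ g * φ g' = -(φ g' * φ g)) : ¬ Commute (φ g) (φ g') := fun hc => by
  have h1 := hc.eq.symm.trans h
  rw [← map_mul] at h1
  exact D.ne_neg _ h1

/-- The commutation pairing. -/
theorem exists_pairing (D : LocalData β φ A v j π T S) [Nontrivial W] :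
    ∃ f : Q →ₗ[ZMod 2] Q →ₗ[ZMod 2] ZMod 2, Function.Injective f ∧
      ∀ a ∈ A, ∀ a' ∈ A, f (π a) (π a') = 0 ↔ Commute (φ a) (φ a') := by
  classical
  choose σ hσA hσ using D.hπs
  let g : Γ → Γ → ZMod 2 := fun a a' => if Commute (φ a) (φ a') then 0 else 1
  have hgsymm : ∀ a a', g a a' = g a' a := fun a a' => if_congr ⟨Commute.symm, Commute.symm⟩ rfl rfl
  have hwd : ∀ a ∈ A, ∀ b ∈ A, π a = π b → ∀ c, g a c = g b c := by
    intro a ha b hb h c
    rcases D.rel ha hb h with h1 | h1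
    · exact if_congr (by rw [h1]) rfl rfl
    · exact if_congr (by rw [h1, Commute.neg_left_iff]) rfl rfl
  have hmul : ∀ a ∈ A, ∀ b ∈ A, ∀ c ∈ A, g (a * b) c = g a c + g b c := by
    intro a ha b hb c hc
    by_cases h1 : Commute (φ a) (φ c)
    · by_cases h2 : Commute (φ b) (φ c)
      · simp only [g, if_pos h1, if_pos h2, add_zero, map_mul, if_pos (h1.mul_left h2)]
      · have h3 : φ (a * b) * φ c = -(φ c * φ (a * b)) := by
          rw [map_mul, mul_assoc, (D.commute_or hb hc).resolve_left h2, mul_neg, ← mul_assoc, h1.eq,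
            mul_assoc]
        simp only [g, if_pos h1, if_neg h2, if_neg (D.not_commute_of_anti h3), zero_add]
    · have e1 := (D.commute_or ha hc).resolve_left h1
      by_cases h2 : Commute (φ b) (φ c)
      · have h3 : φ (a * b) * φ c = -(φ c * φ (a * b)) := by
          rw [map_mul, mul_assoc, h2.eq, ← mul_assoc, e1, neg_mul, mul_assoc]
        simp only [g, if_neg h1, if_pos h2, if_neg (D.not_commute_of_anti h3), add_zero]
      · have h3 : Commute (φ (a * b)) (φ c) := by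
          show φ (a * b) * φ c = φ c * φ (a * b)
          rw [map_mul, mul_assoc, (D.commute_or hb hc).resolve_left h2, mul_neg, ← mul_assoc, e1,
            neg_mul, neg_neg, mul_assoc]
        simp only [g, if_neg h1, if_neg h2, if_pos h3]
        decide
  have hadd : ∀ q q' c, g (σ (q + q')) c = g (σ (q + q')) c := fun _ _ _ => rfl
  have hl : ∀ q q' : Q, ∀ c ∈ A, g (σ (q + q')) c = g (σ q) c + g (σ q') c := by
    intro q q' c hc
    rw [← hmul _ (hσA q) _ (hσA q') c hc]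
    exact hwd _ (hσA _) _ (mul_mem (hσA q) (hσA q'))
      (by rw [D.hπm _ (hσA q) _ (hσA q'), hσ, hσ, hσ]) c
  let f₀ : Q →+ Q →+ ZMod 2 := AddMonoidHom.mk' (fun q => AddMonoidHom.mk' (fun q' => g (σ q) (σ q'))
      fun x y => by rw [hgsymm, hl x y _ (hσA q), hgsymm (σ x), hgsymm (σ y)])
    fun x y => AddMonoidHom.ext fun q' => hl x y _ (hσA q')
  let f : Q →ₗ[ZMod 2] Q →ₗ[ZMod 2] ZMod 2 :=
    (AddMonoidHom.mk' (fun q => (f₀ q).toZModLinearMap 2)
      fun x y => LinearMap.ext fun z => by simp).toZModLinearMap 2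
  have hf : ∀ a ∈ A, ∀ a' ∈ A, f (π a) (π a') = 0 ↔ Commute (φ a) (φ a') := by
    intro a ha a' ha'
    show g (σ (π a)) (σ (π a')) = 0 ↔ _
    rw [hwd _ (hσA _) a ha (hσ _), hgsymm, hwd _ (hσA _) a' ha' (hσ _)]
    by_cases h : Commute (φ a') (φ a)
    · simp [g, h, h.symm]
    · simp only [g, if_neg h, one_ne_zero, false_iff]
      exact fun h' => h h'.symm
  refine ⟨f, ?_, hf⟩
  refine LinearMap.ker_eq_bot.1 ((Submodule.eq_bot_iff _).2 fun q hq => ?_)
  obtain ⟨a, ha, rfl⟩ := D.hπs q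
  exact D.hrad a ha fun a' ha' => (hf a ha a' ha').1 (by rw [LinearMap.mem_ker.1 hq]; rfl)

theorem zmod_two (x : ZMod 2) (h : x ≠ 0) : x = 1 := by revert x; decide

/-- Witnesses against three independent classes. -/
theorem exists_witness (D : LocalData β φ A v j π T S) [Nontrivial W] {b₁ b₂ b₃ : Γ} (h₁ : b₁ ∈ A)
    (h₂ : b₂ ∈ A) (h₃ : b₃ ∈ A) (i₁ : π b₁ ≠ 0) (i₂ : ∀ x : ZMod 2, π b₂ ≠ x • π b₁)
    (i₃ : ∀ x y : ZMod 2, π b₃ ≠ x • π b₁ + y • π b₂) :
    ∃ a₁ ∈ A, ∃ a₂ ∈ A, ∃ a₃ ∈ A, φ a₁ * φ b₁ = -(φ b₁ * φ a₁) ∧ Commute (φ a₂) (φ b₁) ∧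
      φ a₂ * φ b₂ = -(φ b₂ * φ a₂) ∧ Commute (φ a₃) (φ b₁) ∧ Commute (φ a₃) (φ b₂) ∧
      φ a₃ * φ b₃ = -(φ b₃ * φ a₃) := by
  obtain ⟨f, hfi, hf⟩ := D.exists_pairing
  have hanti : ∀ a ∈ A, ∀ b ∈ A, f (π b) (π a) ≠ 0 → φ a * φ b = -(φ b * φ a) := fun a ha b hb h =>
    (D.commute_or ha hb).resolve_left fun hc => h ((hf b hb a ha).2 hc.symm)
  have hcom : ∀ a ∈ A, ∀ b ∈ A, f (π b) (π a) = 0 → Commute (φ a) (φ b) := fun a ha b hb h =>
    ((hf b hb a ha).1 h).symm
  -- an element killed by the first functionals and not by the last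
  have key : ∀ {ι : Type} [Fintype ι] (c : ι → Q) (b : Q), b ∉ Submodule.span (ZMod 2) (Set.range c) →
      ∃ a ∈ A, (∀ i, f (c i) (π a) = 0) ∧ f b (π a) ≠ 0 := by
    intro ι _ c b hb
    by_contra hcon
    push Not at hcon
    refine hb ?_
    have hmem : f b ∈ Submodule.span (ZMod 2) (Set.range fun i => f (c i)) :=
      mem_span_of_iInf_ker_le_ker fun q hq => by
        obtain ⟨a, ha, rfl⟩ := D.hπs q
        simp only [Submodule.mem_iInf, LinearMap.mem_ker] at hq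
        exact LinearMap.mem_ker.2 (hcon a ha hq)
    rw [show (Set.range fun i => f (c i)) = f '' Set.range c from Set.range_comp f c,
      ← Submodule.map_span] at hmem
    obtain ⟨b', hb', hbb⟩ := hmem
    rwa [← hfi hbb]
  obtain ⟨a₁, ha₁, -, e₁⟩ := key (fun i : Fin 0 => (i.elim0 : Q)) (π b₁) (by
    rw [Set.range_eq_empty, Submodule.span_empty, Submodule.mem_bot]; exact i₁)
  obtain ⟨a₂, ha₂, c₂, e₂⟩ := key ![π b₁] (π b₂) (fun h => by
    rw [Matrix.range_cons, Matrix.range_empty, Set.union_empty, Submodule.mem_span_singleton] at h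
    obtain ⟨x, hx⟩ := h
    exact i₂ x hx.symm)
  obtain ⟨a₃, ha₃, c₃, e₃⟩ := key ![π b₁, π b₂] (π b₃) (fun h => by
    rw [Matrix.range_cons, Matrix.range_cons, Matrix.range_empty, Set.union_empty,
      Set.singleton_union, Submodule.mem_span_pair] at h
    obtain ⟨x, y, hxy⟩ := h
    exact i₃ x y hxy.symm)
  exact ⟨a₁, ha₁, a₂, ha₂, a₃, ha₃, hanti _ ha₁ _ h₁ e₁, hcom _ ha₂ _ h₁ (c₂ 0),
    hanti _ ha₂ _ h₂ e₂, hcom _ ha₃ _ h₁ (c₃ 0), hcom _ ha₃ _ h₂ (c₃ 1), hanti _ ha₃ _ h₃ e₃⟩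

/-- Operators of distinct classes are independent. -/
theorem card_le (D : LocalData β φ A v j π T S) [Nontrivial W] :
    Nat.card Q ≤ finrank (ZMod r) W ^ 2 := by
  classical
  haveI := Fintype.ofFinite Q
  choose σ hσA hσ using D.hπs
  have hL := HHLinear.linearIndependent_of_eigen (K := ZMod r)
    (fun a : A => LinearMap.mulLeft (ZMod r) (φ a) * LinearMap.mulRight (ZMod r) (φ (a : Γ)⁻¹))
    (fun q : Q => φ (σ q)) (fun q h => by
      obtain ⟨w, hw⟩ := exists_ne (0 : W)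
      exact hw (D.inj (σ q) (by rw [map_zero, h, LinearMap.zero_apply])))
    (fun q a => if Commute (φ a) (φ (σ q)) then 1 else -1)
    (fun q a => by
      show φ a * (φ (σ q) * φ (a : Γ)⁻¹) = _
      rcases D.commute_or a.2 (hσA q) with h | h
      · rw [if_pos h, one_smul, ← mul_assoc, h.eq, mul_assoc, ← map_mul, mul_inv_cancel, map_one,
          mul_one]
      · rw [if_neg (D.not_commute_of_anti h), neg_one_smul, ← mul_assoc, h, neg_mul, mul_assoc,
          ← map_mul, mul_inv_cancel, map_one, mul_one]) ?_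
  · rw [Nat.card_eq_fintype_card, sq]
    exact hL.fintype_card_le_finrank.trans (le_of_eq (finrank_linearMap (ZMod r) (ZMod r) W W))
  · intro q q' h
    have hne : (1 : ZMod r) ≠ -1 := fun h1 => D.two_ne_zero (by
      rw [← one_add_one_eq_two]; exact add_eq_zero_iff_eq_neg.2 h1)
    have h0 : π (σ q * σ q') = 0 := by
      refine D.hrad _ (mul_mem (hσA q) (hσA q')) fun a' ha' => ?_
      have h1 := congrFun h ⟨a', ha'⟩
      simp only at h1
      rw [map_mul]
      rcases D.commute_or ha' (hσA q) with c | c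
      · rw [if_pos c] at h1
        by_cases c' : Commute (φ a') (φ (σ q'))
        · exact (c.mul_right c').symm
        · rw [if_neg c'] at h1; exact absurd h1 hne
      · rw [if_neg (D.not_commute_of_anti c)] at h1
        by_cases c' : Commute (φ a') (φ (σ q'))
        · rw [if_pos c'] at h1; exact absurd h1.symm hne
        · show _ = _
          rw [mul_assoc, ← neg_neg (φ (σ q') * φ a'),
            ← (D.commute_or ha' (hσA q')).resolve_left c', mul_neg, ← mul_assoc, ← neg_mul, ← c,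
            mul_assoc]
    rw [D.hπm _ (hσA q) _ (hσA q'), hσ, hσ] at h0
    rw [eq_neg_of_add_eq_zero_left h0, ← eq_neg_of_add_eq_zero_left (D.char_two q')]

theorem pow_conj (D : LocalData β φ A v j π T S) (n : ℕ) {a : Γ} (ha : a ∈ A) :
    v ^ n * a * (v ^ n)⁻¹ ∈ A ∧ π (v ^ n * a * (v ^ n)⁻¹) = (T ^ n) (π a) := by
  induction n with
  | zero => simpa using ha
  | succ n ih =>
    have e : v ^ (n + 1) * a * (v ^ (n + 1))⁻¹ = v * (v ^ n * a * (v ^ n)⁻¹) * v⁻¹ := by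
      rw [pow_succ']; group
    rw [e, pow_succ', Module.End.mul_apply, ← ih.2]
    exact ⟨D.hvA _ ih.1, D.hπc _ ih.1⟩

theorem coset_pow (D : LocalData β φ A v j π T S) {u : Γ} (hu : u ∈ A) (n : ℕ) :
    ∃ b ∈ A, (u * v) ^ n = b * v ^ n ∧ π b = (∑ t ∈ Finset.range n, T ^ t) (π u) := by
  induction n with
  | zero => exact ⟨1, one_mem A, by simp, by simp [D.pi_one]⟩
  | succ n ih =>
    obtain ⟨b, hb, hbe, hbπ⟩ := ih
    obtain ⟨hc, hcπ⟩ := D.pow_conj n hu
    refine ⟨b * (v ^ n * u * (v ^ n)⁻¹), mul_mem hb hc, by rw [pow_succ, hbe, pow_succ]; group, ?_⟩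
    rw [D.hπm _ hb _ hc, hbπ, hcπ, Finset.sum_range_succ, LinearMap.add_apply]

theorem T_pow (D : LocalData β φ A v j π T S) : T ^ 2 ^ (j + 1) = 1 := by
  refine LinearMap.ext fun q => ?_
  obtain ⟨a, ha, rfl⟩ := D.hπs q
  rw [← (D.pow_conj _ ha).2, D.hv]
  simp

theorem sub_one_two_pow (_D : LocalData β φ A v j π T S) (n : ℕ) : (T - 1) ^ 2 ^ n = T ^ 2 ^ n - 1 := by
  have h : ((Polynomial.X : Polynomial (ZMod 2)) - 1) ^ 2 ^ n = Polynomial.X ^ 2 ^ n - 1 := by
    rw [sub_pow_char_pow, one_pow]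
  simpa using congrArg (Polynomial.aeval T) h

theorem nilpotent (D : LocalData β φ A v j π T S) : IsNilpotent (T - 1) :=
  ⟨2 ^ (j + 1), by rw [D.sub_one_two_pow, D.T_pow, sub_self]⟩

theorem Y_sq (D : LocalData β φ A v j π T S) : φ (v ^ 2 ^ j) * φ (v ^ 2 ^ j) = 1 := by
  rw [← map_mul, ← pow_add, ← two_mul, ← pow_succ', D.hv, map_one]

theorem minus_Y (D : LocalData β φ A v j π T S) :
    finrank (ZMod r) (neg (φ (v ^ 2 ^ j))) ≤ 2 ^ j := by
  have h := D.hminus 1 D.hS1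
  rwa [one_mul] at h

/-- The elements `(u v) ^ (2 ^ j) v ^ (-2 ^ j)`. -/
theorem exists_b (D : LocalData β φ A v j π T S) {u : Γ} (hu : u ∈ S) :
    ∃ b ∈ A, π b = ((T - 1) ^ (2 ^ j - 1) : Module.End (ZMod 2) Q) (π u) ∧
      φ (b * v ^ 2 ^ j) * φ (b * v ^ 2 ^ j) = 1 ∧
      finrank (ZMod r) (neg (φ b * φ (v ^ 2 ^ j))) ≤ 2 ^ j := by
  obtain ⟨b, hb, hbe, hbπ⟩ := D.coset_pow (D.hSA u hu) (2 ^ j)
  refine ⟨b, hb, ?_, ?_, ?_⟩
  · rw [hbπ, HHLinear.sub_one_pow_pred (K := ZMod 2)]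
  · rw [← map_mul, ← hbe, ← pow_add, ← two_mul, ← pow_succ', D.hSord u hu, map_one]
  · rw [← map_mul, ← hbe]; exact D.hminus u hu

/-- A non-trivial commutator with `v ^ (2 ^ j)` bounds the dimension. -/
theorem exists_c (D : LocalData β φ A v j π T S) {a : Γ} (ha : a ∈ A) :
    ∃ c ∈ A, c = v ^ 2 ^ j * a * (v ^ 2 ^ j)⁻¹ * a⁻¹ ∧
      π c = ((T - 1) ^ 2 ^ j : Module.End (ZMod 2) Q) (π a) := by
  obtain ⟨h1, h2⟩ := D.pow_conj (2 ^ j) ha
  refine ⟨_, mul_mem h1 (inv_mem ha), rfl, ?_⟩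
  rw [D.hπm _ h1 _ (inv_mem ha), h2, D.pi_inv ha, D.sub_one_two_pow, LinearMap.sub_apply,
    Module.End.one_apply, sub_eq_add_neg, ← eq_neg_of_add_eq_zero_left (D.char_two (π a))]

theorem finrank_le_four_mul (D : LocalData β φ A v j π T S) [Nontrivial W] {q : Q}
    (hq : ((T - 1) ^ 2 ^ j : Module.End (ZMod 2) Q) q ≠ 0) : finrank (ZMod r) W ≤ 4 * 2 ^ j := by
  obtain ⟨a, ha, rfl⟩ := D.hπs q
  obtain ⟨c, hc, hce, hcπ⟩ := D.exists_c ha
  have hne : ∃ a' ∈ A, φ a' * φ c = -(φ c * φ a') := by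
    by_contra h
    push Not at h
    exact hq (hcπ ▸ D.hrad c hc fun a' ha' =>
      ((D.commute_or ha' hc).resolve_right (h a' ha')).symm)
  obtain ⟨a', -, hanti⟩ := hne
  set Y := φ (v ^ 2 ^ j) with hY
  set Y' := φ (a * (v ^ 2 ^ j)⁻¹ * a⁻¹) with hY'
  have hcc : φ c = Y * Y' := by rw [hce, hY, hY', ← map_mul]; congr 1; group
  have hfix : fix Y ⊓ fix Y' ≤ fix (φ c) := fun w hw => by
    rw [mem_fix, hcc, Module.End.mul_apply, mem_fix.1 hw.2, mem_fix.1 hw.1]
  have hneg : finrank (ZMod r) (neg (φ c)) ≥ finrank (ZMod r) (fix (φ c)) :=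
    finrank_le_of_maps (D.inj a') fun w hw => mem_neg.2 (by
      have h := LinearMap.congr_fun hanti w
      rw [Module.End.mul_apply, LinearMap.neg_apply, Module.End.mul_apply, mem_fix.1 hw] at h
      exact neg_eq_iff_eq_neg.1 h.symm)
  have hdisj : finrank (ZMod r) (fix (φ c)) + finrank (ZMod r) (neg (φ c)) ≤ finrank (ZMod r) W := by
    rw [← Submodule.finrank_sup_add_finrank_inf_eq, show fix (φ c) ⊓ neg (φ c) = ⊥ from
      (Submodule.eq_bot_iff _).2 fun w hw => eq_zero_of_fix_neg D.two_ne_zero hw.1 hw.2,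
      finrank_bot, add_zero]
    exact Submodule.finrank_le _
  have hYY := D.Y_sq
  have hYY' : Y' * Y' = 1 := by
    rw [hY', ← map_mul, ← map_one φ]
    congr 1
    have h2 : (v ^ 2 ^ j)⁻¹ * (v ^ 2 ^ j)⁻¹ = 1 := by
      rw [← mul_inv_rev, ← pow_add, ← two_mul, ← pow_succ', D.hv, inv_one]
    calc a * (v ^ 2 ^ j)⁻¹ * a⁻¹ * (a * (v ^ 2 ^ j)⁻¹ * a⁻¹)
        = a * ((v ^ 2 ^ j)⁻¹ * (v ^ 2 ^ j)⁻¹) * a⁻¹ := by group
      _ = 1 := by rw [h2]; group
  have e1 := finrank_fix_add_neg D.two_ne_zero hYY (U := ⊤) fun _ _ => trivial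
  have e2 := finrank_fix_add_neg D.two_ne_zero hYY' (U := ⊤) fun _ _ => trivial
  rw [top_inf_eq, top_inf_eq, finrank_top] at e1 e2
  have hn' : finrank (ZMod r) (neg Y') ≤ 2 ^ j := by
    refine le_trans (finrank_le_of_maps (D.inj a⁻¹) (Y := neg Y) fun w hw => ?_) D.minus_Y
    have hinv : (v ^ 2 ^ j)⁻¹ = v ^ 2 ^ j := by
      rw [inv_eq_iff_mul_eq_one, ← pow_add, ← two_mul, ← pow_succ', D.hv]
    have hcomp : Y * φ a⁻¹ = φ a⁻¹ * Y' := by
      rw [hY, hY', ← map_mul, ← map_mul, hinv]; congr 1; group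
    rw [mem_neg, ← Module.End.mul_apply, hcomp, Module.End.mul_apply, mem_neg.1 hw, map_neg]
  have h := Submodule.finrank_sup_add_finrank_inf_eq (fix Y) (fix Y')
  have h' := Submodule.finrank_le (fix Y ⊔ fix Y')
  have h'' := Submodule.finrank_mono hfix
  have := D.minus_Y
  change finrank (ZMod r) (fix Y) + finrank (ZMod r) (neg Y) = _ at e1
  change finrank (ZMod r) (neg Y) ≤ _ at this
  omega

theorem isometry (D : LocalData β φ A v j π T S) {a : Γ} (ha : a ∈ A) :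
    ∀ u w, β (φ a u) (φ a w) = β u w := D.hisoA a ha

theorem conj_rel (D : LocalData β φ A v j π T S) {a : Γ} (ha : a ∈ A)
    (h : π (v ^ 2 ^ j * a * (v ^ 2 ^ j)⁻¹) = π a) :
    φ (v ^ 2 ^ j) * φ a = φ a * φ (v ^ 2 ^ j) ∨ φ (v ^ 2 ^ j) * φ a = -(φ a * φ (v ^ 2 ^ j)) := by
  have he : φ (v ^ 2 ^ j) * φ a = φ (v ^ 2 ^ j * a * (v ^ 2 ^ j)⁻¹) * φ (v ^ 2 ^ j) := by
    rw [← map_mul, ← map_mul, inv_mul_cancel_right]
  rcases D.rel (D.pow_conj _ ha).1 ha h with h1 | h1
  · exact Or.inl (by rw [he, h1])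
  · exact Or.inr (by rw [he, h1, neg_mul])

/-- An operator of `A` anticommuting with the central involution forces a small dimension. -/
theorem finrank_le_two_mul (D : LocalData β φ A v j π T S) {a : Γ}
    (h : φ a * φ (v ^ 2 ^ j) = -(φ (v ^ 2 ^ j) * φ a)) : finrank (ZMod r) W ≤ 2 * 2 ^ j := by
  have h1 := two_mul_finrank_fix D.two_ne_zero D.Y_sq (D.inj a) h (U := ⊤) (fun _ _ => trivial)
    (fun _ _ => trivial)
  have h2 := finrank_fix_add_neg D.two_ne_zero D.Y_sq (U := ⊤) fun _ _ => trivial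
  rw [top_inf_eq, finrank_top] at h1
  rw [top_inf_eq, top_inf_eq, finrank_top] at h2
  have h3 := D.minus_Y
  omega

theorem commute_of_sq (P P' : Module.End (ZMod r) W) (hP : P * P = 1) (hP' : P' * P' = 1)
    (h : (P * P') * (P * P') = 1) : Commute P P' := by
  have h1 : P' * P = P * P' := by
    calc P' * P = (P * P) * (P' * P) * (P' * P') := by rw [hP, hP', one_mul, mul_one]
      _ = P * ((P * P') * (P * P')) * P' := by simp only [mul_assoc]
      _ = P * P' := by rw [h, mul_one]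
  exact h1.symm

/-- Two classes with all sums realised by involutions give commuting operators. -/
theorem commute_of_rel (D : LocalData β φ A v j π T S) {b b' b'' : Γ} (hb : b ∈ A) (hb' : b' ∈ A)
    (hb'' : b'' ∈ A) (h : π b'' = π b + π b') (h1 : φ b * φ b = 1) (h2 : φ b' * φ b' = 1)
    (h3 : φ b'' * φ b'' = 1) : Commute (φ b) (φ b') := by
  refine commute_of_sq _ _ h1 h2 ?_
  rcases D.rel (mul_mem hb hb') hb'' (by rw [D.hπm _ hb _ hb', h]) with e | e
  · rw [← map_mul φ b b', e, h3]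
  · rw [← map_mul φ b b', e, neg_mul_neg, h3]

/-- The local configuration does not exist. -/
theorem false_of (D : LocalData β φ A v j π T S) (hj : 1 ≤ j) (hcard : 64 ≤ Nat.card Q)
    (hsix : j = 1 → Nat.card Q = 64 → (T - 1) ^ 3 = 0)
    (hdeg : ∃ u ∈ S, ((T - 1) ^ (3 * 2 ^ (j - 1) - 1) : Module.End (ZMod 2) Q) (π u) ≠ 0) :
    False := by
  classical
  obtain ⟨u, hu, hdeg⟩ := hdeg
  haveI : Nontrivial Q := Finite.one_lt_card_iff_nontrivial.1 (by omega)
  haveI := D.nontrivial_W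
  haveI : FiniteDimensional (ZMod 2) Q := Module.Finite.of_finite
  have hQn : Nat.card Q = 2 ^ finrank (ZMod 2) Q := by
    rw [Module.natCard_eq_pow_finrank (K := ZMod 2), Nat.card_zmod]
  set n := finrank (ZMod 2) Q with hn
  set N : Module.End (ZMod 2) Q := T - 1 with hN
  have hNn : ∀ m, n ≤ m → N ^ m = 0 := fun m hm => by
    rw [← Nat.sub_add_cancel hm, pow_add, pow_finrank_eq_zero D.nilpotent, mul_zero]
  have hzero : ∀ (a c : ℕ) (q : Q), a ≤ c → (N ^ a) q = 0 → (N ^ c) q = 0 := fun a c q hac h => by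
    rw [← Nat.sub_add_cancel hac, pow_add, Module.End.mul_apply, h, map_zero]
  have hlt : 3 * 2 ^ (j - 1) - 1 < n := by
    by_contra h
    exact hdeg (by rw [hNn _ (by omega), LinearMap.zero_apply])
  have hpj : 2 * 2 ^ (j - 1) = 2 ^ j := by rw [← pow_succ', Nat.sub_add_cancel hj]
  have hpos : 1 ≤ 2 ^ (j - 1) := Nat.one_le_two_pow
  have hdim := D.finrank_le_four_mul (q := π u) fun h => hdeg (hzero _ _ _ (by omega) h)
  have hop : 2 ^ n ≤ finrank (ZMod r) W ^ 2 := hQn ▸ D.card_le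
  set d := finrank (ZMod r) W with hd
  have hn6 : 6 ≤ n := by
    by_contra h
    have := Nat.pow_le_pow_right (show 0 < 2 by norm_num) (show n ≤ 5 by omega)
    omega
  have hd8 : 8 ≤ d := by
    by_contra h
    have h1 := Nat.pow_le_pow_right (show 0 < 2 by norm_num) hn6
    have h2 : d ^ 2 ≤ 7 ^ 2 := Nat.pow_le_pow_left (by omega) 2
    omega
  have hj2 : j = 1 ∨ j = 2 := by
    by_contra h
    have h1 : n ≤ 2 * j + 4 := by
      refine (Nat.pow_le_pow_iff_right (show 1 < 2 by norm_num)).1 (hop.trans ?_)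
      refine (Nat.pow_le_pow_left hdim 2).trans (le_of_eq ?_)
      rw [mul_pow, ← pow_mul, pow_add, mul_comm j 2]
      ring
    have h2 : ∀ i : ℕ, i + 4 ≤ 2 ^ (i + 2) := by
      intro i
      induction i with
      | zero => norm_num
      | succ i ih => rw [pow_succ]; omega
    have := h2 (j - 3)
    rw [show j - 3 + 2 = j - 1 by omega] at this
    omega
  have hNadd : ∀ q, N q = T q + q := fun q => by
    rw [hN, LinearMap.sub_apply, Module.End.one_apply, sub_eq_add_neg,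
      ← eq_neg_of_add_eq_zero_left (D.char_two q)]
  -- the elements attached to the cosets
  have hb : ∀ w ∈ S, ∃ b ∈ A, π b = (N ^ (2 ^ j - 1)) (π w) ∧ φ b * φ b = 1 ∧
      Commute (φ b) (φ (v ^ 2 ^ j)) ∧
      finrank (ZMod r) (neg (φ b * φ (v ^ 2 ^ j))) ≤ 2 ^ j := by
    intro w hw
    obtain ⟨b, hb, hbπ, hbsq, hbm⟩ := D.exists_b hw
    have hY := D.Y_sq
    rw [map_mul] at hbsq
    set Y := φ (v ^ 2 ^ j) with hYdef
    have hinv : Y * φ b * Y = φ b⁻¹ := by
      calc Y * φ b * Y = φ b⁻¹ * (φ b * Y * (φ b * Y)) := by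
            rw [← mul_assoc, ← mul_assoc, ← mul_assoc, ← map_mul φ b⁻¹, inv_mul_cancel, map_one, one_mul]
        _ = φ b⁻¹ := by rw [hbsq, mul_one]
    have hc : Commute (φ b) Y := by
      rcases D.rel (inv_mem hb) hb (D.pi_inv hb) with h | h
      · rw [h] at hinv
        show φ b * Y = Y * φ b
        nth_rewrite 1 [← hinv]
        rw [mul_assoc, hY, mul_one]
      · rw [h] at hinv
        have hanti : φ b * Y = -(Y * φ b) := by
          have h1 : -φ b * Y = Y * φ b := by rw [← hinv, mul_assoc, hY, mul_one]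
          rw [← h1, neg_mul, neg_neg]
        have h1 := D.finrank_le_two_mul hanti
        rcases hj2 with rfl | rfl
        · norm_num at h1; omega
        · -- then `b` is a commutator with `v`
          have hd' : d = 8 := by norm_num at h1; omega
          have hn' : n ≤ 6 := by
            refine (Nat.pow_le_pow_iff_right (show 1 < 2 by norm_num)).1 (hop.trans ?_)
            rw [hd']
            norm_num
          obtain ⟨c, hc, hcπ⟩ := D.hπs ((N ^ 2) (π w))
          have hc' := D.hvA c hc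
          have hvc : π (v * c * v⁻¹ * c⁻¹) = π b := by
            rw [D.hπm _ hc' _ (inv_mem hc), D.hπc c hc, D.pi_inv hc, hbπ, hcπ,
              show (2 : ℕ) ^ 2 - 1 = 1 + 2 by norm_num, pow_add, pow_one, Module.End.mul_apply]
            exact (hNadd _).symm
          obtain ⟨h4, h4π⟩ := D.pow_conj (2 ^ 2) hc
          have hfix : π (v ^ 2 ^ 2 * c * (v ^ 2 ^ 2)⁻¹) = π c := by
            have h5 : (N ^ 2 ^ 2) (π c) = 0 := by
              rw [hcπ, ← Module.End.mul_apply, ← pow_add, hNn _ (by norm_num; omega),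
                LinearMap.zero_apply]
            rw [hN, D.sub_one_two_pow, LinearMap.sub_apply, Module.End.one_apply, sub_eq_zero] at h5
            rw [h4π, h5]
          set y := v ^ 2 ^ 2 with hy
          have hcy : y * (v * c * v⁻¹ * c⁻¹) * y⁻¹ =
              v * (y * c * y⁻¹) * v⁻¹ * (y * c * y⁻¹)⁻¹ := by
            have hyv : y * v = v * y := (((Commute.refl v).pow_right (2 ^ 2)).eq).symm
            have hvy : v⁻¹ * y⁻¹ = y⁻¹ * v⁻¹ := by rw [← mul_inv_rev, ← mul_inv_rev, hyv]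
            calc y * (v * c * v⁻¹ * c⁻¹) * y⁻¹ = (y * v) * c * v⁻¹ * c⁻¹ * y⁻¹ := by
                  simp only [mul_assoc]
              _ = v * (y * c * y⁻¹) * v⁻¹ * (y * c * y⁻¹)⁻¹ := by
                  rw [hyv, mul_inv_rev, mul_inv_rev, inv_inv]
                  simp only [mul_assoc]
                  rw [← mul_assoc y⁻¹ v⁻¹, ← hvy]
                  simp [mul_assoc]
          have hinvc : ∀ g g' : Γ, φ g = -φ g' → φ g⁻¹ = -φ g'⁻¹ := fun g g' h => by
            calc φ g⁻¹ = φ g⁻¹ * (φ g' * φ g'⁻¹) := by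
                  rw [← map_mul φ g', mul_inv_cancel, map_one, mul_one]
              _ = φ g⁻¹ * (-φ g) * φ g'⁻¹ := by rw [h, neg_neg, mul_assoc]
              _ = -φ g'⁻¹ := by rw [mul_neg, ← map_mul, inv_mul_cancel, map_one, neg_one_mul]
          have he : φ (y * (v * c * v⁻¹ * c⁻¹) * y⁻¹) = φ (v * c * v⁻¹ * c⁻¹) := by
            rw [hcy]
            rcases D.rel h4 hc hfix with e | e
            · have e' : φ (y * c * y⁻¹)⁻¹ = φ c⁻¹ := by
                calc φ (y * c * y⁻¹)⁻¹ = φ (y * c * y⁻¹)⁻¹ * (φ c * φ c⁻¹) := by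
                      rw [← map_mul φ c, mul_inv_cancel, map_one, mul_one]
                  _ = φ c⁻¹ := by
                      rw [← e, ← mul_assoc, ← map_mul, inv_mul_cancel, map_one, one_mul]
              simp only [map_mul] at e e' ⊢
              rw [e, e']
            · have e' := hinvc _ _ e
              simp only [map_mul] at e e' ⊢
              rw [e, e']
              simp only [mul_neg, neg_mul, neg_neg]
          have hYc : Commute (φ (v * c * v⁻¹ * c⁻¹)) Y := by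
            show _ * Y = Y * _
            nth_rewrite 1 [← he]
            rw [hYdef, ← map_mul, ← map_mul, inv_mul_cancel_right]
          rcases D.rel hb (mul_mem hc' (inv_mem hc)) hvc.symm with e | e
          · rw [e]; exact hYc
          · rw [e]; exact hYc.neg_left
    refine ⟨b, hb, hbπ, ?_, hc, hbm⟩
    rw [← hbsq, mul_assoc (φ b) Y, ← mul_assoc Y, ← hc.eq, mul_assoc (φ b) Y, hY, mul_one]
  rcases hj2 with rfl | rfl
  · -- `j = 1`
    norm_num at hdim hlt hdeg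
    have hd' : d = 8 := by omega
    have hn' : n = 6 := by
      have : n ≤ 6 := by
        refine (Nat.pow_le_pow_iff_right (show 1 < 2 by norm_num)).1 (hop.trans ?_)
        rw [hd']
        norm_num
      omega
    have h3 : ∀ q, (N ^ 3) q = 0 := fun q => by
      rw [hN, hsix rfl (by rw [hQn, hn']; norm_num), LinearMap.zero_apply]
    have hN2 : ∀ q, (N ^ 2) q = (T ^ 2) q + q := fun q => by
      have := D.sub_one_two_pow 1
      rw [pow_one] at this
      rw [hN, this, LinearMap.sub_apply, Module.End.one_apply, sub_eq_add_neg,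
        ← eq_neg_of_add_eq_zero_left (D.char_two q)]
    have hyinv : (v ^ 2 ^ 1)⁻¹ = v ^ 2 ^ 1 := by
      rw [inv_eq_iff_mul_eq_one, ← pow_add, ← two_mul, ← pow_succ', D.hv]
    -- the commutators with the central involution
    have hcs : ∀ a ∈ A, ∃ c ∈ A, c = v ^ 2 ^ 1 * a * (v ^ 2 ^ 1)⁻¹ * a⁻¹ ∧
        π c = (N ^ 2) (π a) ∧ φ c * φ c = 1 := by
      intro a ha
      obtain ⟨c, hc, hce, hcπ⟩ := D.exists_c ha
      refine ⟨c, hc, hce, hcπ, ?_⟩
      have hyc : v ^ 2 ^ 1 * c * (v ^ 2 ^ 1)⁻¹ = c⁻¹ := by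
        have hyy : v ^ 2 ^ 1 * v ^ 2 ^ 1 = 1 := by rw [← pow_add, ← two_mul, ← pow_succ', D.hv]
        rw [hce, hyinv, mul_inv_rev, mul_inv_rev, mul_inv_rev, inv_inv, hyinv]
        simp only [← mul_assoc, hyy, one_mul]
      rcases D.rel (inv_mem hc) hc (D.pi_inv hc) with e | e
      · nth_rewrite 1 [← e]
        rw [← map_mul, inv_mul_cancel, map_one]
      · exfalso
        have hanti : φ c * φ (v ^ 2 ^ 1) = -(φ (v ^ 2 ^ 1) * φ c) := by
          have h1 : φ (v ^ 2 ^ 1) * φ c = -φ c * φ (v ^ 2 ^ 1) := by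
            rw [← e, ← hyc, ← map_mul, ← map_mul, inv_mul_cancel_right]
          rw [h1, neg_mul, neg_neg]
        have := D.finrank_le_two_mul hanti
        norm_num at this
        omega
    obtain ⟨f, hfi, hf⟩ := D.exists_pairing
    have hfs : ∀ p q, f p q = f q p := by
      intro p q
      obtain ⟨a, ha, rfl⟩ := D.hπs p
      obtain ⟨a', ha', rfl⟩ := D.hπs q
      by_cases h : Commute (φ a) (φ a')
      · rw [(hf a ha a' ha').2 h, (hf a' ha' a ha).2 h.symm]
      · rw [zmod_two _ fun e => h ((hf a ha a' ha').1 e),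
          zmod_two _ fun e => h ((hf a' ha' a ha).1 e).symm]
    have hfT : ∀ p q, f (T p) (T q) = f p q := by
      intro p q
      obtain ⟨a, ha, rfl⟩ := D.hπs p
      obtain ⟨a', ha', rfl⟩ := D.hπs q
      rw [← D.hπc a ha, ← D.hπc a' ha']
      have hiff : Commute (φ (v * a * v⁻¹)) (φ (v * a' * v⁻¹)) ↔ Commute (φ a) (φ a') := by
        constructor
        · intro h
          show φ a * φ a' = φ a' * φ a
          have h1 := congrArg (fun X => φ v⁻¹ * X * φ v) h.eq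
          simpa [← map_mul, mul_assoc] using h1
        · intro h
          show _ = _
          rw [← map_mul, ← map_mul, show v * a * v⁻¹ * (v * a' * v⁻¹) = v * (a * a') * v⁻¹ by group,
            show v * a' * v⁻¹ * (v * a * v⁻¹) = v * (a' * a) * v⁻¹ by group, map_mul, map_mul,
            map_mul φ a a', h.eq, ← map_mul φ a' a, ← map_mul, ← map_mul]
      by_cases h : Commute (φ a) (φ a')
      · rw [(hf a ha a' ha').2 h, (hf _ (D.hvA a ha) _ (D.hvA a' ha')).2 (hiff.2 h)]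
      · rw [zmod_two _ fun e => h ((hf a ha a' ha').1 e),
          zmod_two _ fun e => h (hiff.1 ((hf _ (D.hvA a ha) _ (D.hvA a' ha')).1 e))]
    set e := (N ^ 2) (π u) with he
    obtain ⟨p, hp0, hpe⟩ : ∃ p, (N ^ 2) p ≠ 0 ∧ (N ^ 2) p ≠ e := by
      by_contra hcon
      push Not at hcon
      have hNe : ∀ p, T ((N ^ 2) p) = (N ^ 2) p := fun p => by
        have h1 := hNadd ((N ^ 2) p)
        rw [← Module.End.mul_apply, ← pow_succ', h3] at h1
        exact (eq_neg_of_add_eq_zero_left h1.symm).trans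
          (eq_neg_of_add_eq_zero_left (D.char_two _)).symm
      have hz : ∀ p, f ((N ^ 2) p) p = 0 := fun p => by
        rw [← hfT, hNe, hN2, map_add, LinearMap.add_apply, pow_two, Module.End.mul_apply, hfT,
          hfs (T p) p]
        exact CharTwo.add_self_eq_zero _
      refine hdeg (hfi ?_)
      rw [map_zero]
      refine LinearMap.ext fun p => ?_
      show f e p = 0
      by_cases h : (N ^ 2) p = 0
      · have h1 := hz (p + π u)
        rw [map_add (N ^ 2), h, zero_add, map_add, hz (π u), add_zero] at h1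
        exact h1
      · rw [← hcon p h]; exact hz p
    obtain ⟨a, ha, rfl⟩ := D.hπs p
    obtain ⟨c₁, hc₁, hce₁, hcπ₁, hsq₁⟩ := hcs u (D.hSA u hu)
    obtain ⟨c₂, hc₂, hce₂, hcπ₂, hsq₂⟩ := hcs a ha
    obtain ⟨c₃, hc₃, -, hcπ₃, hsq₃⟩ := hcs (u * a) (mul_mem (D.hSA u hu) ha)
    obtain ⟨b, hbA, hbπ, hbsq, hbY, -⟩ := hb u hu
    have h12 : Commute (φ c₁) (φ c₂) := D.commute_of_rel hc₁ hc₂ hc₃
      (by rw [hcπ₁, hcπ₂, hcπ₃, D.hπm _ (D.hSA u hu) _ ha, map_add]) hsq₁ hsq₂ hsq₃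
    have hbc : ∀ a ∈ A, Commute (φ b) (φ (v ^ 2 ^ 1 * a * (v ^ 2 ^ 1)⁻¹ * a⁻¹)) := by
      intro a ha
      rw [mul_assoc, mul_assoc, ← mul_assoc a, map_mul]
      refine (Commute.mul_right hbY ?_)
      rw [hyinv, map_mul, map_mul]
      rcases D.commute_or hbA ha with e | e
      · have e' : Commute (φ b) (φ a⁻¹) := by
          show φ b * φ a⁻¹ = φ a⁻¹ * φ b
          calc φ b * φ a⁻¹ = φ a⁻¹ * (φ a * φ b) * φ a⁻¹ := by
                rw [← mul_assoc (φ a⁻¹), ← map_mul φ a⁻¹, inv_mul_cancel, map_one, one_mul]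
            _ = φ a⁻¹ * φ b := by
                rw [← e.eq, mul_assoc, mul_assoc, ← map_mul φ a, mul_inv_cancel, map_one, mul_one]
        exact (e.mul_right hbY).mul_right e'
      · have e' : φ b * φ a⁻¹ = -(φ a⁻¹ * φ b) := by
          calc φ b * φ a⁻¹ = φ a⁻¹ * (φ a * φ b) * φ a⁻¹ := by
                rw [← mul_assoc (φ a⁻¹), ← map_mul φ a⁻¹, inv_mul_cancel, map_one, one_mul]
            _ = φ a⁻¹ * (-(φ b * φ a)) * φ a⁻¹ := by rw [e, neg_neg]
            _ = -(φ a⁻¹ * φ b) := by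
                rw [mul_neg, neg_mul, mul_assoc, mul_assoc, ← map_mul φ a, mul_inv_cancel, map_one,
                  mul_one]
        have hY' : φ b * φ (v ^ 2 ^ 1) = φ (v ^ 2 ^ 1) * φ b := hbY.eq
        show φ b * (φ a * φ (v ^ 2 ^ 1) * φ a⁻¹) = φ a * φ (v ^ 2 ^ 1) * φ a⁻¹ * φ b
        rw [← mul_assoc, ← mul_assoc, e, neg_mul, neg_mul, mul_assoc (φ a) (φ b), hY', ← mul_assoc,
          mul_assoc (φ a * φ (v ^ 2 ^ 1)) (φ b), e', mul_neg, neg_neg, ← mul_assoc]
    have hbπ' : π b = N (π u) := by rwa [show (2 : ℕ) ^ 1 - 1 = 1 from rfl, pow_one] at hbπ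
    have hN1 : ∀ x : ZMod 2, ∀ q, N (x • (N ^ 2) q) = 0 := fun x q => by
      rw [map_smul, ← Module.End.mul_apply, ← pow_succ', h3, smul_zero]
    obtain ⟨a₁, -, a₂, -, a₃, -, k11, k21, k22, k31, k32, k33⟩ :=
      D.exists_witness hc₁ hc₂ hbA (by rw [hcπ₁]; exact hdeg)
        (fun x hx => by
          rw [hcπ₁, hcπ₂] at hx
          obtain rfl | rfl := (by decide : ∀ x : ZMod 2, x = 0 ∨ x = 1) x
          · exact hp0 (by rw [hx, zero_smul])
          · exact hpe (by rw [hx, one_smul]))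
        (fun x y hxy => by
          rw [hcπ₁, hcπ₂, hbπ'] at hxy
          refine hdeg ?_
          rw [he, pow_two, Module.End.mul_apply, hxy, map_add, hN1, hN1, add_zero])
    have := (eight_mul_finrank β D.two_ne_zero D.halt D.hnd hsq₁ hsq₂ hbsq (D.isometry hc₁)
      (D.isometry hc₂) (D.isometry hbA) h12 (hce₁ ▸ hbc u (D.hSA u hu)).symm
      (hce₂ ▸ hbc a ha).symm (D.inj a₁) (D.inj a₂) (D.inj a₃) k11 k21 k22 k31 k32 k33).2
    rw [← hd, hd'] at this
    norm_num at this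
  · -- `j = 2`
    norm_num at hdim hlt hdeg
    rw [show (2 : ℕ) ^ 2 - 1 = 3 from rfl] at hb
    obtain ⟨u₁, hu₁, hu₁π⟩ := D.hSN u hu
    obtain ⟨u₂, hu₂, hu₂π⟩ := D.hSN u₁ hu₁
    set x := π u with hx
    have hbs : ∀ w ∈ S, ∀ w' ∈ S, ∀ b ∈ A, ∀ b' ∈ A, π b = (N ^ 3) (π w) → π b' = (N ^ 3) (π w') →
        φ b * φ b = 1 → φ b' * φ b' = 1 → Commute (φ b) (φ b') := by
      intro w hw w' hw' b hbA b' hbA' e e' s s'
      obtain ⟨w'', hw'', he''⟩ := D.hSadd w hw w' hw'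
      obtain ⟨b'', hb'', hπ'', hsq'', -⟩ := hb w'' hw''
      exact D.commute_of_rel hbA hbA' hb'' (by rw [hπ'', he'', map_add, e, e']) s s' hsq''
    obtain ⟨b₁, hb₁, hπ₁, hs₁, hy₁, hm₁⟩ := hb u₂ hu₂
    obtain ⟨b₂, hb₂, hπ₂, hs₂, hy₂, hm₂⟩ := hb u₁ hu₁
    obtain ⟨b₃, hb₃, hπ₃, hs₃, hy₃, hm₃⟩ := hb u hu
    have c12 := hbs u₂ hu₂ u₁ hu₁ b₁ hb₁ b₂ hb₂ hπ₁ hπ₂ hs₁ hs₂
    have c13 := hbs u₂ hu₂ u hu b₁ hb₁ b₃ hb₃ hπ₁ hπ₃ hs₁ hs₃
    have c23 := hbs u₁ hu₁ u hu b₂ hb₂ b₃ hb₃ hπ₂ hπ₃ hs₂ hs₃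
    have e1 : π b₁ = (N ^ 5) x := by
      rw [hπ₁, hu₂π, hu₁π, ← hN, ← Module.End.mul_apply, ← Module.End.mul_apply, ← pow_succ,
        ← pow_succ]
    have e2 : π b₂ = (N ^ 4) x := by
      rw [hπ₂, hu₁π, ← hN, ← Module.End.mul_apply, ← pow_succ]
    have hnil : ∀ (k : ℕ) (c c' : ZMod 2), (N ^ k) x = c • (N ^ (k + 1)) x + c' • (N ^ (k + 2)) x →
        (N ^ k) x = 0 := fun k c c' h => by
      refine eq_zero_of_eq_nilpotent (N := N * (c • 1 + c' • N)) ?_ ?_
      · exact (((Commute.one_right N).smul_right c).add_right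
          ((Commute.refl N).smul_right c')).isNilpotent_mul_right D.nilpotent
      · conv_rhs => rw [h]
        simp [Module.End.mul_apply, pow_succ', LinearMap.add_apply]
    have hdeg' : (N ^ 5) x ≠ 0 := hdeg
    obtain ⟨a₁, -, a₂, -, a₃, -, k11, k21, k22, k31, k32, k33⟩ :=
      D.exists_witness hb₁ hb₂ hb₃ (by rw [e1]; exact hdeg')
        (fun c h => by
          rw [e1, e2] at h
          exact hdeg' (hzero 4 5 x (by norm_num) (hnil 4 c 0 (by rw [h, zero_smul, add_zero]))))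
        (fun c c' h => by
          rw [e1, e2, hπ₃, add_comm] at h
          exact hdeg' (hzero 3 5 x (by norm_num) (hnil 3 c' c h)))
    set Y := φ (v ^ 2 ^ 2) with hY
    have hY2 : Y * Y = 1 := D.Y_sq
    have hmY : finrank (ZMod r) (neg Y) ≤ 4 := D.minus_Y
    have isoneg : ∀ b ∈ A, ∀ p q, β ((-φ b) p) ((-φ b) q) = β p q := fun b hb p q => by
      simp [D.isometry hb p q]
    have sqneg : ∀ P : Module.End (ZMod r) W, P * P = 1 → -P * -P = 1 := fun P h => by
      rw [neg_mul_neg, h]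
    have antineg : ∀ (a P : Module.End (ZMod r) W), a * P = -(P * a) → a * -P = -(-P * a) :=
      fun a P h => by rw [mul_neg, h, neg_mul]
    obtain ⟨h8, h16⟩ := eight_mul_finrank β D.two_ne_zero D.halt D.hnd (sqneg _ hs₁) (sqneg _ hs₂)
      (sqneg _ hs₃) (isoneg _ hb₁) (isoneg _ hb₂) (isoneg _ hb₃) c12.neg_left.neg_right
      c13.neg_left.neg_right c23.neg_left.neg_right (D.inj a₁) (D.inj a₂) (D.inj a₃)
      (antineg _ _ k11) k21.neg_right (antineg _ _ k22) k31.neg_right k32.neg_right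
      (antineg _ _ k33)
    rw [fix_neg, fix_neg, fix_neg] at h8
    have hd' : d = 16 := by omega
    have key : ∀ (b a : Γ), φ b * φ b = 1 → Commute (φ b) Y → φ a * φ b = -(φ b * φ a) →
        finrank (ZMod r) (neg (φ b * Y)) ≤ 4 → neg Y ≤ neg (φ b) := by
      intro b a hs hy hanti hm
      have h1 := two_mul_finrank_fix D.two_ne_zero (sqneg _ hs) (D.inj a) (antineg _ _ hanti)
        (U := ⊤) (fun _ _ => trivial) (fun _ _ => trivial)
      rw [top_inf_eq, fix_neg, finrank_top, ← hd, hd'] at h1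
      have h2 := finrank_neg_mul D.two_ne_zero hY2 hs hy
      have h3 := Submodule.finrank_mono (inf_le_right : neg (φ b) ⊓ neg Y ≤ neg Y)
      exact inf_eq_right.1 (Submodule.eq_of_le_of_finrank_le inf_le_right (by omega))
    have l1 := key b₁ a₁ hs₁ hy₁ k11 hm₁
    have l2 := key b₂ a₂ hs₂ hy₂ k22 hm₂
    have l3 := key b₃ a₃ hs₃ hy₃ k33 hm₃
    have h2 := finrank_neg_mul D.two_ne_zero hY2 hs₁ hy₁
    have h3 := Submodule.finrank_mono (le_inf (le_inf l1 l2) l3)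
    have h4 := Submodule.finrank_mono (inf_le_right : neg (φ b₁) ⊓ neg Y ≤ neg Y)
    have h5 := two_mul_finrank_fix D.two_ne_zero (sqneg _ hs₁) (D.inj a₁) (antineg _ _ k11)
      (U := ⊤) (fun _ _ => trivial) (fun _ _ => trivial)
    rw [top_inf_eq, fix_neg, finrank_top, ← hd, hd'] at h5
    omega

end LocalData

end Cfsg.Agent.GrossTwo
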