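import Cfsg.Agent.Lib.GrossTwo.SectorAct
import Cfsg.Agent.Lib.Functors.Critical
import Cfsg.Agent.Lib.Solvable.PLengthBasics

/-!
Gross's bound on the `2`-length of a solvable group by the exponent of its Sylow `2`-subgroups.
-/

set_option autoImplicit false
set_option linter.unusedSectionVars false
set_option linter.style.haveILetI false
set_option maxHeartbeats 800000

open Module
open scoped commutatorElement Pointwise

universe u

namespace Cfsg.Agent.GrossTwo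

variable {H : Type u} [Group H] [Finite H] [Group.IsSolvable H] {V : Type u} [AddCommGroup V]
  [Module (ZMod 2) V] [Finite V] {G : Type u} [Group G] [Finite G] [Group.IsSolvable G]

/-- A section cannot sit over a faithful module of small degree. -/
theorem no_section (ρ : H →* Module.End (ZMod 2) V) (hρ : Function.Injective ρ) (g₂ : H →* G)
    (hg₂ : Function.Surjective g₂) (hker : (Nat.card g₂.ker).Coprime 2)
    (hcent : Subgroup.centralizer (g₂.ker : Set H) ≤ g₂.ker) (Pb : Subgroup H)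
    (hPb : IsPGroup 2 Pb) {e q : ℕ} (he : 1 ≤ e) {x : G} {K A B : Subgroup G}
    (S : Sect e q x K A B) (hxP : x ∈ Pb.map g₂) (hAP : A ≤ Pb.map g₂)
    (hexp : ∀ g ∈ Pb, g ^ 2 ^ (e + 1) = 1)
    (hdeg : ∀ g ∈ Pb, (ρ g - 1) ^ (2 ^ (e + 1) - 1) = 0) : False := by
  classical
  haveI : Fact (Nat.Prime 2) := ⟨Nat.prime_two⟩
  haveI : FiniteDimensional (ZMod 2) V := Module.Finite.of_finite
  set R := g₂.ker with hR
  set P₂ := Pb.map g₂ with hP₂
  have hPR : ∀ p ∈ Pb, g₂ p = 1 → p = 1 := by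
    intro p hp h1
    obtain ⟨k, hk⟩ := IsPGroup.iff_orderOf.1 hPb ⟨p, hp⟩
    rw [Subgroup.orderOf_mk] at hk
    exact orderOf_eq_one_iff.1 (Nat.eq_one_of_dvd_coprimes (hker.pow_right k)
      (Subgroup.orderOf_dvd_natCard R h1) hk.dvd)
  let ι : G → H := fun g => if hg : g ∈ P₂ then hg.choose else 1
  have hι : ∀ g ∈ P₂, ι g ∈ Pb ∧ g₂ (ι g) = g := fun g hg => by
    simp only [ι, dif_pos hg]
    exact hg.choose_spec
  have huniq : ∀ g ∈ P₂, ∀ p ∈ Pb, g₂ p = g → ι g = p := by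
    intro g hg p hp hpg
    have h1 := hPR _ (mul_mem (hι g hg).1 (inv_mem hp))
      (by rw [map_mul, map_inv, (hι g hg).2, hpg, mul_inv_cancel])
    exact mul_inv_eq_one.1 h1
  have hιm : ∀ g ∈ P₂, ∀ g' ∈ P₂, ι (g * g') = ι g * ι g' := fun g hg g' hg' =>
    huniq _ (mul_mem hg hg') _ (mul_mem (hι g hg).1 (hι g' hg').1)
      (by rw [map_mul, (hι g hg).2, (hι g' hg').2])
  have hιp : ∀ g ∈ P₂, ∀ n : ℕ, ι (g ^ n) = ι g ^ n := fun g hg n =>
    huniq _ (pow_mem hg n) _ (pow_mem (hι g hg).1 n) (by rw [map_pow, (hι g hg).2])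
  have hιi : ∀ g ∈ P₂, ι g⁻¹ = (ι g)⁻¹ := fun g hg =>
    huniq _ (inv_mem hg) _ (inv_mem (hι g hg).1) (by rw [map_inv, (hι g hg).2])
  have hab : ∀ g ∈ Pb, ∀ W : Subgroup H, (Nat.card W).Coprime 2 → IsMulCommutative W →
      (∀ w ∈ W, g * w * g⁻¹ ∈ W) → ∀ w ∈ W, Commute (g ^ 2 ^ e) w := fun g hg W hW hWc hWg =>
    HHExponent.centralizes_abelian ρ hρ g e (hexp g hg) (hdeg g hg) W hW hWc hWg
  set y := x ^ 2 ^ e with hy
  have hyP : y ∈ P₂ := pow_mem hxP _
  obtain ⟨U, j1, j2, j3, σ, π₀, hπ₀s, hπ₀m, hπ₀0, hπ₀c, hTy, -, -⟩ := S.exists_base he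
  set T := σ ⟨x, S.hxA, S.hxB⟩ with hT
  have hπ₀1 : π₀ 1 = 0 := (hπ₀0 1 (one_mem A)).2 (one_mem B)
  have hcp := fun (a : G) (ha : a ∈ A) (n : ℕ) =>
    coset_pow π₀ hπ₀m hπ₀1 T S.hxA (hπ₀c ⟨x, S.hxA, S.hxB⟩) ha n
  -- a special element of the section
  obtain ⟨a, ha, ha1, hsp⟩ : ∃ a ∈ A, a ≠ 1 ∧
      (a ∈ B ∨ (B = ⊥ ∧ ∃ a₁ ∈ A, a = (a₁ * x) ^ 2 ^ e * (x ^ 2 ^ e)⁻¹)) := by
    by_cases hB : B = ⊥
    · have hne : (T - 1) ^ (2 ^ e - 1) ≠ 0 := fun h0 => hTy (by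
        rw [← sub_eq_zero, ← sub_one_two_pow, ← Nat.sub_add_cancel (Nat.two_pow_pos e), pow_succ,
          h0, zero_mul])
      obtain ⟨v, hv⟩ : ∃ v, ((T - 1) ^ (2 ^ e - 1) : Module.End (ZMod 2) U) v ≠ 0 := by
        by_contra h
        push Not at h
        exact hne (LinearMap.ext h)
      obtain ⟨a₁, ha₁, rfl⟩ := hπ₀s v
      refine ⟨_, (hcp a₁ ha₁ (2 ^ e)).1, fun h => hv ?_, Or.inr ⟨hB, a₁, ha₁, rfl⟩⟩
      rw [HHLinear.sub_one_pow_pred (K := ZMod 2), ← (hcp a₁ ha₁ (2 ^ e)).2.1, h, hπ₀1]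
    · obtain ⟨b, hb, hb1⟩ := (Subgroup.ne_bot_iff_exists_ne_one.1 hB : _) |>.elim fun b hb =>
        (⟨b, b.2, fun h => hb (Subtype.ext h)⟩ : ∃ b ∈ B, b ≠ 1)
      exact ⟨b, S.hBA hb, hb1, Or.inl hb⟩
  -- it centralises every invariant Sylow subgroup of the kernel
  refine ha1 ?_
  suffices h : ι a ∈ Subgroup.centralizer (R : Set H) by
    rw [← (hι a (hAP ha)).2]
    exact MonoidHom.mem_ker.1 (hcent h)
  haveI hRn : R.Normal := inferInstance
  have hPn : Pb ≤ Subgroup.normalizer (R : Set H) := Subgroup.le_normalizer_of_normal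
  have hPR' : (Nat.card Pb).Coprime (Nat.card R) := by
    obtain ⟨k, hk⟩ := hPb.exists_card_eq
    rw [hk]
    exact (hker.pow_right k).symm
  have hPs : Group.IsSolvable Pb := inferInstance
  suffices htop : ((Subgroup.centralizer ({ι a} : Set H)).subgroupOf R) = ⊤ by
    exact Subgroup.mem_centralizer_iff.2 fun t ht => (Subgroup.mem_centralizer_iff.1
      ((Subgroup.subgroupOf_eq_top.1 htop) ht) (ι a) rfl).symm
  refine FittingCores.eq_top_of_forall_sylow_le fun r hr => ?_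
  haveI := Fact.mk hr
  obtain ⟨Q, hQ⟩ := CoprimeAct.exists_invariant_sylow hPn hPR' (Or.inl hPs) r
  refine ⟨Q, fun t ht => Subgroup.mem_subgroupOf.2 (Subgroup.mem_centralizer_iff.2 fun z hz => ?_)⟩
  rw [Set.mem_singleton_iff.1 hz]
  set Rr := (Q : Subgroup R).map R.subtype with hRr
  have htR : (t : H) ∈ Rr := Subgroup.mem_map_of_mem R.subtype ht
  by_cases hr2 : r = 2
  · -- the kernel is odd
    subst hr2
    obtain ⟨k, hk⟩ := IsPGroup.iff_orderOf.1 Q.isPGroup' ⟨t, ht⟩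
    rw [Subgroup.orderOf_mk] at hk
    have : t = 1 := orderOf_eq_one_iff.1 (Nat.eq_one_of_dvd_coprimes (hker.pow_right k)
      (orderOf_dvd_natCard t) hk.dvd)
    subst this
    simp
  have hRrq : IsPGroup r Rr := Q.isPGroup'.map _
  obtain ⟨C₀, hC₀⟩ := Critical.exists_critical (P := Rr) hRrq
  haveI := hC₀.char
  set C := C₀.map Rr.subtype with hC
  have hCR : C ≤ Rr := Subgroup.map_subtype_le _
  have hnC := MaxTwoGen.normalizer_le_normalizer_map_char C₀
  set Z := C ⊓ Subgroup.centralizer (C : Set H) with hZ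
  have hnZ : Subgroup.normalizer (C : Set H) ≤ Subgroup.normalizer (Z : Set H) :=
    (le_inf le_rfl (MaxTwoGen.normalizer_le_normalizer_centralizer' C)).trans
      Subgroup.inf_normalizer_le_normalizer_inf
  have hlift : ∀ {c : Rr}, c ∈ C₀ ⊓ Subgroup.centralizer (C₀ : Set Rr) → (c : H) ∈ Z := by
    intro c hc
    refine ⟨Subgroup.mem_map_of_mem _ hc.1, Subgroup.mem_centralizer_iff.2 ?_⟩
    rintro _ ⟨d, hd, rfl⟩
    exact congrArg Subtype.val (Subgroup.mem_centralizer_iff.1 hc.2 d hd)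
  have hCdZ : ⁅C, C⁆ ≤ Z := by
    rw [Subgroup.commutator_le]
    rintro _ ⟨c, hc, rfl⟩ _ ⟨d, hd, rfl⟩
    have := hlift (hC₀.comm (Subgroup.commutator_mem_commutator (Subgroup.mem_top c) hd))
    simpa [commutatorElement_def] using this
  have hpowZ : ∀ c ∈ C, c ^ r ∈ Z := by
    rintro _ ⟨c, hc, rfl⟩
    have := hlift (hC₀.pow c hc)
    simpa using this
  have hZC : ∀ z ∈ Z, ∀ c ∈ C, z * c = c * z := fun z hz c hc =>
    (Subgroup.mem_centralizer_iff.1 hz.2 c hc).symm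
  have hexpCd : ∀ c ∈ ⁅C, C⁆, c ^ r = 1 := by
    intro c hc
    refine (Subgroup.closure_induction (p := fun w _ => w ∈ Z ∧ w ^ r = 1) ?_ ⟨one_mem Z, one_pow r⟩
      (fun u v _ _ hu hv => ⟨mul_mem hu.1 hv.1, ?_⟩) (fun u _ hu => ⟨inv_mem hu.1, ?_⟩) hc).2
    · rintro _ ⟨a, ha, b, hb, rfl⟩
      refine ⟨hCdZ (Subgroup.commutator_mem_commutator ha hb), ?_⟩
      have key : ∀ n : ℕ, ⁅a ^ n, b⁆ = ⁅a, b⁆ ^ n := by
        intro n
        induction n with
        | zero => simp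
        | succ n ih =>
          have e : ⁅a ^ (n + 1), b⁆ = a ^ n * ⁅a, b⁆ * (a ^ n)⁻¹ * ⁅a ^ n, b⁆ := by
            rw [pow_succ]; simp [commutatorElement_def, mul_assoc]
          rw [e, ← hZC _ (hCdZ (Subgroup.commutator_mem_commutator ha hb)) _ (pow_mem ha n),
            mul_inv_cancel_right, ih, pow_succ']
      rw [← key r, commutatorElement_eq_one_iff_mul_comm]
      exact hZC _ (hpowZ a ha) b hb
    · rw [(show Commute u v from hZC u hu.1 v hv.1.1).mul_pow, hu.2, hv.2, one_mul]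
    · rw [inv_pow, hu.2, inv_one]
  have hZodd : (Nat.card Z).Coprime 2 := by
    obtain ⟨k, hk⟩ := (hRrq.to_le (inf_le_left.trans hCR : Z ≤ Rr)).exists_card_eq
    rw [hk]
    exact Nat.Coprime.pow_left k ((Nat.coprime_primes hr Nat.prime_two).2 hr2)
  have hZc : IsMulCommutative Z := .of_setLike_mul_comm fun a ha b hb => hZC a ha b hb.1
  have hPbC : ∀ p ∈ Pb, p ∈ Subgroup.normalizer (C : Set H) := fun p hp => hnC (hQ hp)
  have hPbZ : ∀ p ∈ Pb, p ∈ Subgroup.normalizer (Z : Set H) := fun p hp => hnZ (hPbC p hp)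
  -- the section centralises the centre
  have hy0 : ∀ w ∈ Z, Commute (ι y) w := by
    intro w hw
    rw [hy, hιp x hxP]
    exact hab _ (hι x hxP).1 Z hZodd hZc
      (fun w hw => CoprimeAct.conj_mem_of_mem_normalizer (hPbZ _ (hι x hxP).1) hw) w hw
  let U₀ : Subgroup G :=
    { carrier := {a | a ∈ A ∧ ∀ w ∈ Z, Commute (ι a) w}
      one_mem' := ⟨one_mem A, fun w _ => by
        rw [huniq 1 (one_mem _) 1 (one_mem _) (map_one _)]; exact Commute.one_left w⟩
      mul_mem' := fun {a b} ha hb => ⟨mul_mem ha.1 hb.1, fun w hw => by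
        rw [hιm a (hAP ha.1) b (hAP hb.1)]; exact (ha.2 w hw).mul_left (hb.2 w hw)⟩
      inv_mem' := fun {a} ha => ⟨inv_mem ha.1, fun w hw => by
        rw [hιi a (hAP ha.1)]; exact (ha.2 w hw).inv_left⟩ }
  have hconjc : ∀ (g p w : H), g ∈ Subgroup.normalizer (Z : Set H) → w ∈ Z →
      (∀ w ∈ Z, Commute p w) → Commute (g * p * g⁻¹) w := by
    intro g p w hg hw hp
    have hw' : g⁻¹ * w * g ∈ Z := by
      simpa using CoprimeAct.conj_mem_of_mem_normalizer (inv_mem hg) hw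
    have h1 := Commute.conj (hp _ hw') g
    rwa [show g * (g⁻¹ * w * g) * g⁻¹ = w by group] at h1
  have hA0 : ∀ a ∈ A, ∀ w ∈ Z, Commute (ι a) w := by
    suffices hU : U₀ = A by
      intro a ha
      rw [← hU] at ha
      exact ha.2
    by_contra hne
    have hxU : x ∈ Subgroup.normalizer (U₀ : Set G) :=
      Carter.le_normalizer_of_conj_mem fun a ha =>
        ⟨CoprimeAct.conj_mem_of_mem_normalizer S.hxA ha.1, fun w hw => by
          rw [hιm _ (mul_mem hxP (hAP ha.1)) _ (inv_mem hxP), hιm _ hxP _ (hAP ha.1), hιi x hxP]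
          exact hconjc _ _ w (hPbZ _ (hι x hxP).1) hw ha.2⟩
    have hKU : K ≤ Subgroup.normalizer (U₀ : Set G) := by
      intro k hk
      refine Carter.le_normalizer_of_conj_mem fun a ha =>
        ⟨CoprimeAct.conj_mem_of_mem_normalizer (S.hKA hk) ha.1, fun w hw => ?_⟩
      -- lift `k` to the normaliser of the lift of `A`
      set A₀ := Pb ⊓ A.comap g₂ with hA₀
      set R₁ := R ⊓ Subgroup.normalizer (Rr : Set H) with hR₁
      obtain ⟨k₂, hk₂⟩ := hg₂ k
      have hfr : Subgroup.normalizer (Rr : Set H) ⊔ R = ⊤ := Sylow.normalizer_sup_eq_top Q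
      obtain ⟨k₁, hk₁, s, hs, hks⟩ :=
        Subgroup.mem_sup_of_normal_right.1 (hfr ▸ Subgroup.mem_top k₂ :
          k₂ ∈ Subgroup.normalizer (Rr : Set H) ⊔ R)
      have hk₁g : g₂ k₁ = k := by
        rw [← hk₂, ← hks, map_mul, MonoidHom.mem_ker.1 hs, mul_one]
      have hA₀n : A₀ ≤ Subgroup.normalizer (R₁ : Set H) :=
        inf_le_left.trans ((le_inf hPn (le_trans hQ Subgroup.le_normalizer)).trans
          Subgroup.inf_normalizer_le_normalizer_inf)
      have hcop : (Nat.card A₀).Coprime (Nat.card R₁) :=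
        (hPR'.coprime_dvd_left (Subgroup.card_dvd_of_le inf_le_left)).coprime_dvd_right
          (Subgroup.card_dvd_of_le inf_le_left)
      obtain ⟨s', hs', hsA⟩ := SchurZ.conj_in (A := A₀) (K := R₁) hA₀n hcop
        (Or.inl inferInstance) (B := MulAut.conj k₁ • A₀) (by
          rintro _ ⟨p, hp, rfl⟩
          obtain ⟨hpP, hpA⟩ := Subgroup.mem_inf.1 hp
          have hmem : k * g₂ p * k⁻¹ ∈ A :=
            CoprimeAct.conj_mem_of_mem_normalizer (S.hKA hk) hpA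
          show k₁ * p * k₁⁻¹ ∈ R₁ ⊔ A₀
          have hp' : ι (k * g₂ p * k⁻¹) ∈ A₀ :=
            Subgroup.mem_inf.2 ⟨(hι _ (hAP hmem)).1, by
              rw [Subgroup.mem_comap, (hι _ (hAP hmem)).2]; exact hmem⟩
          rw [show k₁ * p * k₁⁻¹ = k₁ * p * k₁⁻¹ * (ι (k * g₂ p * k⁻¹))⁻¹ * ι (k * g₂ p * k⁻¹) by group]
          refine mul_mem (Subgroup.mem_sup_left (Subgroup.mem_inf.2 ⟨?_, ?_⟩)) (Subgroup.mem_sup_right hp')
          · rw [MonoidHom.mem_ker, map_mul, map_mul, map_mul, map_inv, map_inv, hk₁g,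
              (hι _ (hAP hmem)).2, mul_inv_cancel]
          · exact mul_mem (mul_mem (mul_mem hk₁ (hQ hpP)) (inv_mem hk₁)) (inv_mem (hQ hp'.1)))
        (SolvBasic.card_conjSmul _ _)
      set k₀ := s'⁻¹ * k₁ with hk₀
      have hk₀A : k₀ ∈ Subgroup.normalizer (A₀ : Set H) := by
        rw [SolvBasic.mem_normalizer_iff_conjSmul, hk₀, ← SolvBasic.conjSmul_conjSmul, ← hsA,
          SolvBasic.conjSmul_inv_conjSmul]
      have hk₀R : k₀ ∈ Subgroup.normalizer (Rr : Set H) := mul_mem (inv_mem hs'.2) hk₁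
      have hk₀g : g₂ k₀ = k := by
        rw [hk₀, map_mul, map_inv, MonoidHom.mem_ker.1 hs'.1, inv_one, one_mul, hk₁g]
      have hιa : ι a ∈ A₀ := Subgroup.mem_inf.2 ⟨(hι a (hAP ha.1)).1, by
        rw [Subgroup.mem_comap, (hι a (hAP ha.1)).2]; exact ha.1⟩
      rw [huniq _ (hAP (CoprimeAct.conj_mem_of_mem_normalizer (S.hKA hk) ha.1)) (k₀ * ι a * k₀⁻¹)
        (CoprimeAct.conj_mem_of_mem_normalizer hk₀A hιa).1
        (by rw [map_mul, map_mul, map_inv, hk₀g, (hι a (hAP ha.1)).2])]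
      exact hconjc _ _ w (hnZ (hnC hk₀R)) hw ha.2
    have hUB := S.hmax U₀ (fun a ha => ha.1) hxU hKU hne
    refine hTy (LinearMap.ext fun v => ?_)
    obtain ⟨c, hc, rfl⟩ := hπ₀s v
    have hyc : y * c * y⁻¹ ∈ A := (hcp c hc (2 ^ e)).2.2.1
    have hmem : y * c * y⁻¹ * c⁻¹ ∈ U₀ := ⟨mul_mem hyc (inv_mem hc), fun w hw => by
      have e : ι (y * c * y⁻¹ * c⁻¹) = ι y * (ι c * (ι y)⁻¹ * (ι c)⁻¹) := by
        rw [hιm _ (hAP hyc) _ (inv_mem (hAP hc)), hιi c (hAP hc),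
          hιm _ (mul_mem hyP (hAP hc)) _ (inv_mem hyP), hιm _ hyP _ (hAP hc), hιi y hyP]
        simp [mul_assoc]
      rw [e]
      exact (hy0 w hw).mul_left (hconjc _ _ w (hPbZ _ (hι c (hAP hc)).1) hw
        fun w hw => (hy0 w hw).inv_left)⟩
    have h0 := (hπ₀0 _ (mul_mem hyc (inv_mem hc))).2 (hUB hmem)
    rw [hπ₀m _ hyc _ (inv_mem hc), show π₀ (y * c * y⁻¹) = (T ^ 2 ^ e) (π₀ c) from (hcp c hc _).2.2.2,
      show π₀ c⁻¹ = -π₀ c from eq_neg_of_add_eq_zero_left (by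
        rw [← hπ₀m _ (inv_mem hc) _ hc, inv_mul_cancel, hπ₀1]), ← sub_eq_add_neg, sub_eq_zero] at h0
    rw [h0, Module.End.one_apply]
  -- the special element centralises the critical subgroup
  set a₀ := ι a with ha₀
  have haC : a₀ ∈ Subgroup.normalizer (C : Set H) := hPbC _ (hι a (hAP ha)).1
  have hasq : a₀ * a₀ = 1 := by
    rw [ha₀, ← hιm a (hAP ha) a (hAP ha)]
    refine huniq _ (mul_mem (hAP ha) (hAP ha)) 1 (one_mem _) ?_
    rw [map_one]
    rcases hsp with hb | ⟨hB, -⟩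
    · exact (S.hBsq a hb).symm
    · have h1 := S.hsq a ha
      rw [hB, Subgroup.mem_bot] at h1
      exact h1.symm
  have hcentC : ∀ c ∈ C, a₀ * c * a₀⁻¹ = c := by
    intro c hc
    set d := a₀ * c * a₀⁻¹ * c⁻¹ with hd
    have hdC : d ∈ C := mul_mem (CoprimeAct.conj_mem_of_mem_normalizer haC hc) (inv_mem hc)
    have hdZ : d ∈ Z := by
      refine ⟨hdC, Subgroup.mem_centralizer_iff.2 fun d' hd' => ?_⟩
      by_contra hne
      have hz1 : ⁅d, d'⁆ ≠ 1 := fun h1 => hne (commutatorElement_eq_one_iff_mul_comm.1 h1).symm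
      have hzmem : ⁅d, d'⁆ ∈ ⁅C, C⁆ := Subgroup.commutator_mem_commutator hdC hd'
      obtain ⟨M, μ, Sc⟩ := exists_sector ρ hρ hr2 (hRrq.to_le hCR)
        (fun c hc d hd => hZC c (hCdZ hc) d hd) hexpCd hzmem hz1
      have h0 := sector_act he S Sc (fun c hc d hd => hZC _ (hpowZ c hc) d hd) P₂ hxP hAP ι hιm
        (fun g hg => hPbC _ (hι g hg).1)
        (fun a ha w hw => CoprimeAct.conj_eq_of_commute (hA0 a ha w (hCdZ hw)).eq)
        (fun w hw => CoprimeAct.conj_eq_of_commute (hy0 w (hCdZ hw)).eq)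
        (fun g hg => hdeg _ (hι g hg).1) hc ha hsp d' hd'
      rw [Sc.hz1] at h0
      exact one_ne_zero h0
    have h2 : d * d = 1 := by
      have hda : a₀ * d * a₀⁻¹ = d :=
        CoprimeAct.conj_eq_of_commute (hA0 a ha d hdZ).eq
      have hai : a₀⁻¹ = a₀ := inv_eq_of_mul_eq_one_right hasq
      calc d * d = (a₀ * d * a₀⁻¹) * d := by rw [hda]
        _ = a₀ * (a₀ * c * a₀⁻¹ * c⁻¹) * a₀⁻¹ * (a₀ * c * a₀⁻¹ * c⁻¹) := rfl
        _ = a₀ * a₀ * c * (a₀ * a₀)⁻¹ * c⁻¹ := by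
          rw [mul_inv_rev]
          simp only [mul_assoc]
          rw [inv_mul_cancel_left, inv_mul_cancel_left]
        _ = 1 := by rw [hasq]; simp
    obtain ⟨k, hk⟩ := IsPGroup.iff_orderOf.1 hRrq ⟨d, hCR hdC⟩
    rw [Subgroup.orderOf_mk] at hk
    have hd1 : d = 1 := orderOf_eq_one_iff.1 (Nat.eq_one_of_dvd_coprimes
      (((Nat.coprime_primes hr Nat.prime_two).2 hr2).pow k 1) hk.dvd
      (by rw [pow_one]; exact orderOf_dvd_of_pow_eq_one (by rw [pow_two, h2])))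
    rw [hd, mul_inv_eq_one] at hd1
    exact hd1
  -- hence the Sylow subgroup
  have haR : a₀ ∈ Subgroup.normalizer (Rr : Set H) := hQ (hι a (hAP ha)).1
  have hθ : Rr.normalizerMonoidHom ⟨a₀, haR⟩ = 1 := by
    refine hC₀.mulAut_eq_one' hRrq ?_ fun c hc => Subtype.ext ?_
    · have hord : orderOf (Rr.normalizerMonoidHom ⟨a₀, haR⟩) ∣ 2 := by
        refine orderOf_dvd_of_pow_eq_one ?_
        rw [← map_pow, show (⟨a₀, haR⟩ : Subgroup.normalizer (Rr : Set H)) ^ 2 = 1 from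
          Subtype.ext (by rw [pow_two]; exact hasq), map_one]
      exact Nat.Coprime.coprime_dvd_left hord ((Nat.coprime_primes Nat.prime_two hr).2 (Ne.symm hr2))
    · exact hcentC _ (Subgroup.mem_map_of_mem Rr.subtype hc)
  have := congrArg Subtype.val (DFunLike.congr_fun hθ ⟨(t : H), htR⟩)
  replace this : a₀ * (t : H) * a₀⁻¹ = t := this
  exact mul_inv_eq_iff_eq_mul.1 this

/-- Two steps of the upper series lower the exponent. -/
theorem exponent_drop_two {G : Type u} [Group G] [Finite G] [Group.IsSolvable G]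
    (hO : Cfsg.pPrimeCore 2 G = ⊥) (e : ℕ) (he : 1 ≤ e)
    (hexp : ∀ (P : Sylow 2 G), ∀ x ∈ (P : Subgroup G), x ^ 2 ^ (e + 1) = 1)
    (P : Sylow 2 G) {x : G} (hx : x ∈ (P : Subgroup G)) : x ^ 2 ^ e ∈ PSeries.U 2 G 4 := by
  classical
  haveI : Fact (Nat.Prime 2) := ⟨Nat.prime_two⟩
  have hsol : Cfsg.IsPSolvable 2 G := PSolvable.of_solvable inferInstance
  obtain ⟨hn, ρ, hρ, -, hdeg⟩ := HHExponent.sub_one_pow_eq_zero hsol hO (e + 1) hexp
  set g₁ := QuotientGroup.mk' (Cfsg.pCore 2 G) with hg₁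
  have hg₁s : Function.Surjective g₁ := QuotientGroup.mk'_surjective _
  have hsolH : Cfsg.IsPSolvable 2 (G ⧸ Cfsg.pCore 2 G) := PSolvable.quotient _ hsol
  have hOpH : Cfsg.pCore 2 (G ⧸ Cfsg.pCore 2 G) = ⊥ := PBasic.pCore_quotient_pCore 2 G
  set H := G ⧸ Cfsg.pCore 2 G
  haveI : Group.IsSolvable H := Group.isSolvable_of_surjective hg₁s
  haveI hRn := FittingCores.pPrimeCore_normal (G := H) 2
  set g₂ := QuotientGroup.mk' (Cfsg.pPrimeCore 2 H) with hg₂
  have hg₂s : Function.Surjective g₂ := QuotientGroup.mk'_surjective _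
  have hOG₂ : Cfsg.pPrimeCore 2 (H ⧸ Cfsg.pPrimeCore 2 H) = ⊥ :=
    PBasic.pPrimeCore_quotient_pPrimeCore 2 H
  set G₂ := H ⧸ Cfsg.pPrimeCore 2 H
  haveI : Group.IsSolvable G₂ := Group.isSolvable_of_surjective hg₂s
  set P₂ : Sylow 2 G₂ := (P.mapSurjective hg₁s).mapSurjective hg₂s with hP₂
  have hexpP : ∀ g ∈ (P : Subgroup G).map g₁, g ^ 2 ^ (e + 1) = 1 := by
    rintro _ ⟨w, hw, rfl⟩
    rw [← map_pow, hexp P w hw, map_one]
  have hfinal : g₂ (g₁ x) ^ 2 ^ e ∈ Cfsg.pCore 2 G₂ := by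
    by_contra hcon
    obtain ⟨q, x', K, A, B, hx', hA, S⟩ := exists_sect hOG₂ e P₂ (by
        rintro _ ⟨w, hw, rfl⟩
        rw [← map_pow, hexpP w hw, map_one])
      (x := g₂ (g₁ x)) (Subgroup.mem_map_of_mem g₂ (Subgroup.mem_map_of_mem g₁ hx)) hcon
    haveI : Finite (Additive (HHReduce.V 2 G)) := inferInstanceAs (Finite (HHReduce.V 2 G))
    refine no_section ρ hρ g₂ hg₂s ?_ ?_ ((P : Subgroup G).map g₁) (P.isPGroup'.map g₁) he S hx'
      (hA.trans (FittingCores.pCore_le_sylow P₂)) hexpP ?_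
    · rw [hg₂, QuotientGroup.ker_mk']
      exact FittingCores.pPrimeCore_coprime 2
    · rw [hg₂, QuotientGroup.ker_mk']
      exact HHThmB.centralizer_pPrimeCore_le hsolH hOpH
    · rintro _ ⟨w, hw, rfl⟩
      exact hdeg P w hw
  -- transfer to the series
  have hU2 : Cfsg.pCore 2 G = PSeries.U 2 G 2 := by
    refine le_antisymm ?_ ?_
    · refine PSeries.le_succ_odd (n := 1) (by decide) ?_
      obtain ⟨m, hm⟩ := (FittingCores.pCore_isPGroup (G := G) 2).exists_card_eq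
      exact ⟨m, by rw [PSeries.U_one (p := 2) (G := G), hO, Subgroup.relIndex_bot_left, hm]⟩
    · refine FittingCores.le_pCore (PSeries.U_normal 2 G 2) ?_
      obtain ⟨m, hm⟩ := (PSeries.step_U (p := 2) (G := G) 1).2 (by decide)
      rw [PSeries.U_one (p := 2) (G := G), hO, Subgroup.relIndex_bot_left] at hm
      exact IsPGroup.of_card hm
  refine HHExponent.comap_U_le_add g₁ hg₁s (by rw [hg₁, QuotientGroup.ker_mk', hU2]) 2 ?_
  rw [Subgroup.mem_comap, PSeries.U_two]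
  show g₂ (g₁ (x ^ 2 ^ e)) ∈ Cfsg.pCore 2 G₂
  rw [map_pow, map_pow]
  exact hfinal

/-- Gross's bound. -/
theorem pLengthLE_gross : ∀ (e : ℕ) {G : Type u} [Group G] [Finite G] [Group.IsSolvable G],
    (∀ (P : Sylow 2 G), ∀ x ∈ (P : Subgroup G), x ^ 2 ^ (e + 1) = 1) →
    Cfsg.PLengthLE 2 (2 * e + 1) G
  | 0, G, _, _, _, hexp => by
    haveI : Fact (Nat.Prime 2) := ⟨Nat.prime_two⟩
    obtain ⟨P⟩ : Nonempty (Sylow 2 G) := inferInstance
    refine PLengthBasics.pLengthLE_class 1 (PSolvable.of_solvable inferInstance) P ?_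
    haveI : Group.IsNilpotent (P : Subgroup G) := P.isPGroup'.isNilpotent
    refine Group.IsNilpotent.nilpotencyClass_le_one_iff.2 ⟨⟨fun a b => ?_⟩⟩
    have h : ∀ c : (P : Subgroup G), c⁻¹ = c := fun c => inv_eq_of_mul_eq_one_right (Subtype.ext (by
      simpa [pow_two] using hexp P c c.2))
    rw [← h (a * b), mul_inv_rev, h, h]
  | e + 1, G, _, _, _, hexp => by
    haveI : Fact (Nat.Prime 2) := ⟨Nat.prime_two⟩
    have hn := FittingCores.pPrimeCore_normal (G := G) 2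
    set f := QuotientGroup.mk' (Cfsg.pPrimeCore 2 G) with hf
    have hfs : Function.Surjective f := QuotientGroup.mk'_surjective _
    refine PSeries.pLengthLE_of_ker_coprime f ?_ ?_
    · rw [QuotientGroup.ker_mk']; exact FittingCores.pPrimeCore_coprime 2
    set H := G ⧸ Cfsg.pPrimeCore 2 G
    haveI : Group.IsSolvable H := Group.isSolvable_of_surjective hfs
    have hOH : Cfsg.pPrimeCore 2 H = ⊥ := PBasic.pPrimeCore_quotient_pPrimeCore 2 G
    have hexpH : ∀ (P : Sylow 2 H), ∀ x ∈ (P : Subgroup H), x ^ 2 ^ (e + 1 + 1) = 1 := by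
      intro P x hx
      obtain ⟨Q, rfl⟩ := Sylow.mapSurjective_surjective hfs 2 P
      obtain ⟨y, hy, rfl⟩ := hx
      rw [← map_pow, hexp Q y hy, map_one]
    rw [show 2 * (e + 1) + 1 = 2 * e + 1 + 2 by ring]
    haveI : (PSeries.U 2 H 4).Normal := PSeries.U_normal 2 H 4
    haveI : Group.IsSolvable (H ⧸ PSeries.U 2 H 4) :=
      Group.isSolvable_of_surjective (QuotientGroup.mk'_surjective _)
    refine HHExponent.pLengthLE_succ_succ (pLengthLE_gross e ?_)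
    intro P y hy
    obtain ⟨Q, rfl⟩ := Sylow.mapSurjective_surjective (QuotientGroup.mk'_surjective (PSeries.U 2 H 4)) 2 P
    obtain ⟨x, hx, rfl⟩ := hy
    rw [← map_pow]
    exact (QuotientGroup.eq_one_iff _).2 (exponent_drop_two hOH (e + 1) (by omega) hexpH Q hx)

end Cfsg.Agent.GrossTwo
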