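import Cfsg.Agent.Lib.GrossTwo.Section
import Cfsg.Agent.Lib.GrossTwo.Blocks

/-!
Quotients of a section by the radical of a hyperplane of its central part.
-/

set_option autoImplicit false
set_option linter.unusedSectionVars false
set_option linter.style.haveILetI false

open Module
open scoped commutatorElement Pointwise

universe u

namespace Cfsg.Agent.GrossTwo

variable {G : Type u} [Group G] [Finite G]

/-- The elements with all commutators in `B₀`. -/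
def radCarrier (A B₀ : Subgroup G) : Set G := {a | a ∈ A ∧ ∀ a' ∈ A, ⁅a, a'⁆ ∈ B₀}

namespace Sect

variable {e q : ℕ} {x : G} {K A B : Subgroup G}

/-- The radical of a subgroup of the central part. -/
def rad (S : Sect e q x K A B) {B₀ : Subgroup G} (hB₀ : B₀ ≤ B) : Subgroup G where
  carrier := radCarrier A B₀
  one_mem' := ⟨one_mem A, fun a' _ => by rw [commutatorElement_one_left]; exact one_mem _⟩
  mul_mem' := fun {a b} ha hb => ⟨mul_mem ha.1 hb.1, fun c hc => by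
    have h : ⁅a * b, c⁆ = a * ⁅b, c⁆ * a⁻¹ * ⁅a, c⁆ := by simp [commutatorElement_def, mul_assoc]
    rw [h, ← S.hBc _ (hB₀ (hb.2 c hc)) a ha.1, mul_inv_cancel_right]
    exact mul_mem (hb.2 c hc) (ha.2 c hc)⟩
  inv_mem' := fun {a} ha => ⟨inv_mem ha.1, fun c hc => by
    have h : ⁅a⁻¹, c⁆ = a⁻¹ * ⁅a, c⁆⁻¹ * a := by simp [commutatorElement_def, mul_assoc]
    rw [h, mul_assoc, S.hBc _ (inv_mem (hB₀ (ha.2 c hc))) a ha.1, ← mul_assoc, inv_mul_cancel, one_mul]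
    exact inv_mem (ha.2 c hc)⟩

theorem mem_rad (S : Sect e q x K A B) {B₀ : Subgroup G} (hB₀ : B₀ ≤ B) {a : G} :
    a ∈ S.rad hB₀ ↔ a ∈ A ∧ ∀ a' ∈ A, ⁅a, a'⁆ ∈ B₀ := Iff.rfl

theorem le_rad (S : Sect e q x K A B) {B₀ : Subgroup G} (hB₀ : B₀ ≤ B) : B ≤ S.rad hB₀ :=
  fun b hb => ⟨S.hBA hb, fun a ha => by
    rw [commutatorElement_eq_one_iff_mul_comm.2 (S.hBc b hb a ha)]; exact one_mem _⟩

theorem conj_rad (S : Sect e q x K A B) {B₀ : Subgroup G} (hB₀ : B₀ ≤ B) {g : G}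
    (hgA : g ∈ Subgroup.normalizer (A : Set G)) (hgB : ∀ b ∈ B₀, g * b * g⁻¹ ∈ B₀) {a : G}
    (ha : a ∈ S.rad hB₀) : g * a * g⁻¹ ∈ S.rad hB₀ :=
  ⟨CoprimeAct.conj_mem_of_mem_normalizer hgA ha.1, fun c hc => by
    have h1 : ⁅g * a * g⁻¹, c⁆ = g * ⁅a, g⁻¹ * c * g⁆ * g⁻¹ := by
      simp [commutatorElement_def, mul_assoc]
    rw [h1]
    refine hgB _ (ha.2 _ ?_)
    simpa using CoprimeAct.conj_mem_of_mem_normalizer (inv_mem hgA) hc⟩

theorem conj_rad_K (S : Sect e q x K A B) {B₀ : Subgroup G} (hB₀ : B₀ ≤ B) {k : G} (hk : k ∈ K)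
    {a : G} (ha : a ∈ S.rad hB₀) : k * a * k⁻¹ ∈ S.rad hB₀ :=
  S.conj_rad hB₀ (S.hKA hk) (fun b hb => by
    rw [CoprimeAct.conj_eq_of_commute (S.hKfix k hk b (hB₀ hb))]; exact hb) ha

theorem coprime_card (S : Sect e q x K A B) {D : Subgroup G} (hD : D ≤ K) : Odd (Nat.card D) := by
  haveI := Fact.mk S.hq
  obtain ⟨k, hk⟩ := (S.hK.to_le hD).exists_card_eq
  rw [hk]
  exact (S.hq.odd_of_ne_two S.hq2).pow

/-- Squares of radical elements lie in the hyperplane. -/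
theorem sqrad [Group.IsSolvable G] (S : Sect e q x K A B) (he : 1 ≤ e) {B₀ : Subgroup G}
    (hB₀ : B₀ ≤ B) {a : G} (ha : a ∈ S.rad hB₀) : a * a ∈ B₀ := by
  classical
  obtain ⟨U, i1, i2, i3, σ, π, hπs, hπm, hπ0, hπc, -, -, hfpf⟩ := S.exists_base he
  have hKN : ∀ k : K, (k : G) ∈ Subgroup.normalizer (A : Set G) ⊓ Subgroup.normalizer (B : Set G) := fun k => ⟨S.hKA k.2, S.hKB k.2⟩
  haveI := Fintype.ofFinite K
  set s := a * a with hs
  have hsB : s ∈ B := S.hsq a ha.1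
  have hss : s * s = 1 := S.hBsq s hsB
  clear_value s
  have key : ∀ t : Finset K, ∃ w ∈ S.rad hB₀, π w = ∑ k ∈ t, σ ⟨k, hKN k⟩ (π a) ∧
      w * w * s ^ t.card ∈ B₀ := by
    intro t
    induction t using Finset.induction with
    | empty => exact ⟨1, one_mem _, by simpa using (hπ0 1 (one_mem A)).2 (one_mem B), by simp⟩
    | @insert k t hkt ih =>
      obtain ⟨w, hw, hwπ, hws⟩ := ih
      set c := (k : G) * a * (k : G)⁻¹ with hc
      have hcR : c ∈ S.rad hB₀ := S.conj_rad_K hB₀ k.2 ha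
      have hcc : c * c = s := by
        rw [hc, conj_mul, ← hs, CoprimeAct.conj_eq_of_commute (S.hKfix k k.2 s hsB)]
      refine ⟨c * w, mul_mem hcR hw, ?_, ?_⟩
      · rw [hπm _ hcR.1 _ hw.1, hwπ, Finset.sum_insert hkt, hπc ⟨k, hKN k⟩ a ha.1]
      · have hd : ⁅w, c⁆ ∈ B₀ := hw.2 c hcR.1
        have e1 : c * w * (c * w) = c * ⁅w, c⁆ * c * (w * w) := by
          simp [commutatorElement_def, mul_assoc]
        have e2 : c * ⁅w, c⁆ = ⁅w, c⁆ * c := (S.hBc _ (hB₀ hd) c hcR.1).symm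
        have e3 : Commute s (w * w) := S.hBc s hsB _ (mul_mem hw.1 hw.1)
        rw [e1, e2, mul_assoc ⁅w, c⁆, hcc, Finset.card_insert_of_notMem hkt, pow_succ,
          mul_assoc ⁅w, c⁆, mul_assoc ⁅w, c⁆]
        refine mul_mem hd ?_
        rw [e3.eq, mul_assoc (w * w) s, ← mul_assoc s, ((Commute.refl s).pow_right t.card).eq,
          mul_assoc (s ^ t.card), hss, mul_one]
        exact hws
  obtain ⟨w, hw, hwπ, hws⟩ := key Finset.univ
  have hw0 : π w = 0 := by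
    rw [hwπ]
    refine hfpf _ fun d hd => ?_
    have hdK : (d : G) ∈ K := CoprimeAct.commutator_le_left Subgroup.le_normalizer hd
    rw [map_sum]
    refine Fintype.sum_equiv (Equiv.mulLeft (⟨d, hdK⟩ : K)) _ _ fun k => ?_
    rw [← Module.End.mul_apply, ← map_mul]
    rfl
  rw [S.hBsq w ((hπ0 w hw.1).1 hw0), one_mul, Finset.card_univ, ← Nat.card_eq_fintype_card] at hws
  obtain ⟨m, hm⟩ := S.coprime_card (D := K) le_rfl
  rwa [hm, pow_succ, pow_mul, pow_two, hss, one_pow, one_mul] at hws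

/-- A high power of the shift leaves some class outside the radical. -/
theorem key [Group.IsSolvable G] (S : Sect e q x K A B) {U : Type u} [AddCommGroup U]
    [Module (ZMod 2) U] (π : G → U) (hπs : ∀ v, ∃ a ∈ A, π a = v)
    (hπm : ∀ a ∈ A, ∀ a' ∈ A, π (a * a') = π a + π a') (hπ0 : ∀ a ∈ A, π a = 0 ↔ a ∈ B)
    (T : Module.End (ZMod 2) U) (hT : ∀ a ∈ A, π (x * a * x⁻¹) = T (π a))
    {d : ℕ} (hd : (T - 1) ^ d ≠ 0) {B₀ : Subgroup G} (hB₀ : B₀ ≤ B) (hne : B₀ ≠ B) :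
    ∃ a ∈ A, ∀ c ∈ A, π c = ((T - 1) ^ d : Module.End (ZMod 2) U) (π a) → c ∉ S.rad hB₀ := by
  by_contra hcon
  push Not at hcon
  have hrel : ∀ c ∈ A, ∀ c' ∈ A, π c = π c' → c' ∈ S.rad hB₀ → c ∈ S.rad hB₀ := by
    intro c hc c' hc' h h'
    have h0 : c * c'⁻¹ ∈ B := by
      refine (hπ0 _ (mul_mem hc (inv_mem hc'))).1 ?_
      have e := hπm (c * c'⁻¹) (mul_mem hc (inv_mem hc')) c' hc'
      rw [inv_mul_cancel_right, h] at e
      exact right_eq_add.1 e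
    have := mul_mem (S.le_rad hB₀ h0) h'
    rwa [inv_mul_cancel_right] at this
  have hrange : ∀ (a : G), a ∈ A → ∀ c ∈ A, π c = ((T - 1) ^ d : Module.End (ZMod 2) U) (π a) →
      c ∈ S.rad hB₀ := by
    intro a ha c hc h
    obtain ⟨c', hc', h', hR⟩ := hcon a ha
    exact hrel c hc c' hc' (h.trans h'.symm) hR
  have hpow : ∀ (n : ℕ) (a : G), a ∈ A → x ^ n * a * (x ^ n)⁻¹ ∈ A ∧
      π (x ^ n * a * (x ^ n)⁻¹) = (T ^ n) (π a) := by
    intro n a ha
    induction n with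
    | zero => simpa using ha
    | succ n ih =>
      have e : x ^ (n + 1) * a * (x ^ (n + 1))⁻¹ = x * (x ^ n * a * (x ^ n)⁻¹) * x⁻¹ := by
        rw [pow_succ']; group
      rw [e, pow_succ', Module.End.mul_apply, ← ih.2]
      exact ⟨CoprimeAct.conj_mem_of_mem_normalizer S.hxA ih.1, hT _ ih.1⟩
  let I : Subgroup G :=
    { carrier := {c | c ∈ A ∧ ∀ n : ℕ, x ^ n * c * (x ^ n)⁻¹ ∈ S.rad hB₀}
      one_mem' := ⟨one_mem A, fun n => by simp⟩
      mul_mem' := fun {a b} ha hb => ⟨mul_mem ha.1 hb.1, fun n => by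
        rw [show x ^ n * (a * b) * (x ^ n)⁻¹ = x ^ n * a * (x ^ n)⁻¹ * (x ^ n * b * (x ^ n)⁻¹) by group]
        exact mul_mem (ha.2 n) (hb.2 n)⟩
      inv_mem' := fun {a} ha => ⟨inv_mem ha.1, fun n => by
        rw [show x ^ n * a⁻¹ * (x ^ n)⁻¹ = (x ^ n * a * (x ^ n)⁻¹)⁻¹ by group]
        exact inv_mem (ha.2 n)⟩ }
  have hxI : x ∈ Subgroup.normalizer (I : Set G) :=
    Carter.le_normalizer_of_conj_mem fun c hc =>
      ⟨CoprimeAct.conj_mem_of_mem_normalizer S.hxA hc.1, fun n => by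
        have := hc.2 (n + 1)
        rw [pow_succ] at this
        simpa [mul_assoc] using this⟩
  have hKI : K ≤ Subgroup.normalizer (I : Set G) := fun k hk =>
    Carter.le_normalizer_of_conj_mem fun c hc =>
      ⟨CoprimeAct.conj_mem_of_mem_normalizer (S.hKA hk) hc.1, fun n => by
        have h := S.conj_rad_K hB₀ (CoprimeAct.conj_mem_of_mem_normalizer (pow_mem S.hxK n) hk) (hc.2 n)
        simpa [mul_assoc] using h⟩
  have hIA : I ≠ A := by
    intro h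
    refine hne (le_antisymm hB₀ (S.hBgen.trans ?_))
    rw [Subgroup.commutator_le]
    intro a ha a' ha'
    have := (h.ge ha).2 0
    rw [pow_zero, one_mul, inv_one, mul_one] at this
    exact this.2 a' ha'
  refine hd (LinearMap.ext fun v => ?_)
  obtain ⟨a, ha, rfl⟩ := hπs v
  obtain ⟨c, hc, hcπ⟩ := hπs (((T - 1) ^ d : Module.End (ZMod 2) U) (π a))
  have hcI : c ∈ I := by
    refine ⟨hc, fun n => ?_⟩
    refine hrange _ (hpow n a ha).1 _ (hpow n c hc).1 ?_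
    rw [(hpow n c hc).2, (hpow n a ha).2, hcπ, ← Module.End.mul_apply, ← Module.End.mul_apply,
      (((Commute.refl T).sub_right (Commute.one_right T)).pow_pow n d).eq]
  rw [LinearMap.zero_apply, ← hcπ]
  exact (hπ0 c hc).2 (S.hmax I (fun c hc => hc.1) hxI hKI hIA hcI)

/-- The quotient by a radical: it is large, and small quotients have short Jordan blocks. -/
theorem exists_quot [Group.IsSolvable G] (S : Sect e q x K A B) (he : 1 ≤ e) {B₀ : Subgroup G}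
    (hB₀ : B₀ ≤ B) (hne : B₀ ≠ B) {i j : ℕ} (hij : i + j = e)
    (hvB₀ : ∀ b ∈ B₀, x ^ 2 ^ i * b * (x ^ 2 ^ i)⁻¹ ∈ B₀) :
    ∃ (Q : Type u) (_ : AddCommGroup Q) (_ : Module (ZMod 2) Q) (_ : Finite Q) (π : G → Q)
      (T : Module.End (ZMod 2) Q),
      (∀ v, ∃ a ∈ A, π a = v) ∧ (∀ a ∈ A, ∀ a' ∈ A, π (a * a') = π a + π a') ∧
      (∀ a ∈ A, π a = 0 ↔ a ∈ S.rad hB₀) ∧
      (∀ a ∈ A, π (x ^ 2 ^ i * a * (x ^ 2 ^ i)⁻¹) = T (π a)) ∧
      64 ≤ Nat.card Q ∧ (j = 1 → Nat.card Q = 64 → (T - 1) ^ 3 = 0) := by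
  classical
  haveI := Fact.mk S.hq
  obtain ⟨U, i1, i2, i3, σ, π₀, hπ₀s, hπ₀m, hπ₀0, hπ₀c, -, -, hfpf⟩ := S.exists_base he
  set R := S.rad hB₀ with hR
  set v := x ^ 2 ^ i with hv
  set Nq := Subgroup.normalizer (A : Set G) ⊓ Subgroup.normalizer (R : Set G) with hNq
  have hKN : K ≤ Nq := le_inf S.hKA fun k hk =>
    Carter.le_normalizer_of_conj_mem fun a ha => S.conj_rad_K hB₀ hk ha
  have hvN : v ∈ Nq := ⟨pow_mem S.hxA _, Carter.le_normalizer_of_conj_mem fun a ha =>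
    S.conj_rad hB₀ (pow_mem S.hxA _) hvB₀ ha⟩
  obtain ⟨Q, j1, j2, j3, τ, π, hπs, hπm, hπ0, hπc⟩ := MaxTwoGen.exists_module (r := 2) Nq A R
    inf_le_left inf_le_right (fun a ha a' ha' => S.le_rad hB₀ (S.hcomm a ha a' ha'))
    (fun a ha => by rw [pow_two]; exact S.le_rad hB₀ (S.hsq a ha))
  set V := τ ⟨v, hvN⟩ with hV
  refine ⟨Q, j1, j2, j3, π, V, hπs, hπm, hπ0, fun a ha => hπc ⟨v, hvN⟩ a ha, ?_⟩
  haveI : FiniteDimensional (ZMod 2) Q := Module.Finite.of_finite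
  -- the derived group has no fixed points
  have hπ1 : π 1 = 0 := (hπ0 1 (one_mem A)).2 (one_mem _)
  have hπ₀1 : π₀ 1 = 0 := (hπ₀0 1 (one_mem A)).2 (one_mem _)
  have hDK : ⁅K, K⁆ ≤ K := CoprimeAct.commutator_le_left Subgroup.le_normalizer
  set D := ⁅K, K⁆ with hD
  haveI := Fintype.ofFinite D
  have hfix : ∀ w : Q, (∀ d : D, τ ⟨d, hKN (hDK d.2)⟩ w = w) → w = 0 := by
    intro w hw
    obtain ⟨a, ha, rfl⟩ := hπs w
    have hDN : ∀ d : D, (d : G) ∈ Subgroup.normalizer (A : Set G) ⊓ Subgroup.normalizer (B : Set G) := fun d => ⟨S.hKA (hDK d.2), S.hKB (hDK d.2)⟩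
    have key : ∀ t : Finset D, ∃ c ∈ A, π₀ c = ∑ d ∈ t, σ ⟨d, hDN d⟩ (π₀ a) ∧
        π c = t.card • π a := by
      intro t
      induction t using Finset.induction with
      | empty => exact ⟨1, one_mem A, by simpa using hπ₀1, by simpa using hπ1⟩
      | @insert d t hdt ih =>
        obtain ⟨c, hc, h1, h2⟩ := ih
        have hm := CoprimeAct.conj_mem_of_mem_normalizer (S.hKA (hDK d.2)) ha
        refine ⟨_, mul_mem hm hc, ?_, ?_⟩
        · rw [hπ₀m _ hm _ hc, h1, Finset.sum_insert hdt, hπ₀c ⟨d, hDN d⟩ a ha]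
        · rw [hπm _ hm _ hc, h2, hπc ⟨d, hKN (hDK d.2)⟩ a ha, hw d,
            Finset.card_insert_of_notMem hdt, succ_nsmul']
    obtain ⟨c, hc, h1, h2⟩ := key Finset.univ
    have h0 : π₀ c = 0 := by
      rw [h1]
      refine hfpf _ fun g hg => ?_
      rw [map_sum]
      refine Fintype.sum_equiv (Equiv.mulLeft (⟨g, hg⟩ : D)) _ _ fun d => ?_
      rw [← Module.End.mul_apply, ← map_mul]
      rfl
    have hπc0 : π c = 0 := (hπ0 c hc).2 (S.le_rad hB₀ ((hπ₀0 c hc).1 h0))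
    rw [hπc0, Finset.card_univ, ← Nat.card_eq_fintype_card,
      ← Nat.cast_smul_eq_nsmul (ZMod 2)] at h2
    obtain ⟨m, hm⟩ := S.coprime_card (D := D) hDK
    rw [hm, Nat.cast_add, Nat.cast_mul, show ((2 : ℕ) : ZMod 2) = 0 from rfl, zero_mul, zero_add,
      Nat.cast_one, one_smul] at h2
    exact h2.symm
  have hQ1 : ∃ w : Q, w ≠ 0 := by
    by_contra h
    push Not at h
    refine hne (le_antisymm hB₀ (S.hBgen.trans ?_))
    rw [Subgroup.commutator_le]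
    intro a ha a' ha'
    exact ((hπ0 a ha).1 (h _)).2 a' ha'
  -- the image of `K`
  let θ : K →* Module.End (ZMod 2) Q := τ.comp (Subgroup.inclusion hKN)
  have hθ : ∀ k : K, θ k = τ ⟨k, hKN k.2⟩ := fun k => rfl
  have hnc : ¬ ∀ a b : K, θ a * θ b = θ b * θ a := by
    intro hc
    obtain ⟨w, hw⟩ := hQ1
    refine hw (hfix w fun d => ?_)
    have hθu : ∀ a b : K, θ.toHomUnits a * θ.toHomUnits b = θ.toHomUnits b * θ.toHomUnits a :=
      fun a b => Units.ext (by simpa using hc a b)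
    have hmem : (⟨d, hDK d.2⟩ : K) ∈ θ.toHomUnits.ker := by
      have hle : commutator K ≤ θ.toHomUnits.ker := by
        rw [commutator_def, Subgroup.commutator_le]
        intro a _ b _
        rw [MonoidHom.mem_ker, map_commutatorElement, commutatorElement_eq_one_iff_mul_comm]
        exact hθu a b
      refine hle ?_
      have hd : (d : G) ∈ ⁅K, K⁆ := d.2
      rw [← Subgroup.map_subtype_commutator] at hd
      obtain ⟨k, hk, hkd⟩ := hd
      rwa [show (⟨d, hDK d.2⟩ : K) = k from Subtype.ext hkd.symm]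
    have := congrArg Units.val (MonoidHom.mem_ker.1 hmem)
    show θ (⟨d, hDK d.2⟩ : K) w = w
    rw [show θ (⟨d, hDK d.2⟩ : K) = 1 by simpa using this]
    rfl
  have hcard : Nat.card Q = 2 ^ finrank (ZMod 2) Q := by
    rw [Module.natCard_eq_pow_finrank (K := ZMod 2), Nat.card_zmod]
  have h6 : 6 ≤ finrank (ZMod 2) Q := by
    by_contra h
    exact hnc fun a b => commute_of_small S.hq S.hq2 S.hK (by omega) θ a b
  refine ⟨by rw [hcard]; exact Nat.pow_le_pow_right (show 0 < 2 by norm_num) h6, fun hj hQ64 => ?_⟩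
  have hn6 : finrank (ZMod 2) Q = 6 := by
    rw [hcard, show (64 : ℕ) = 2 ^ 6 by norm_num] at hQ64
    exact Nat.pow_right_injective le_rfl hQ64
  -- the group of operators induced by `K`
  set θu := θ.toHomUnits with hθu
  have hconj : ∀ a : K, τ.toHomUnits ⟨v, hvN⟩ * θu a * (τ.toHomUnits ⟨v, hvN⟩)⁻¹ =
      θu ⟨v * a * v⁻¹, CoprimeAct.conj_mem_of_mem_normalizer (pow_mem S.hxK _) a.2⟩ := fun a => by
    rw [← map_inv]
    have e1 : θu a = τ.toHomUnits ⟨a, hKN a.2⟩ := Units.ext rfl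
    rw [e1, ← map_mul, ← map_mul]
    exact Units.ext rfl
  have hvv : v * v = x ^ 2 ^ e := by
    rw [hv, ← pow_add, ← two_mul, ← pow_succ', show i + 1 = e by omega]
  have hyy : x ^ 2 ^ e * x ^ 2 ^ e = 1 := by rw [← pow_add, ← two_mul, ← pow_succ', S.hx]
  refine short_blocks S.hq S.hq2 hn6 θu.range
    (S.hK.of_surjective θu.rangeRestrict θu.rangeRestrict_surjective) (fun h => hnc fun a b => ?_)
    ?_ (τ.toHomUnits ⟨v, hvN⟩) ?_ ?_ ?_
  · have := congrArg Units.val (h _ ⟨a, rfl⟩ _ ⟨b, rfl⟩)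
    simpa [hθu] using this
  · rintro _ ⟨a, rfl⟩ _ ⟨b, rfl⟩ _ ⟨k, rfl⟩
    rw [← map_commutatorElement, ← map_mul, ← map_mul]
    congr 1
    exact Subtype.ext (S.hclass _ (Subgroup.commutator_mem_commutator a.2 b.2) k k.2)
  · rintro _ ⟨a, rfl⟩
    exact ⟨_, (hconj a).symm⟩
  · rw [← map_pow]
    refine Eq.trans (congrArg _ (Subtype.ext ?_)) (map_one τ.toHomUnits)
    show v ^ 4 = 1
    rw [show (4 : ℕ) = 2 * 2 from rfl, pow_mul, pow_two (v ^ 2), pow_two v, hvv, hyy]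
  · rintro _ ⟨a, rfl⟩ _ ⟨k, rfl⟩
    rw [hconj, hconj, ← map_mul, ← map_mul, ← map_mul]
    congr 1
    refine Subtype.ext (S.hclass _ ?_ k k.2)
    show v * (v * (a : G) * v⁻¹) * v⁻¹ * a ∈ _
    rw [show v * (v * (a : G) * v⁻¹) * v⁻¹ = v * v * a * (v * v)⁻¹ by group, hvv]
    exact S.hinv a a.2

end Sect

end Cfsg.Agent.GrossTwo
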