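import Cfsg.Agent.Lib.Solvable.HHExponent
import Cfsg.Agent.Lib.MaxTwoGen.Key
import Cfsg.Agent.Lib.Perm.Modules

/-!
A section of `O_2(G)` moved by the central involution of a cyclic `2`-group acting on a `q`-group.
-/

set_option autoImplicit false
set_option linter.unusedSectionVars false
set_option linter.style.haveILetI false

open Module
open scoped commutatorElement Pointwise

universe u

namespace Cfsg.Agent.GrossTwo

variable {G : Type u} [Group G] [Finite G]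

/-- The data of a section. -/
structure Sect (e q : ℕ) (x : G) (K A B : Subgroup G) : Prop where
  hx : x ^ 2 ^ (e + 1) = 1
  hq : q.Prime
  hq2 : q ≠ 2
  hK : IsPGroup q K
  hA : IsPGroup 2 A
  hxK : x ∈ Subgroup.normalizer (K : Set G)
  hxA : x ∈ Subgroup.normalizer (A : Set G)
  hKA : K ≤ Subgroup.normalizer (A : Set G)
  hxB : x ∈ Subgroup.normalizer (B : Set G)
  hKB : K ≤ Subgroup.normalizer (B : Set G)
  hBA : B ≤ A
  hKfix : ∀ k ∈ K, ∀ b ∈ B, k * b = b * k
  hBc : ∀ b ∈ B, ∀ a ∈ A, b * a = a * b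
  hBsq : ∀ b ∈ B, b * b = 1
  hcomm : ∀ a ∈ A, ∀ a' ∈ A, ⁅a, a'⁆ ∈ B
  hsq : ∀ a ∈ A, a * a ∈ B
  hBgen : B ≤ ⁅A, A⁆
  hAK : ⁅A, K⁆ = A
  hne : B ≠ A
  hmax : ∀ U ≤ A, x ∈ Subgroup.normalizer (U : Set G) → K ≤ Subgroup.normalizer (U : Set G) →
    U ≠ A → U ≤ B
  hord : ∀ a ∈ A, (a * x) ^ 2 ^ (e + 1) = 1
  hinv : ∀ k ∈ K, x ^ 2 ^ e * k * (x ^ 2 ^ e)⁻¹ * k ∈ ⁅K, K⁆
  hclass : ∀ d ∈ ⁅K, K⁆, ∀ k ∈ K, d * k = k * d
  hKy : ⁅K, Subgroup.zpowers (x ^ 2 ^ e)⁆ = K

/-- A `2`-element outside `O_2(G)` whose power survives yields a section. -/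
theorem exists_sect [Group.IsSolvable G] (hO : Cfsg.pPrimeCore 2 G = ⊥) (e : ℕ) (P : Sylow 2 G)
    (hexp : ∀ g ∈ (P : Subgroup G), g ^ 2 ^ (e + 1) = 1) {x : G} (hx : x ∈ (P : Subgroup G))
    (hxS : x ^ 2 ^ e ∉ Cfsg.pCore 2 G) :
    ∃ (q : ℕ) (x' : G) (K A B : Subgroup G), x' ∈ (P : Subgroup G) ∧ A ≤ Cfsg.pCore 2 G ∧
      Sect e q x' K A B := by
  classical
  haveI : Fact (Nat.Prime 2) := ⟨Nat.prime_two⟩
  set S := Cfsg.pCore 2 G with hSdef
  haveI hSn : S.Normal := FittingCores.pCore_normal 2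
  have hSP : S ≤ (P : Subgroup G) := FittingCores.pCore_le_sylow P
  have hS2 : IsPGroup 2 S := FittingCores.pCore_isPGroup 2
  -- an invariant subgroup in the quotient
  set f := QuotientGroup.mk' S with hf
  have hfs : Function.Surjective f := QuotientGroup.mk'_surjective S
  have hsol : Cfsg.IsPSolvable 2 (G ⧸ S) := PSolvable.of_solvable inferInstance
  have hOq : Cfsg.pCore 2 (G ⧸ S) = ⊥ := PBasic.pCore_quotient_pCore 2 G
  set R := Cfsg.pPrimeCore 2 (G ⧸ S) with hR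
  haveI hRn : R.Normal := FittingCores.pPrimeCore_normal 2
  set X := Subgroup.zpowers (f x) with hXdef
  have hfx : (f x) ^ 2 ^ (e + 1) = 1 := by rw [← map_pow, hexp x hx, map_one]
  obtain ⟨k₀, -, hk₀⟩ := (Nat.dvd_prime_pow Nat.prime_two).1 (orderOf_dvd_of_pow_eq_one hfx)
  have hXR : (Nat.card X).Coprime (Nat.card R) := by
    rw [hXdef, Nat.card_zpowers, hk₀]
    exact (FittingCores.pPrimeCore_coprime 2).symm.pow_left k₀
  have hXn : X ≤ Subgroup.normalizer (R : Set (G ⧸ S)) := Subgroup.le_normalizer_of_normal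
  have hXs : Group.IsSolvable X := Group.isSolvable_of_comm fun a b => mul_comm' a b
  set y := x ^ 2 ^ e with hy
  have hyR : f y ∉ Subgroup.centralizer (R : Set (G ⧸ S)) := by
    intro h
    have h1 : f y ∈ R := HHThmB.centralizer_pPrimeCore_le hsol hOq h
    refine hxS ((QuotientGroup.eq_one_iff _).1 ?_)
    have h2 : orderOf (f y) ∣ 2 ^ (e + 1) := by
      rw [map_pow]
      exact (orderOf_pow_dvd _).trans (orderOf_dvd_of_pow_eq_one hfx)
    exact orderOf_eq_one_iff.1 (Nat.eq_one_of_dvd_coprimes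
      ((FittingCores.pPrimeCore_coprime (G := G ⧸ S) 2).pow_right (e + 1))
      (Subgroup.orderOf_dvd_natCard R h1) h2)
  obtain ⟨q, Qb, hq, hQR, hQq, hQX, t₀, ht₀, ht₀y⟩ : ∃ (q : ℕ) (Q : Subgroup (G ⧸ S)), q.Prime ∧
      Q ≤ R ∧ IsPGroup q Q ∧ X ≤ Subgroup.normalizer (Q : Set (G ⧸ S)) ∧
      ∃ t ∈ Q, f y * t ≠ t * f y := by
    by_contra hcon
    push Not at hcon
    refine hyR ?_
    have htop : ((Subgroup.centralizer ({f y} : Set (G ⧸ S))).subgroupOf R) = ⊤ := by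
      refine FittingCores.eq_top_of_forall_sylow_le fun q hq => ?_
      have := Fact.mk hq
      obtain ⟨Q, hQ⟩ := CoprimeAct.exists_invariant_sylow hXn hXR (Or.inl hXs) q
      refine ⟨Q, fun t ht => Subgroup.mem_subgroupOf.2 (Subgroup.mem_centralizer_iff.2 fun z hz => ?_)⟩
      rw [Set.mem_singleton_iff.1 hz]
      exact hcon q _ hq (Subgroup.map_subtype_le _) (Q.isPGroup'.map _) hQ _
        (Subgroup.mem_map_of_mem R.subtype ht)
    exact Subgroup.mem_centralizer_iff.2 fun t ht => (Subgroup.mem_centralizer_iff.1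
      ((Subgroup.subgroupOf_eq_top.1 htop) ht) (f y) rfl).symm
  haveI := Fact.mk hq
  have hq2 : q ≠ 2 := by
    rintro rfl
    have hQn : Nontrivial Qb := ⟨⟨⟨t₀, ht₀⟩, 1, fun h => ht₀y (by
      rw [show t₀ = 1 from congrArg Subtype.val h, mul_one, one_mul])⟩⟩
    have hd : 2 ∣ Nat.card Qb := hQq.card_eq_or_dvd.resolve_left (Finite.one_lt_card (α := Qb)).ne'
    exact (Nat.prime_two.coprime_iff_not_dvd.1 (FittingCores.pPrimeCore_coprime (G := G ⧸ S) 2).symm)
      (hd.trans (Subgroup.card_dvd_of_le hQR))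
  -- a lift normalised by an element in the coset of `x`
  set M := Qb.comap f with hM
  let g : M →* Qb := (f.comp M.subtype).codRestrict Qb fun m => m.2
  have hgs : Function.Surjective g := by
    rintro ⟨t, ht⟩
    obtain ⟨m, rfl⟩ := hfs t
    exact ⟨⟨m, ht⟩, rfl⟩
  obtain ⟨Qm⟩ : Nonempty (Sylow q M) := inferInstance
  set Qs := (Qm : Subgroup M).map M.subtype with hQs
  have hQsM : Qs ≤ M := Subgroup.map_subtype_le _
  have hQsq : IsPGroup q Qs := Qm.isPGroup'.map _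
  have hlift : ∀ t ∈ Qb, ∃ k ∈ Qs, f k = t := by
    intro t ht
    have htop : ((Qm.mapSurjective hgs : Sylow q Qb) : Subgroup Qb) = ⊤ := by
      refine Subgroup.eq_top_of_card_eq _ ?_
      obtain ⟨n, hn⟩ := hQq.exists_card_eq
      obtain ⟨k, hk⟩ := (Qm.mapSurjective hgs).isPGroup'.exists_card_eq
      rw [(Qm.mapSurjective hgs).card_eq_multiplicity, hn, hq.factorization_pow,
        Finsupp.single_eq_same]
    obtain ⟨m, hm, hmt⟩ := (htop.ge (Subgroup.mem_top (⟨t, ht⟩ : Qb)) :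
      (⟨t, ht⟩ : Qb) ∈ (Qm : Subgroup M).map g)
    exact ⟨m, Subgroup.mem_map_of_mem _ hm, congrArg Subtype.val hmt⟩
  have hcop2 : ∀ {U V : Subgroup G}, IsPGroup 2 U → IsPGroup q V →
      (Nat.card V).Coprime (Nat.card U) := fun {U V} hU hV => by
    obtain ⟨a, ha⟩ := hU.exists_card_eq
    obtain ⟨b, hb⟩ := hV.exists_card_eq
    rw [ha, hb]
    exact Nat.coprime_pow_primes b a hq Nat.prime_two hq2
  have hMS : M ≤ S ⊔ Qs := fun m hm => by
    obtain ⟨k, hk, hkm⟩ := hlift (f m) hm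
    have : m = m * k⁻¹ * k := by group
    rw [this]
    refine mul_mem (Subgroup.mem_sup_left ((QuotientGroup.eq_one_iff _).1 ?_)) (Subgroup.mem_sup_right hk)
    show f (m * k⁻¹) = 1
    rw [map_mul, map_inv, hkm, mul_inv_cancel]
  obtain ⟨s, hs, hsQ⟩ := SchurZ.conj_in (A := Qs) (K := S) Subgroup.le_normalizer_of_normal
    (hcop2 hS2 hQsq) (Or.inr inferInstance) (B := MulAut.conj x • Qs) (by
      rintro _ ⟨k, hk, rfl⟩
      refine hMS ?_
      show f (x * k * x⁻¹) ∈ Qb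
      rw [map_mul, map_mul, map_inv]
      exact CoprimeAct.conj_mem_of_mem_normalizer (hQX (Subgroup.mem_zpowers _)) (hQsM hk))
    (SolvBasic.card_conjSmul _ _)
  set x' := s⁻¹ * x with hx'
  have hx'P : x' ∈ (P : Subgroup G) := mul_mem (inv_mem (hSP hs)) hx
  have hx'Q : x' ∈ Subgroup.normalizer (Qs : Set G) := by
    rw [SolvBasic.mem_normalizer_iff_conjSmul, hx', ← SolvBasic.conjSmul_conjSmul, ← hsQ,
      SolvBasic.conjSmul_inv_conjSmul]
  have hfx' : f x' = f x := by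
    rw [hx', map_mul, map_inv, show f s = 1 from (QuotientGroup.eq_one_iff s).2 hs, inv_one, one_mul]
  set y' := x' ^ 2 ^ e with hy'
  have hfy : f y' = f y := by rw [hy', hy, map_pow, map_pow, hfx']
  -- a minimal subgroup which is moved
  obtain ⟨K, ⟨hKQ, hxK, k₁, hk₁, hk₁y⟩, hKmin⟩ := WellFounded.has_min
    (wellFounded_lt (α := Subgroup G))
    {K | K ≤ Qs ∧ x' ∈ Subgroup.normalizer (K : Set G) ∧ ∃ k ∈ K, y' * k ≠ k * y'}
    ⟨Qs, le_rfl, hx'Q, by
      obtain ⟨k, hk, hkt⟩ := hlift t₀ ht₀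
      refine ⟨k, hk, fun h => ht₀y ?_⟩
      rw [← hkt, ← hfy, ← map_mul, ← map_mul, h]⟩
  have hKq : IsPGroup q K := hQsq.to_le hKQ
  have hsmall : ∀ U : Subgroup G, U < K → x' ∈ Subgroup.normalizer (U : Set G) →
      ∀ k ∈ U, y' * k = k * y' := fun U hU hUx k hk => by
    by_contra hne
    exact hKmin U ⟨hU.le.trans hKQ, hUx, k, hk, hne⟩ hU
  set Y := Subgroup.zpowers y' with hY
  have hy'ord : y' ∈ (P : Subgroup G) := pow_mem hx'P _
  have hY2 : IsPGroup 2 Y := P.isPGroup'.to_le (Subgroup.zpowers_le.2 hy'ord)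
  have hYK : Y ≤ Subgroup.normalizer (K : Set G) := Subgroup.zpowers_le.2 (pow_mem hxK _)
  have hxY : x' ∈ Subgroup.normalizer (Y : Set G) :=
    Subgroup.centralizer_le_normalizer _ (Subgroup.mem_centralizer_iff.2 fun z hz => by
      obtain ⟨i, rfl⟩ := hz
      exact (((Commute.refl x').pow_left (2 ^ e)).zpow_left i).eq)
  have hKcop : (Nat.card Y).Coprime (Nat.card K) := (hcop2 hY2 hKq).symm
  have hYs : Group.IsSolvable Y ∨ Group.IsSolvable K :=
    Or.inl (Group.isSolvable_of_comm fun a b => mul_comm' a b)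
  have hcen : ∀ U : Subgroup G, U < K → x' ∈ Subgroup.normalizer (U : Set G) → ⁅U, Y⁆ = ⊥ :=
    fun U hU hUx => Subgroup.commutator_eq_bot_iff_le_centralizer.2 fun k hk =>
      Subgroup.mem_centralizer_iff.2 fun z hz => by
        obtain ⟨i, rfl⟩ := hz
        exact (Commute.zpow_left (show Commute y' k from hsmall U hU hUx k hk) i).eq
  have hKY : ⁅K, Y⁆ = K := by
    refine (CoprimeAct.commutator_le_left hYK).eq_or_lt.resolve_right fun hlt => hk₁y ?_
    have h1 := hcen _ hlt (MaxTwoGen.le_normalizer_commutator (X := Subgroup.zpowers x')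
      (Subgroup.zpowers_le.2 hxK) (Subgroup.zpowers_le.2 hxY) (Subgroup.mem_zpowers x'))
    rw [CoprimeAct.commutator_commutator hYK hKcop hYs,
      Subgroup.commutator_eq_bot_iff_le_centralizer] at h1
    exact Subgroup.mem_centralizer_iff.1 (h1 hk₁) y' (Subgroup.mem_zpowers y')
  have hK1 : K ≠ ⊥ := by
    rintro rfl
    rw [Subgroup.mem_bot.1 hk₁] at hk₁y
    simp at hk₁y
  haveI hKnil : Group.IsNilpotent K := hKq.isNilpotent
  haveI : Nontrivial K := (Subgroup.nontrivial_iff_ne_bot K).2 hK1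
  have hK'lt : ⁅K, K⁆ < K := by
    rw [← Subgroup.map_subtype_commutator]
    refine lt_of_le_of_ne (Subgroup.map_subtype_le _) fun h => ?_
    refine (Group.IsSolvable.commutator_lt_top_of_nontrivial K).ne (Subgroup.map_injective K.subtype_injective ?_)
    rw [h, ← MonoidHom.range_eq_map, Subgroup.range_subtype]
  have hK'x : x' ∈ Subgroup.normalizer ((⁅K, K⁆ : Subgroup G) : Set G) :=
    MaxTwoGen.le_normalizer_commutator (X := Subgroup.zpowers x') (Subgroup.zpowers_le.2 hxK)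
      (Subgroup.zpowers_le.2 hxK) (Subgroup.mem_zpowers x')
  have hclass : ∀ d ∈ ⁅K, K⁆, ∀ k ∈ K, d * k = k * d := by
    have h : ⁅⁅K, Y⁆, ⁅K, K⁆⁆ = ⊥ := by
      refine Subgroup.commutator_commutator_eq_bot_of_rotate ?_ ?_
      · rw [Subgroup.commutator_comm Y ⁅K, K⁆, hcen _ hK'lt hK'x, Subgroup.commutator_bot_left]
      · rw [← le_bot_iff, ← hcen _ hK'lt hK'x]
        refine Subgroup.commutator_mono ?_ le_rfl
        exact CoprimeAct.commutator_le_left (Subgroup.le_normalizer.trans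
          (MaxTwoGen.le_normalizer_commutator le_rfl le_rfl))
    rw [hKY, Subgroup.commutator_eq_bot_iff_le_centralizer] at h
    exact fun d hd k hk => Subgroup.mem_centralizer_iff.1 (h hk) d hd
  have hinv : ∀ k ∈ K, y' * k * y'⁻¹ * k ∈ ⁅K, K⁆ := by
    set D := ⁅K, K⁆ with hD
    have hc : ∀ {a b : G}, a ∈ K → b ∈ K → ⁅a, b⁆ ∈ D := fun ha hb =>
      Subgroup.commutator_mem_commutator ha hb
    have hKy : ∀ a ∈ K, y' * a * y'⁻¹ ∈ K := fun a ha =>
      CoprimeAct.conj_mem_of_mem_normalizer (hYK (Subgroup.mem_zpowers _)) ha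
    have hDy : ∀ d ∈ D, y' * d * y'⁻¹ = d := fun d hd =>
      CoprimeAct.conj_eq_of_commute (hsmall D hK'lt hK'x d hd)
    let T : Subgroup G :=
      { carrier := {k | k ∈ K ∧ y' * k * y'⁻¹ * k ∈ D}
        one_mem' := ⟨one_mem K, by simp⟩
        mul_mem' := fun {a b} ha hb => ⟨mul_mem ha.1 hb.1, by
          have e : y' * (a * b) * y'⁻¹ * (a * b) = (y' * a * y'⁻¹ * a) *
              (⁅a⁻¹, y' * b * y'⁻¹⁆ * (y' * b * y'⁻¹ * b)) := by
            simp [commutatorElement_def, mul_assoc]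
          rw [e]
          exact mul_mem ha.2 (mul_mem (hc (inv_mem ha.1) (hKy b hb.1)) hb.2)⟩
        inv_mem' := fun {a} ha => ⟨inv_mem ha.1, by
          have e : y' * a⁻¹ * y'⁻¹ * a⁻¹ =
              ⁅(y' * a * y'⁻¹)⁻¹, a⁻¹⁆ * (y' * a * y'⁻¹ * a)⁻¹ := by
            simp [commutatorElement_def, mul_assoc]
          rw [e]
          exact mul_mem (hc (inv_mem (hKy a ha.1)) (inv_mem ha.1)) (inv_mem ha.2)⟩ }
    have hy2 : y' * y' = 1 := by
      rw [hy', ← pow_add, ← two_mul, ← pow_succ', hexp x' hx'P]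
    have hle : ⁅K, Y⁆ ≤ T := by
      rw [Subgroup.commutator_le]
      intro k hk z hz
      obtain ⟨i, rfl⟩ := hz
      rcases Int.even_or_odd' i with ⟨j, rfl | rfl⟩
      · rw [show (fun i : ℤ => y' ^ i) (2 * j) = y' ^ (2 * j) from rfl, zpow_mul, zpow_two, hy2,
          one_zpow, commutatorElement_one_right]
        exact one_mem T
      · rw [show (fun i : ℤ => y' ^ i) (2 * j + 1) = y' ^ (2 * j + 1) from rfl, zpow_add, zpow_mul,
          zpow_two, hy2, one_zpow, one_mul, zpow_one]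
        have hyi : y'⁻¹ = y' := inv_eq_of_mul_eq_one_right hy2
        refine ⟨?_, ?_⟩
        · rw [commutatorElement_def]
          simpa [mul_assoc] using mul_mem hk (hKy _ (inv_mem hk))
        · have e : y' * ⁅k, y'⁆ * y'⁻¹ * ⁅k, y'⁆ = 1 := by
            simp only [commutatorElement_def, hyi]
            calc y' * (k * y' * k⁻¹ * y') * y' * (k * y' * k⁻¹ * y')
                = y' * k * y' * k⁻¹ * (y' * y') * k * y' * k⁻¹ * y' := by simp only [mul_assoc]
              _ = y' * k * (y' * (k⁻¹ * k) * y') * k⁻¹ * y' := by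
                rw [hy2]; simp only [mul_assoc, one_mul, mul_one]
              _ = 1 := by rw [inv_mul_cancel, mul_one, hy2]; simp [hy2, mul_assoc]
          rw [e]
          exact one_mem D
    rw [hKY] at hle
    exact fun k hk => (hle hk).2
  -- the action on `S`
  have hKS : ¬ K ≤ Subgroup.centralizer (S : Set G) := by
    intro h
    refine hK1 ((Subgroup.eq_bot_iff_forall _).2 fun k hk => ?_)
    exact Subgroup.mem_bot.1 ((SchurZ.inf_eq_bot (hcop2 hS2 hKq)).le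
      ⟨FittingCores.centralizer_pCore_le Nat.prime_two hO (h hk), hk⟩)
  obtain ⟨A, ⟨hAS, hxA, hKA, hAne⟩, hAmin⟩ := WellFounded.has_min
    (wellFounded_lt (α := Subgroup G))
    {A | A ≤ S ∧ x' ∈ Subgroup.normalizer (A : Set G) ∧ K ≤ Subgroup.normalizer (A : Set G) ∧
      ¬ K ≤ Subgroup.centralizer (A : Set G)}
    ⟨S, le_rfl, by rw [Subgroup.normalizer_eq_top]; exact Subgroup.mem_top _,
      Subgroup.le_normalizer_of_normal, hKS⟩
  have hA2 : IsPGroup 2 A := hS2.to_le hAS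
  haveI hAnil : Group.IsNilpotent A := hA2.isNilpotent
  have hAlow : ∀ U ≤ A, x' ∈ Subgroup.normalizer (U : Set G) → K ≤ Subgroup.normalizer (U : Set G) →
      U ≠ A → K ≤ Subgroup.centralizer (U : Set G) := fun U hU hUx hUK hne => by
    by_contra h
    exact hAmin U ⟨hU.trans hAS, hUx, hUK, h⟩ (lt_of_le_of_ne hU hne)
  have hxKA : Subgroup.zpowers x' ≤ Subgroup.normalizer ((⁅A, K⁆ : Subgroup G) : Set G) :=
    MaxTwoGen.le_normalizer_commutator (Subgroup.zpowers_le.2 hxA) (Subgroup.zpowers_le.2 hxK)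
  have hAK : ⁅A, K⁆ = A := by
    by_contra hne
    have h := hAlow _ (CoprimeAct.commutator_le_left hKA) (hxKA (Subgroup.mem_zpowers _))
      (MaxTwoGen.le_normalizer_commutator hKA Subgroup.le_normalizer) hne
    refine hAne (Subgroup.le_centralizer_iff.1 (Subgroup.commutator_eq_bot_iff_le_centralizer.1 ?_))
    rw [← CoprimeAct.commutator_commutator hKA (hcop2 hA2 hKq) (Or.inr inferInstance)]
    exact Subgroup.commutator_eq_bot_iff_le_centralizer.2 (Subgroup.le_centralizer_iff.1 h)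
  set B := A ⊓ Subgroup.centralizer (K : Set G) with hB
  have hBnorm : Subgroup.normalizer (A : Set G) ⊓ Subgroup.normalizer (K : Set G) ≤
      Subgroup.normalizer (B : Set G) :=
    (inf_le_inf le_rfl (MaxTwoGen.normalizer_le_normalizer_centralizer' K)).trans
      Subgroup.inf_normalizer_le_normalizer_inf
  have hmax : ∀ U ≤ A, x' ∈ Subgroup.normalizer (U : Set G) → K ≤ Subgroup.normalizer (U : Set G) →
      U ≠ A → U ≤ B := fun U hU hUx hUK hne =>
    le_inf hU (Subgroup.le_centralizer_iff.1 (hAlow U hU hUx hUK hne))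
  have hKfix : ∀ k ∈ K, ∀ b ∈ B, k * b = b * k := fun k hk b hb =>
    Subgroup.mem_centralizer_iff.1 hb.2 k hk
  have hA1 : A ≠ ⊥ := by
    rintro rfl
    exact hAne fun k _ => Subgroup.mem_centralizer_iff.2 fun a ha => by
      rw [Subgroup.mem_bot.1 ha, one_mul, mul_one]
  set F := (frattini A).map A.subtype with hF
  have hFA : F ≤ A := Subgroup.map_subtype_le _
  have hnF := MaxTwoGen.normalizer_le_normalizer_map_char (frattini A)
  have hFB : F ≤ B := hmax F hFA (hnF hxA) (hKA.trans hnF) fun h => hA1 (by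
    rw [← MaxTwoGen.eq_of_sup_frattini (bot_le : (⊥ : Subgroup G) ≤ A) (by rw [bot_sup_eq]; exact h)])
  have hcomm : ∀ a ∈ A, ∀ a' ∈ A, ⁅a, a'⁆ ∈ B := fun a ha a' ha' => hFB
    ⟨⁅(⟨a, ha⟩ : A), ⟨a', ha'⟩⁆, SolvStruct.commutator_le_frattini A
      (Subgroup.commutator_mem_commutator (Subgroup.mem_top _) (Subgroup.mem_top _)), rfl⟩
  have hsq : ∀ a ∈ A, a * a ∈ B := fun a ha => hFB
    ⟨(⟨a, ha⟩ : A) ^ 2, PGroupBasics.pow_mem_frattini hA2 ⟨a, ha⟩, by simp [pow_two]⟩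
  have hAB : A ≤ Subgroup.normalizer (B : Set G) := by
    refine fun a ha => Carter.le_normalizer_of_conj_mem fun b hb => ?_
    rw [show a * b * a⁻¹ = ⁅a, b⁆ * b by simp [commutatorElement_def]]
    exact mul_mem (hcomm a ha b hb.1) hb
  have hBc : ∀ b ∈ B, ∀ a ∈ A, b * a = a * b := by
    have h : ⁅⁅A, K⁆, B⁆ = ⊥ := by
      refine Subgroup.commutator_commutator_eq_bot_of_rotate ?_ ?_
      · rw [show ⁅K, B⁆ = ⊥ from Subgroup.commutator_eq_bot_iff_le_centralizer.2 fun k hk =>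
          Subgroup.mem_centralizer_iff.2 fun b hb => (hKfix k hk b hb).symm,
          Subgroup.commutator_bot_left]
      · refine le_bot_iff.1 ((Subgroup.commutator_mono (CoprimeAct.commutator_le_left hAB) le_rfl).trans
          (le_of_eq ?_))
        exact Subgroup.commutator_eq_bot_iff_le_centralizer.2 inf_le_right
    rw [hAK, Subgroup.commutator_eq_bot_iff_le_centralizer] at h
    exact fun b hb a ha => Subgroup.mem_centralizer_iff.1 (h ha) b hb
  have hBgen : B ≤ ⁅A, A⁆ := by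
    letI : Fintype K := Fintype.ofFinite K
    let γ : K → MulAut A := fun k => A.normalizerMonoidHom ⟨k, hKA k.2⟩
    let N : A →* Abelianization A :=
      ∏ k : K, Abelianization.of.comp (γ k).toMonoidHom
    have hN : ∀ a, N a = ∏ k : K, Abelianization.of (γ k a) := fun a => MonoidHom.finsetProd_apply ..
    have hNk : ∀ (k₂ : K) a, N (γ k₂ a) = N a := fun k₂ a => by
      rw [hN, hN]
      refine Fintype.prod_equiv (Equiv.mulRight k₂) _ _ fun k => congrArg Abelianization.of (Subtype.ext ?_)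
      show (k : G) * ((k₂ : G) * a * (k₂ : G)⁻¹) * (k : G)⁻¹ =
        ((k : G) * k₂) * a * ((k : G) * k₂)⁻¹
      group
    have hkill : A ≤ N.ker.map A.subtype := by
      conv_lhs => rw [← hAK]
      rw [Subgroup.commutator_le]
      intro a ha k hk
      refine ⟨⟨a, ha⟩ * γ ⟨k, hk⟩ (⟨a, ha⟩⁻¹), ?_, ?_⟩
      · rw [SetLike.mem_coe, MonoidHom.mem_ker, map_mul N, hNk, map_inv, mul_inv_cancel]
      · show a * (k * a⁻¹ * k⁻¹) = ⁅a, k⁆
        rw [commutatorElement_def]; group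
    intro b hb
    obtain ⟨⟨b', hb'⟩, hbker, hbe⟩ := hkill hb.1
    rw [Subgroup.coe_subtype] at hbe
    subst hbe
    rw [SetLike.mem_coe, MonoidHom.mem_ker, hN] at hbker
    have hfix : ∀ k : K, γ k ⟨b', hb'⟩ = ⟨b', hb'⟩ := fun k => Subtype.ext
      (CoprimeAct.conj_eq_of_commute (hKfix k k.2 b' hb))
    simp only [hfix, Finset.prod_const, Finset.card_univ, ← map_pow] at hbker
    rw [← Nat.card_eq_fintype_card, ← MonoidHom.mem_ker, Abelianization.ker_of] at hbker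
    obtain ⟨n, hn⟩ := exists_pow_eq_self_of_coprime (x := (⟨b', hb'⟩ : A)) (n := Nat.card K)
      ((hcop2 hA2 hKq).coprime_dvd_right (orderOf_dvd_natCard _))
    rw [← Subgroup.map_subtype_commutator]
    exact ⟨_, hn ▸ pow_mem hbker n, rfl⟩
  have hBsq : ∀ b ∈ B, b * b = 1 := by
    intro b hb
    refine (Subgroup.closure_induction (p := fun w _ => w ∈ B ∧ w * w = 1) ?_ ⟨one_mem B, mul_one 1⟩
      (fun u v _ _ hu hv => ⟨mul_mem hu.1 hv.1, ?_⟩) (fun u _ hu => ⟨inv_mem hu.1, ?_⟩)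
      (hBgen hb)).2
    · rintro _ ⟨a, ha, a', ha', rfl⟩
      refine ⟨hcomm a ha a' ha', ?_⟩
      have h1 : ⁅a * a, a'⁆ = a * ⁅a, a'⁆ * a⁻¹ * ⁅a, a'⁆ := by
        simp [commutatorElement_def, mul_assoc]
      rw [← hBc _ (hcomm a ha a' ha') a ha, mul_inv_cancel_right,
        commutatorElement_eq_one_iff_mul_comm.2 (hBc _ (hsq a ha) a' ha')] at h1
      exact h1.symm
    · rw [show u * v * (u * v) = u * (v * u) * v by simp only [mul_assoc],
        hBc v hv.1 u hu.1.1, show u * (u * v) * v = (u * u) * (v * v) by simp only [mul_assoc],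
        hu.2, hv.2, one_mul]
    · rw [← mul_inv_rev, hu.2, inv_one]
  refine ⟨q, x', K, A, B, hx'P, hAS, ⟨hexp x' hx'P, hq, hq2, hKq, hA2, hxK, hxA, hKA,
    hBnorm ⟨hxA, hxK⟩, (le_inf hKA Subgroup.le_normalizer).trans hBnorm, inf_le_left, hKfix, hBc,
    hBsq, hcomm, hsq, hBgen, hAK, ?_, hmax, fun a ha => hexp _ (mul_mem (hSP (hAS ha)) hx'P),
    hinv, hclass, hKY⟩⟩
  intro h
  exact hAne (Subgroup.le_centralizer_iff.1 (inf_eq_left.1 h))

namespace Sect

variable {e q : ℕ} {x : G} {K A B : Subgroup G}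

/-- The module of a section. -/
theorem exists_base [Group.IsSolvable G] (S : Sect e q x K A B) (he : 1 ≤ e) :
    ∃ (U : Type u) (_ : AddCommGroup U) (_ : Module (ZMod 2) U) (_ : Finite U)
      (σ : ↥(Subgroup.normalizer (A : Set G) ⊓ Subgroup.normalizer (B : Set G)) →*
        Module.End (ZMod 2) U) (π : G → U),
      (∀ v, ∃ a ∈ A, π a = v) ∧ (∀ a ∈ A, ∀ a' ∈ A, π (a * a') = π a + π a') ∧
      (∀ a ∈ A, π a = 0 ↔ a ∈ B) ∧
      (∀ γ : ↥(Subgroup.normalizer (A : Set G) ⊓ Subgroup.normalizer (B : Set G)), ∀ a ∈ A,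
        π ((γ : G) * a * (γ : G)⁻¹) = σ γ (π a)) ∧
      (σ ⟨x, S.hxA, S.hxB⟩) ^ 2 ^ e ≠ 1 ∧
      (σ ⟨x, S.hxA, S.hxB⟩ - 1) ^ (3 * 2 ^ (e - 1) - 1) ≠ 0 ∧
      ∀ v, (∀ d : ↥(Subgroup.normalizer (A : Set G) ⊓ Subgroup.normalizer (B : Set G)),
        (d : G) ∈ ⁅K, K⁆ → σ d v = v) → v = 0 := by
  classical
  haveI : Fact (Nat.Prime 2) := ⟨Nat.prime_two⟩
  haveI := Fact.mk S.hq
  set N := Subgroup.normalizer (A : Set G) ⊓ Subgroup.normalizer (B : Set G) with hN
  obtain ⟨U, i1, i2, i3, σ, π, hπs, hπm, hπ0, hπc⟩ := MaxTwoGen.exists_module (r := 2) N A B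
    inf_le_left inf_le_right S.hcomm (fun a ha => by rw [pow_two]; exact S.hsq a ha)
  refine ⟨U, i1, i2, i3, σ, π, hπs, hπm, hπ0, hπc, ?_⟩
  haveI : FiniteDimensional (ZMod 2) U := Module.Finite.of_finite
  have hKN : K ≤ N := le_inf S.hKA S.hKB
  set X : N := ⟨x, S.hxA, S.hxB⟩ with hX
  have hπ1 : π 1 = 0 := (hπ0 1 (one_mem A)).2 (one_mem B)
  have hπi : ∀ a ∈ A, π a⁻¹ = -π a := fun a ha =>
    eq_neg_of_add_eq_zero_left (by rw [← hπm _ (inv_mem ha) _ ha, inv_mul_cancel, hπ1])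
  -- irreducibility
  have hirr : ∀ Z : Submodule (ZMod 2) U, (∀ v ∈ Z, σ X v ∈ Z) →
      (∀ k (hk : k ∈ K), ∀ v ∈ Z, σ ⟨k, hKN hk⟩ v ∈ Z) → Z = ⊥ ∨ Z = ⊤ := by
    intro Z hZx hZK
    let W : Subgroup G :=
      { carrier := {a | a ∈ A ∧ π a ∈ Z}
        one_mem' := ⟨one_mem A, by rw [hπ1]; exact Z.zero_mem⟩
        mul_mem' := fun {a b} ha hb => ⟨mul_mem ha.1 hb.1, by
          rw [hπm _ ha.1 _ hb.1]; exact Z.add_mem ha.2 hb.2⟩
        inv_mem' := fun {a} ha => ⟨inv_mem ha.1, by rw [hπi _ ha.1]; exact Z.neg_mem ha.2⟩ }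
    have hmem : ∀ (g : G) (hg : g ∈ N), (∀ v ∈ Z, σ ⟨g, hg⟩ v ∈ Z) →
        g ∈ Subgroup.normalizer (W : Set G) := fun g hg h =>
      Carter.le_normalizer_of_conj_mem fun a ha =>
        ⟨CoprimeAct.conj_mem_of_mem_normalizer hg.1 ha.1, by
          have := hπc ⟨g, hg⟩ a ha.1
          rw [this]; exact h _ ha.2⟩
    by_cases h : W = A
    · exact Or.inr (top_le_iff.1 fun v _ => by
        obtain ⟨a, ha, rfl⟩ := hπs v
        exact (h.ge ha).2)
    · refine Or.inl ((Submodule.eq_bot_iff Z).2 fun v hv => ?_)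
      obtain ⟨a, ha, rfl⟩ := hπs v
      exact (hπ0 a ha).2 (S.hmax W (fun a ha => ha.1) (hmem x X.2 hZx)
        (fun k hk => hmem k (hKN hk) (hZK k hk)) h ⟨ha, hv⟩)
  -- the involution acts
  have hKU : ¬ ∀ k (hk : k ∈ K), σ ⟨k, hKN hk⟩ = 1 := by
    intro h
    refine S.hne (le_antisymm S.hBA ?_)
    conv_lhs => rw [← S.hAK]
    rw [Subgroup.commutator_le]
    intro a ha k hk
    have hmem := CoprimeAct.conj_mem_of_mem_normalizer (S.hKA hk) (inv_mem ha)
    rw [show ⁅a, k⁆ = a * (k * a⁻¹ * k⁻¹) by simp [commutatorElement_def, mul_assoc]]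
    refine (hπ0 _ (mul_mem ha hmem)).1 ?_
    rw [hπm _ ha _ hmem, hπc ⟨k, hKN hk⟩ _ (inv_mem ha), h k hk, Module.End.one_apply,
      ← hπm _ ha _ (inv_mem ha), mul_inv_cancel, hπ1]
  have hy : σ X ^ 2 ^ e ≠ 1 := by
    intro h
    have hyN : x ^ 2 ^ e ∈ N := pow_mem X.2 _
    have hle : ⁅K, Subgroup.zpowers (x ^ 2 ^ e)⁆ ≤ σ.ker.map N.subtype := by
      rw [Subgroup.commutator_le]
      intro k hk z hz
      have hz' : z ∈ N := Subgroup.zpowers_le.2 hyN hz
      refine ⟨⁅(⟨k, hKN hk⟩ : N), ⟨z, hz'⟩⁆, ?_, rfl⟩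
      have h1 : σ ⟨z, hz'⟩ = 1 := by
        obtain ⟨i, hi⟩ := hz
        have hzz : (⟨z, hz'⟩ : N) = (X ^ 2 ^ e) ^ i := Subtype.ext (by simp [hX, ← hi])
        have hy' : X ^ 2 ^ e ∈ σ.ker := by rw [MonoidHom.mem_ker, map_pow, h]
        rw [hzz]
        exact MonoidHom.mem_ker.1 (zpow_mem hy' i)
      have h2 : σ ⟨z, hz'⟩⁻¹ = 1 := MonoidHom.mem_ker.1 (inv_mem (MonoidHom.mem_ker.2 h1))
      rw [SetLike.mem_coe, MonoidHom.mem_ker, commutatorElement_def, map_mul, map_mul, map_mul, h1,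
        h2, mul_one, mul_one, ← map_mul, mul_inv_cancel, map_one]
    rw [S.hKy] at hle
    refine hKU fun k hk => ?_
    obtain ⟨γ, hγ, hγk⟩ := hle hk
    rw [show (⟨k, hKN hk⟩ : N) = γ from Subtype.ext hγk.symm]
    exact hγ
  -- the exponent
  set T := σ X with hT
  have hTsum : ∀ (a : G), a ∈ A → ∀ n : ℕ,
      (a * x) ^ n * (x ^ n)⁻¹ ∈ A ∧
        π ((a * x) ^ n * (x ^ n)⁻¹) = (∑ t ∈ Finset.range n, T ^ t) (π a) := by
    intro a ha n
    induction n with
    | zero => simp [hπ1]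
    | succ n ih =>
      have hc : x ^ n * a * (x ^ n)⁻¹ ∈ A :=
        CoprimeAct.conj_mem_of_mem_normalizer (pow_mem S.hxA n) ha
      have e : (a * x) ^ (n + 1) * (x ^ (n + 1))⁻¹ =
          (a * x) ^ n * (x ^ n)⁻¹ * (x ^ n * a * (x ^ n)⁻¹) := by
        rw [pow_succ, pow_succ]; group
      rw [e]
      refine ⟨mul_mem ih.1 hc, ?_⟩
      rw [hπm _ ih.1 _ hc, ih.2, Finset.sum_range_succ, LinearMap.add_apply]
      congr 1
      have := hπc (X ^ n) a ha
      rw [SubgroupClass.coe_pow, map_pow] at this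
      exact this
  have hdeg0 : (T - 1) ^ (2 ^ (e + 1) - 1) = 0 := by
    rw [HHLinear.sub_one_pow_pred (K := ZMod 2)]
    refine LinearMap.ext fun v => ?_
    obtain ⟨a, ha, rfl⟩ := hπs v
    rw [← (hTsum a ha _).2, S.hord a ha, S.hx]
    simpa using hπ1
  -- the image of the group generated
  set XK := Subgroup.closure ({X} ∪ {γ : N | (γ : G) ∈ K}) with hXK
  have hXKmem : ∀ k (hk : k ∈ K), (⟨k, hKN hk⟩ : N) ∈ XK := fun k hk =>
    Subgroup.subset_closure (Or.inr hk)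
  have hXX : X ∈ XK := Subgroup.subset_closure (Or.inl rfl)
  set θ := (σ.comp XK.subtype).toHomUnits with hθ
  set θr := θ.rangeRestrict with hθr
  let ρ' : θ.range →* Module.End (ZMod 2) U := (Units.coeHom _).comp θ.range.subtype
  have hρ' : Function.Injective ρ' := fun a b h => Subtype.ext (Units.ext h)
  haveI : Finite θ.range := Finite.of_surjective θr θ.rangeRestrict_surjective
  haveI : Group.IsSolvable θ.range := Group.isSolvable_of_surjective θ.rangeRestrict_surjective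
  have hfixed : ∀ Z : Subgroup θ.range, Z.Normal → ∀ v, v ≠ 0 → (∀ g ∈ Z, ρ' g v = v) →
      ∀ g ∈ Z, ρ' g = 1 := by
    intro Z hZn v hv hfix
    let F : Submodule (ZMod 2) U := ⨅ g : Z, LinearMap.ker (ρ' g - 1)
    have hF : ∀ w, w ∈ F ↔ ∀ g ∈ Z, ρ' g w = w := fun w => by
      simp [F, Submodule.mem_iInf, sub_eq_zero]
    have hinv : ∀ γ : XK, ∀ w ∈ F, σ (γ : N) w ∈ F := by
      intro γ w hw
      refine (hF _).2 fun g hg => ?_
      have h := (hF w).1 hw _ (hZn.conj_mem g hg (θr γ)⁻¹)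
      show (ρ' g * ρ' (θr γ)) w = ρ' (θr γ) w
      conv_rhs => rw [← h]
      rw [← map_mul, ← Module.End.mul_apply, ← map_mul]
      congr 2
      group
    rcases hirr F (hinv ⟨X, hXX⟩) (fun k hk => hinv ⟨_, hXKmem k hk⟩) with h | h
    · exact absurd ((Submodule.mem_bot _).1 (h ▸ (hF v).2 hfix)) hv
    · exact fun g hg => LinearMap.ext fun w => (hF w).1 (h ▸ Submodule.mem_top) g hg
  haveI hUn : Nontrivial U := by
    obtain ⟨a, ha, hab⟩ := SetLike.exists_of_lt (lt_of_le_of_ne S.hBA S.hne)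
    exact ⟨π a, 0, fun h => hab ((hπ0 a ha).1 h)⟩
  have hcore : Cfsg.pCore 2 θ.range = ⊥ := by
    obtain ⟨w, hw⟩ := exists_ne (0 : U)
    obtain ⟨v, -, hv, hfix⟩ := PermModules.exists_fixed_vector
      (FittingCores.pCore_isPGroup (G := θ.range) 2) (ρ'.comp (Cfsg.pCore 2 θ.range).subtype)
      (⊤ : Submodule (ZMod 2) U) (fun _ _ _ => trivial) (w := w) trivial hw
    refine (Subgroup.eq_bot_iff_forall _).2 fun g hg => hρ' ?_
    rw [map_one]
    exact hfixed _ (FittingCores.pCore_normal 2) v hv (fun g hg => hfix ⟨g, hg⟩) g hg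
  set Xr := θr ⟨X, hXX⟩ with hXr
  have hXrT : ρ' Xr = T := rfl
  have hord : orderOf Xr = 2 ^ (e + 1) := by
    refine orderOf_eq_prime_pow (fun h => hy ?_) (hρ' ?_)
    · rw [← hXrT, ← map_pow, h, map_one]
    · rw [map_pow, map_one, hXrT, hT, ← map_pow]
      rw [show X ^ 2 ^ (e + 1) = 1 from Subtype.ext S.hx, map_one]
  rcases HHThmB.exists_bound ρ' hρ' (PSolvable.of_solvable inferInstance) hcore Xr (e + 1) (by omega)
    hord with h | ⟨n₀, q', m, h1, h2, hq', h3, h4, hsyl, h7⟩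
  · exact absurd hdeg0 h
  have hn₀ : 2 ≤ n₀ := by
    by_contra h
    obtain rfl : n₀ = 1 := by omega
    have := Nat.one_lt_pow (n := m) (by omega) hq'.one_lt
    omega
  refine ⟨hy, fun h0 => h7 ?_, ?_⟩
  · rw [hXrT]
    obtain ⟨j, hj⟩ := Nat.exists_eq_add_of_le (show 3 * 2 ^ (e - 1) - 1 ≤
      2 ^ (e + 1 - n₀) * (2 ^ n₀ - 1) - 1 by
        obtain ⟨k, hk⟩ := Nat.exists_eq_add_of_le h2
        rw [show e + 1 - n₀ = k by omega, Nat.mul_sub, mul_one, ← pow_add]
        have h5 : 2 ^ k ≤ 2 ^ (e - 1) := Nat.pow_le_pow_right (by norm_num) (by omega)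
        have h6 : 2 ^ (k + n₀) = 4 * 2 ^ (e - 1) := by
          rw [show k + n₀ = e - 1 + 2 by omega, pow_add]; ring
        omega)
    rw [hj, pow_add, h0, zero_mul]
  -- the derived group has no fixed points
  intro v hv
  by_contra hv0
  set Kr := (K.subgroupOf N).subgroupOf XK |>.map θr with hKr
  have hKrmem : ∀ k (hk : k ∈ K), θr ⟨_, hXKmem k hk⟩ ∈ Kr := fun k hk =>
    Subgroup.mem_map_of_mem θr (Subgroup.mem_subgroupOf.2 (Subgroup.mem_subgroupOf.2 hk))
  have hxr : ∀ g ∈ Kr, Xr * g * Xr⁻¹ ∈ Kr := by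
    rintro _ ⟨γ, hγ, rfl⟩
    rw [hXr, ← map_inv, ← map_mul, ← map_mul]
    refine Subgroup.mem_map_of_mem θr (Subgroup.mem_subgroupOf.2 (Subgroup.mem_subgroupOf.2 ?_))
    exact CoprimeAct.conj_mem_of_mem_normalizer S.hxK (Subgroup.mem_subgroupOf.1 (Subgroup.mem_subgroupOf.1 hγ))
  have hKrn : Kr.Normal := by
    rw [← Subgroup.normalizer_eq_top_iff, eq_top_iff]
    rintro g -
    obtain ⟨⟨γ, hγ⟩, rfl⟩ := θ.rangeRestrict_surjective g
    induction hγ using Subgroup.closure_induction with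
    | mem a ha =>
      rcases ha with rfl | ha
      · exact Carter.le_normalizer_of_conj_mem hxr
      · exact Subgroup.le_normalizer (Subgroup.mem_map_of_mem θr
          (Subgroup.mem_subgroupOf.2 (Subgroup.mem_subgroupOf.2 ha)))
    | one =>
      show θ.rangeRestrict (1 : XK) ∈ _
      rw [map_one]; exact one_mem _
    | mul a b ha' hb' iha ihb =>
      show θ.rangeRestrict ((⟨a, ha'⟩ : XK) * ⟨b, hb'⟩) ∈ _
      rw [map_mul]; exact mul_mem iha ihb
    | inv a ha' iha =>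
      show θ.rangeRestrict ((⟨a, ha'⟩ : XK)⁻¹) ∈ _
      rw [map_inv]; exact inv_mem iha
  have hKrq : IsPGroup q Kr :=
    ((S.hK.comap_of_injective N.subtype N.subtype_injective).comap_of_injective XK.subtype
      XK.subtype_injective).map θr
  have hidx : IsPGroup 2 (θ.range ⧸ Kr) := by
    have hgen : ∀ z : θ.range ⧸ Kr, z ∈ Subgroup.zpowers (QuotientGroup.mk' Kr Xr) := by
      intro z
      obtain ⟨g, rfl⟩ := QuotientGroup.mk'_surjective Kr z
      obtain ⟨⟨γ, hγ⟩, rfl⟩ := θ.rangeRestrict_surjective g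
      induction hγ using Subgroup.closure_induction with
      | mem a ha =>
        rcases ha with rfl | ha
        · exact Subgroup.mem_zpowers _
        · have hmem : θr ⟨a, Subgroup.subset_closure (Or.inr ha)⟩ ∈ Kr := Subgroup.mem_map_of_mem θr
            (Subgroup.mem_subgroupOf.2 (Subgroup.mem_subgroupOf.2 ha))
          show QuotientGroup.mk' Kr (θr ⟨a, Subgroup.subset_closure (Or.inr ha)⟩) ∈ _
          rw [show QuotientGroup.mk' Kr (θr ⟨a, Subgroup.subset_closure (Or.inr ha)⟩) = 1 from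
            (QuotientGroup.eq_one_iff _).2 hmem]
          exact one_mem _
      | one =>
        show QuotientGroup.mk' Kr (θ.rangeRestrict (1 : XK)) ∈ _
        rw [map_one, map_one]; exact one_mem _
      | mul a b ha' hb' iha ihb =>
        show QuotientGroup.mk' Kr (θ.rangeRestrict ((⟨a, ha'⟩ : XK) * ⟨b, hb'⟩)) ∈ _
        rw [map_mul, map_mul]; exact mul_mem iha ihb
      | inv a ha' iha =>
        show QuotientGroup.mk' Kr (θ.rangeRestrict ((⟨a, ha'⟩ : XK)⁻¹)) ∈ _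
        rw [map_inv, map_inv]; exact inv_mem iha
    intro z
    obtain ⟨i, hi⟩ := hgen z
    refine ⟨e + 1, ?_⟩
    rw [← hi, ← zpow_natCast, ← zpow_mul, mul_comm, zpow_mul, zpow_natCast, ← map_pow,
      ← hord, pow_orderOf_eq_one, map_one, one_zpow]
  have hq'q : q' = q := by
    by_contra hne
    obtain ⟨Q⟩ : Nonempty (Sylow q' θ.range) := inferInstance
    haveI := Fact.mk hq'
    refine hsyl Q ?_
    have hQ1 : (Q : Subgroup θ.range) = ⊥ := by
      refine (Subgroup.eq_bot_iff_forall _).2 fun g hg => ?_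
      obtain ⟨k, hk⟩ := IsPGroup.iff_orderOf.1 Q.isPGroup' ⟨g, hg⟩
      rw [Subgroup.orderOf_mk] at hk
      have hq'2 : q' ≠ 2 := by
        rintro rfl
        have h5 : 2 ∣ 2 ^ n₀ - 1 := h4 ▸ dvd_pow_self 2 (by omega)
        have h6 : 2 ∣ 2 ^ n₀ := dvd_pow_self 2 (by omega)
        have := Nat.one_le_two_pow (n := n₀)
        omega
      obtain ⟨l, hl⟩ := IsPGroup.iff_orderOf.1 hidx (g : θ.range ⧸ Kr)
      have hgK : g ∈ Kr := by
        rw [← QuotientGroup.eq_one_iff]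
        exact orderOf_eq_one_iff.1 (Nat.eq_one_of_dvd_coprimes
          (((Nat.coprime_primes hq' Nat.prime_two).2 hq'2).pow k l)
          (hk ▸ orderOf_map_dvd (QuotientGroup.mk' Kr) g) hl.dvd)
      obtain ⟨l', hl'⟩ := IsPGroup.iff_orderOf.1 hKrq ⟨g, hgK⟩
      rw [Subgroup.orderOf_mk] at hl'
      exact orderOf_eq_one_iff.1 (Nat.eq_one_of_dvd_coprimes
        (((Nat.coprime_primes hq' S.hq).2 hne).pow k l') hk.dvd hl'.dvd)
    rw [hQ1]
    infer_instance
  obtain ⟨Q, hQ⟩ := hKrq.exists_le_sylow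
  refine hsyl (hq'q ▸ Q) ?_
  subst hq'q
  -- the Sylow subgroup is the image of `K`
  have hQK : (Q : Subgroup θ.range) ≤ Kr := by
    intro g hg
    rw [← QuotientGroup.eq_one_iff]
    obtain ⟨k, hk⟩ := IsPGroup.iff_orderOf.1 Q.isPGroup' ⟨g, hg⟩
    obtain ⟨l, hl⟩ := IsPGroup.iff_orderOf.1 hidx (g : θ.range ⧸ Kr)
    rw [Subgroup.orderOf_mk] at hk
    exact orderOf_eq_one_iff.1 (Nat.eq_one_of_dvd_coprimes
      (((Nat.coprime_primes S.hq Nat.prime_two).2 S.hq2).pow k l)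
      (hk ▸ orderOf_map_dvd (QuotientGroup.mk' Kr) g) hl.dvd)
  refine .of_setLike_mul_comm fun a ha b hb => ?_
  have hZ := hfixed ⁅Kr, Kr⁆ (Subgroup.commutator_normal Kr Kr) v hv0 (by
    intro g hg
    have hle : ⁅Kr, Kr⁆ ≤ (((⁅K, K⁆).subgroupOf N).subgroupOf XK).map θr := by
      rw [hKr, ← Subgroup.map_commutator]
      refine Subgroup.map_mono (Subgroup.commutator_le.2 fun a ha b hb => ?_)
      refine Subgroup.mem_subgroupOf.2 (Subgroup.mem_subgroupOf.2 ?_)
      exact Subgroup.commutator_mem_commutator (Subgroup.mem_subgroupOf.1 (Subgroup.mem_subgroupOf.1 ha))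
        (Subgroup.mem_subgroupOf.1 (Subgroup.mem_subgroupOf.1 hb))
    obtain ⟨γ, hγ, rfl⟩ := hle hg
    exact hv (γ : N) (Subgroup.mem_subgroupOf.1 (Subgroup.mem_subgroupOf.1 hγ)))
    ⁅a, b⁆ (Subgroup.commutator_mem_commutator (hQK ha) (hQK hb))
  exact commutatorElement_eq_one_iff_mul_comm.1 (hρ' (hZ.trans (map_one ρ').symm))

end Sect

end Cfsg.Agent.GrossTwo
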