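import Cfsg.Agent.Lib.GrossTwo.Linear
import Cfsg.Agent.Lib.Solvable.HHExponent
import Cfsg.Agent.Lib.MaxTwoGen.Key
import Cfsg.Agent.Lib.Elusive.FormIso

/-!
The sector of a hyperplane of the derived group of an `r`-group of class two in a module over the
field of two elements, and the bound on negated spaces in the symplectic space of the sector.
-/

set_option autoImplicit false
set_option linter.unusedSectionVars false
set_option linter.style.haveILetI false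

open Module
open scoped commutatorElement

universe u

namespace Cfsg.Agent.GrossTwo

variable {H : Type u} [Group H] [Finite H] {V : Type u} [AddCommGroup V] [Module (ZMod 2) V]
  [Finite V] (ρ : H →* Module.End (ZMod 2) V)

/-- The sum of the operators of a subgroup. -/
noncomputable def avg (N : Subgroup H) : Module.End (ZMod 2) V :=
  letI := Fintype.ofFinite N
  ∑ n : N, ρ (n : H)

theorem mul_avg {N : Subgroup H} {n : H} (hn : n ∈ N) : ρ n * avg ρ N = avg ρ N := by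
  letI := Fintype.ofFinite N
  simp only [avg, Finset.mul_sum, ← map_mul]
  exact Fintype.sum_equiv (Equiv.mulLeft (⟨n, hn⟩ : N)) _ _ fun a => rfl

theorem avg_of_fix {N : Subgroup H} (hN : Odd (Nat.card N)) {w : V} (h : ∀ n ∈ N, ρ n w = w) :
    avg ρ N w = w := by
  letI := Fintype.ofFinite N
  simp only [avg, LinearMap.sum_apply]
  rw [Finset.sum_congr rfl fun (n : N) _ => h n n.2, Finset.sum_const, Finset.card_univ,
    ← Nat.cast_smul_eq_nsmul (ZMod 2), ← Nat.card_eq_fintype_card]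
  obtain ⟨k, hk⟩ := hN
  rw [hk, Nat.cast_add, Nat.cast_mul, show ((2 : ℕ) : ZMod 2) = 0 from rfl, zero_mul, zero_add,
    Nat.cast_one, one_smul]

theorem avg_conj {N : Subgroup H} {g : H} (hg : g ∈ Subgroup.normalizer (N : Set H)) :
    ρ g * avg ρ N = avg ρ N * ρ g := by
  classical
  letI := Fintype.ofFinite N
  simp only [avg, Finset.mul_sum, Finset.sum_mul, ← map_mul]
  refine Fintype.sum_equiv (N.normalizerMonoidHom ⟨g, hg⟩).toEquiv _ _ fun a => ?_
  show ρ (g * a) = ρ (g * a * g⁻¹ * g)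
  rw [inv_mul_cancel_right]

/-- The data of a sector. -/
structure Sector (r : ℕ) (C Cd M : Subgroup H) (μ : H → ZMod r) (z : H) : Prop where
  hr : r.Prime
  hr2 : r ≠ 2
  hC : IsPGroup r C
  hCd : Cd = ⁅C, C⁆
  hcen : ∀ c ∈ Cd, ∀ d ∈ C, c * d = d * c
  hmem : ∀ c, c ∈ M ↔ c ∈ Cd ∧ μ c = 0
  hμ : ∀ c ∈ Cd, ∀ d ∈ Cd, μ (c * d) = μ c + μ d
  hz : z ∈ Cd
  hz1 : μ z = 1
  hwit : ∃ w : V, w ≠ 0 ∧ (∀ c ∈ M, ρ c w = w) ∧ avg ρ Cd w = 0

/-- Every non-trivial element of the derived group is outside the hyperplane of some sector. -/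
theorem exists_sector (hρ : Function.Injective ρ) {r : ℕ} [hr : Fact r.Prime] (hr2 : r ≠ 2)
    {C : Subgroup H} (hC : IsPGroup r C) (hcen : ∀ c ∈ ⁅C, C⁆, ∀ d ∈ C, c * d = d * c)
    (hexp : ∀ c ∈ ⁅C, C⁆, c ^ r = 1) {z : H} (hz : z ∈ ⁅C, C⁆) (hz1 : z ≠ 1) :
    ∃ (M : Subgroup H) (μ : H → ZMod r), Sector ρ r C ⁅C, C⁆ M μ z := by
  classical
  set Cd := ⁅C, C⁆ with hCd
  have hCdC : Cd ≤ C := Subgroup.commutator_le.2 fun a ha b hb => by
    rw [commutatorElement_def]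
    exact mul_mem (mul_mem (mul_mem ha hb) (inv_mem ha)) (inv_mem hb)
  have hodd : Odd r := hr.out.odd_of_ne_two hr2
  have hoddN : ∀ N : Subgroup H, N ≤ C → Odd (Nat.card N) := fun N hN => by
    obtain ⟨k, hk⟩ := (hC.to_le hN).exists_card_eq
    rw [hk]
    exact hodd.pow
  have hzC : Subgroup.zpowers z ≤ C := Subgroup.zpowers_le.2 (hCdC hz)
  set E := avg ρ (Subgroup.zpowers z) with hE
  set U₀ := LinearMap.ker E with hU₀
  have hcomm : ∀ c ∈ Cd, ρ c * E = E * ρ c := fun c hc => by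
    refine avg_conj ρ (Subgroup.mem_normalizer_iff.2 fun x => ?_)
    constructor
    · intro hx
      rw [hcen c hc x (hzC hx), mul_inv_cancel_right]
      exact hx
    · intro hx
      have h1 : c⁻¹ * (c * x * c⁻¹) = c * x * c⁻¹ * c⁻¹ := hcen c⁻¹ (inv_mem hc) _ (hzC hx)
      have h2 : x = c * x * c⁻¹ := by
        calc x = c⁻¹ * (c * x * c⁻¹) * c := by group
          _ = c * x * c⁻¹ := by rw [h1]; group
      rwa [← h2] at hx
  have hU₀0 : U₀ ≠ ⊥ := by
    intro h0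
    refine hz1 (hρ ?_)
    rw [map_one]
    refine LinearMap.ext fun w => ?_
    have hEE : E (E w) = E w := avg_of_fix ρ (hoddN _ hzC) fun n hn => by
      rw [← Module.End.mul_apply, mul_avg ρ hn]
    have h1 : w - E w ∈ U₀ := by rw [hU₀, LinearMap.mem_ker, map_sub, hEE, sub_self]
    rw [h0, Submodule.mem_bot, sub_eq_zero] at h1
    rw [Module.End.one_apply, h1, ← Module.End.mul_apply, mul_avg ρ (Subgroup.mem_zpowers z)]
  haveI : FiniteDimensional (ZMod 2) V := Module.Finite.of_finite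
  obtain ⟨W, ⟨hWU, hW0, hWinv⟩, hWmin⟩ := WellFounded.has_min
    (wellFounded_lt (α := Submodule (ZMod 2) V))
    {W | W ≤ U₀ ∧ W ≠ ⊥ ∧ ∀ c ∈ Cd, ∀ w ∈ W, ρ c w ∈ W}
    ⟨U₀, le_rfl, hU₀0, fun c hc w hw => by
      rw [hU₀, LinearMap.mem_ker] at hw ⊢
      rw [← Module.End.mul_apply, ← hcomm c hc, Module.End.mul_apply, hw, map_zero]⟩
  let M₀ : Subgroup H :=
    { carrier := {c | c ∈ Cd ∧ ∀ w ∈ W, ρ c w = w}
      one_mem' := ⟨one_mem _, fun w _ => by rw [map_one]; rfl⟩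
      mul_mem' := fun {a b} ha hb => ⟨mul_mem ha.1 hb.1, fun w hw => by
        rw [map_mul, Module.End.mul_apply, hb.2 w hw, ha.2 w hw]⟩
      inv_mem' := fun {a} ha => ⟨inv_mem ha.1, fun w hw => by
        conv_lhs => rw [← ha.2 w hw]
        rw [← Module.End.mul_apply, ← map_mul, inv_mul_cancel, map_one]; rfl⟩ }
  have hfpf : ∀ c ∈ Cd, c ∉ M₀ → ∀ w ∈ W, ρ c w = w → w = 0 := by
    intro c hc hcM w hw hwc
    set X := W ⊓ LinearMap.ker (ρ c - 1) with hX
    have hmemX : ∀ w, w ∈ X ↔ w ∈ W ∧ ρ c w = w := fun w => by simp [hX, sub_eq_zero]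
    by_contra hw0
    have hlt : X < W := by
      refine lt_of_le_of_ne inf_le_left fun h => hcM ⟨hc, fun u hu => ?_⟩
      exact ((hmemX u).1 (h ▸ hu)).2
    refine hWmin X ⟨hlt.le.trans hWU,
      (Submodule.ne_bot_iff _).2 ⟨w, (hmemX w).2 ⟨hw, hwc⟩, hw0⟩, fun d hd u hu => ?_⟩ hlt
    obtain ⟨hu1, hu2⟩ := (hmemX u).1 hu
    refine (hmemX _).2 ⟨hWinv d hd u hu1, ?_⟩
    rw [← Module.End.mul_apply, ← map_mul, hcen c hc d (hCdC hd), map_mul, Module.End.mul_apply, hu2]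
  have hgeom : ∀ c ∈ Cd, c ∉ M₀ → ∀ w ∈ W, ∑ k ∈ Finset.range r, ρ (c ^ k) w = 0 := by
    intro c hc hcM w hw
    refine hfpf c hc hcM _ (Submodule.sum_mem _ fun k _ => hWinv _ (pow_mem hc k) w hw) ?_
    rw [map_sum]
    obtain ⟨n, hn⟩ : ∃ n, r = n + 1 := Nat.exists_eq_succ_of_ne_zero hr.out.ne_zero
    simp only [← Module.End.mul_apply, ← map_mul, ← pow_succ']
    rw [hn, Finset.sum_range_succ, Finset.sum_range_succ' (fun k => ρ (c ^ k) w), pow_zero, ← hn,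
      hexp c hc]
  have hzM : z ∉ M₀ := by
    intro h
    obtain ⟨w, hw, hw0⟩ := Submodule.exists_mem_ne_zero_of_ne_bot hW0
    refine hw0 ((avg_of_fix ρ (hoddN _ hzC) fun n hn => ?_).symm.trans (LinearMap.mem_ker.1 (hWU hw)))
    exact ((Subgroup.zpowers_le.2 h) hn).2 w hw
  have hzk : ∀ k : ℕ, ¬ r ∣ k → z ^ k ∉ M₀ := fun k hk h => by
    obtain ⟨i, hi⟩ := exists_pow_eq_self_of_coprime (x := z) (n := k)
      ((hr.out.coprime_iff_not_dvd.2 hk).symm.coprime_dvd_right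
        (orderOf_dvd_of_pow_eq_one (hexp z hz)))
    exact hzM (hi ▸ pow_mem h i)
  have hidx : ∀ c ∈ Cd, ∃ i : ℕ, z ^ i * c ∈ M₀ := by
    intro c hc
    by_contra hcon
    push Not at hcon
    obtain ⟨w, hw, hw0⟩ := Submodule.exists_mem_ne_zero_of_ne_bot hW0
    refine hw0 ?_
    have hzc : Commute z c := hcen z hz c (hCdC hc)
    have h1 : ∑ i ∈ Finset.range r, ∑ k ∈ Finset.range r, ρ ((z ^ i * c) ^ k) w = 0 :=
      Finset.sum_eq_zero fun i _ => hgeom _ (mul_mem (pow_mem hz i) hc) (hcon i) w hw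
    rw [Finset.sum_comm, Finset.sum_eq_single 0] at h1
    · rw [Finset.sum_congr rfl (fun i _ => by rw [pow_zero, map_one, Module.End.one_apply]),
        Finset.sum_const, Finset.card_range, ← Nat.cast_smul_eq_nsmul (ZMod 2)] at h1
      obtain ⟨k, hk⟩ := hodd
      rwa [hk, Nat.cast_add, Nat.cast_mul, show ((2 : ℕ) : ZMod 2) = 0 from rfl, zero_mul, zero_add,
        Nat.cast_one, one_smul] at h1
    · intro k hk hk0
      have hkr : ¬ r ∣ k := Nat.not_dvd_of_pos_of_lt (Nat.pos_of_ne_zero hk0) (Finset.mem_range.1 hk)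
      refine Eq.trans (Finset.sum_congr rfl fun i _ => ?_)
        (hgeom (z ^ k) (pow_mem hz k) (hzk k hkr) (ρ (c ^ k) w) (hWinv _ (pow_mem hc k) w hw))
      rw [(hzc.pow_left i).mul_pow, map_mul, Module.End.mul_apply, ← pow_mul, ← pow_mul, mul_comm]
    · intro h
      exact absurd (Finset.mem_range.2 hr.out.pos) h
  choose idx hidx using hidx
  let μ : H → ZMod r := fun c => if hc : c ∈ Cd then -(idx c hc : ZMod r) else 0
  have hμu : ∀ (c : H) (hc : c ∈ Cd) (i : ℕ), z ^ i * c ∈ M₀ → μ c = -(i : ZMod r) := by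
    intro c hc i hi
    simp only [μ, dif_pos hc, neg_inj]
    rw [ZMod.natCast_eq_natCast_iff]
    have key : ∀ a b : ℕ, a ≤ b → z ^ a * c ∈ M₀ → z ^ b * c ∈ M₀ → a ≡ b [MOD r] := by
      intro a b hab ha hb
      refine (Nat.modEq_iff_dvd' hab).2 ?_
      by_contra hnd
      refine hzk _ hnd ?_
      have := mul_mem hb (inv_mem ha)
      rwa [mul_inv_rev, ← mul_assoc, mul_inv_cancel_right, ← pow_sub z hab] at this
    rcases le_total (idx c hc) i with h | h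
    · exact key _ _ h (hidx c hc) hi
    · exact (key _ _ h hi (hidx c hc)).symm
  let M : Subgroup H :=
    { carrier := {c | c ∈ Cd ∧ ∀ w ∈ W, ρ c w = w}
      one_mem' := M₀.one_mem'
      mul_mem' := M₀.mul_mem'
      inv_mem' := M₀.inv_mem' }
  refine ⟨M₀, μ, hr.out, hr2, hC, rfl, hcen, fun c => ⟨fun h => ⟨h.1, ?_⟩, fun h => ?_⟩, ?_, hz, ?_, ?_⟩
  · rw [hμu c h.1 0 (by rwa [pow_zero, one_mul]), Nat.cast_zero, neg_zero]
  · obtain ⟨hc, h0⟩ := h
    simp only [μ, dif_pos hc, neg_eq_zero, ZMod.natCast_eq_zero_iff] at h0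
    obtain ⟨k, hk⟩ := h0
    have := hidx c hc
    rwa [hk, pow_mul, hexp z hz, one_pow, one_mul] at this
  · intro c hc d hd
    have h : z ^ (idx c hc + idx d hd) * (c * d) ∈ M₀ := by
      have h1 := mul_mem (hidx c hc) (hidx d hd)
      have hzc : Commute (z ^ idx d hd) c := hcen _ (pow_mem hz _) c (hCdC hc)
      have e : z ^ (idx c hc + idx d hd) * (c * d) = z ^ idx c hc * c * (z ^ idx d hd * d) := by
        rw [pow_add, mul_assoc, ← mul_assoc (z ^ idx d hd), hzc.eq]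
        simp [mul_assoc]
      rwa [e]
    rw [hμu _ (mul_mem hc hd) _ h]
    simp only [μ, dif_pos hc, dif_pos hd, Nat.cast_add, neg_add]
  · have h : z ^ (r - 1) * z ∈ M₀ := by
      rw [← pow_succ, Nat.sub_add_cancel hr.out.pos, hexp z hz]
      exact one_mem _
    rw [hμu z hz _ h, Nat.cast_sub hr.out.pos, ZMod.natCast_self, Nat.cast_one, zero_sub, neg_neg]
  · obtain ⟨w, hw, hw0⟩ := Submodule.exists_mem_ne_zero_of_ne_bot hW0
    refine ⟨w, hw0, fun c hc => hc.2 w hw, ?_⟩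
    letI := Fintype.ofFinite Cd
    refine hfpf z hz hzM _ ?_ ?_
    · simp only [avg, LinearMap.sum_apply]
      exact Submodule.sum_mem _ fun n _ => hWinv _ n.2 w hw
    · rw [← Module.End.mul_apply, mul_avg ρ hz]

namespace Sector

variable {ρ} {r : ℕ} {C Cd M : Subgroup H} {μ : H → ZMod r} {z : H}

/-- The projection of a sector. -/
noncomputable def proj (ρ : H →* Module.End (ZMod 2) V) (Cd M : Subgroup H) : Module.End (ZMod 2) V :=
  avg ρ M - avg ρ Cd

theorem cd_le (S : Sector ρ r C Cd M μ z) : Cd ≤ C := by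
  rw [S.hCd]
  exact Subgroup.commutator_le.2 fun a ha b hb => by
    rw [commutatorElement_def]
    exact mul_mem (mul_mem (mul_mem ha hb) (inv_mem ha)) (inv_mem hb)

theorem m_le (S : Sector ρ r C Cd M μ z) : M ≤ Cd := fun c hc => ((S.hmem c).1 hc).1

theorem odd_card (S : Sector ρ r C Cd M μ z) {N : Subgroup H} (hN : N ≤ C) : Odd (Nat.card N) := by
  haveI := Fact.mk S.hr
  obtain ⟨k, hk⟩ := (S.hC.to_le hN).exists_card_eq
  rw [hk]
  exact (S.hr.odd_of_ne_two S.hr2).pow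

theorem mu_pow (S : Sector ρ r C Cd M μ z) {c : H} (hc : c ∈ Cd) (i : ℕ) :
    μ (c ^ i) = i * μ c := by
  induction i with
  | zero =>
    have h := S.hμ 1 (one_mem _) 1 (one_mem _)
    rw [mul_one] at h
    simp [left_eq_add.1 h]
  | succ i ih => rw [pow_succ, S.hμ _ (pow_mem hc i) _ hc, ih]; push_cast; ring

/-- A vector fixed by the hyperplane and one further element is fixed by the derived group. -/
theorem fix_all (S : Sector ρ r C Cd M μ z) {w : V} (hM : ∀ c ∈ M, ρ c w = w) {c : H} (hc : c ∈ Cd)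
    (hμc : μ c ≠ 0) (hcw : ρ c w = w) : ∀ d ∈ Cd, ρ d w = w := by
  haveI := Fact.mk S.hr
  intro d hd
  set i := (μ d * (μ c)⁻¹).val with hi
  have hm : (c ^ i)⁻¹ * d ∈ M := by
    refine (S.hmem _).2 ⟨mul_mem (inv_mem (pow_mem hc i)) hd, ?_⟩
    have h := S.hμ (c ^ i) (pow_mem hc i) ((c ^ i)⁻¹ * d) (mul_mem (inv_mem (pow_mem hc i)) hd)
    rw [mul_inv_cancel_left, S.mu_pow hc, hi, ZMod.natCast_zmod_val, mul_assoc,
      inv_mul_cancel₀ hμc, mul_one] at h
    exact left_eq_add.1 h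
  have hpow : ∀ k : ℕ, ρ (c ^ k) w = w := fun k => by
    induction k with
    | zero => rw [pow_zero, map_one]; rfl
    | succ k ih => rw [pow_succ, map_mul, Module.End.mul_apply, hcw, ih]
  calc ρ d w = ρ (c ^ i * ((c ^ i)⁻¹ * d)) w := by rw [mul_inv_cancel_left]
    _ = w := by rw [map_mul, Module.End.mul_apply, hM _ hm, hpow]

theorem mul_proj (S : Sector ρ r C Cd M μ z) {c : H} (hc : c ∈ M) :
    ρ c * proj ρ Cd M = proj ρ Cd M := by
  rw [proj, mul_sub, mul_avg ρ hc, mul_avg ρ (S.m_le hc)]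

theorem proj_eq_of_fix (S : Sector ρ r C Cd M μ z) {w : V} (hM : ∀ c ∈ M, ρ c w = w) :
    proj ρ Cd M w = w - avg ρ Cd w := by
  rw [proj, LinearMap.sub_apply, avg_of_fix ρ (S.odd_card (S.m_le.trans S.cd_le)) hM]

theorem avg_proj (S : Sector ρ r C Cd M μ z) : avg ρ Cd * proj ρ Cd M = 0 := by
  letI := Fintype.ofFinite M
  letI := Fintype.ofFinite Cd
  refine LinearMap.ext fun w => ?_
  have hEC : avg ρ Cd * avg ρ Cd = avg ρ Cd := LinearMap.ext fun u => avg_of_fix ρ (S.odd_card S.cd_le)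
    fun n hn => by rw [← Module.End.mul_apply, mul_avg ρ hn]
  have hcd : ∀ n : M, avg ρ Cd * ρ (n : H) = avg ρ Cd := fun n => by
    rw [← avg_conj ρ (Subgroup.le_normalizer (S.m_le n.2)), mul_avg ρ (S.m_le n.2)]
  have hEM : avg ρ Cd * avg ρ M = avg ρ Cd := by
    rw [show avg ρ M = ∑ n : M, ρ (n : H) from rfl]
    rw [Finset.mul_sum, Finset.sum_congr rfl fun n _ => hcd n, Finset.sum_const, Finset.card_univ]
    obtain ⟨k, hk⟩ := S.odd_card (S.m_le.trans S.cd_le)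
    rw [Nat.card_eq_fintype_card] at hk
    rw [← Nat.cast_smul_eq_nsmul (ZMod 2), hk, Nat.cast_add, Nat.cast_mul,
      show ((2 : ℕ) : ZMod 2) = 0 from rfl, zero_mul, zero_add, Nat.cast_one, one_smul]
  rw [proj, mul_sub, hEC, hEM, sub_self]

theorem proj_sq (S : Sector ρ r C Cd M μ z) : proj ρ Cd M * proj ρ Cd M = proj ρ Cd M := by
  refine LinearMap.ext fun w => ?_
  rw [Module.End.mul_apply, S.proj_eq_of_fix fun c hc => by
      rw [← Module.End.mul_apply, S.mul_proj hc],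
    ← Module.End.mul_apply, S.avg_proj, LinearMap.zero_apply, sub_zero]

theorem proj_comm (_S : Sector ρ r C Cd M μ z) {g : H} (hCd : g ∈ Subgroup.normalizer (Cd : Set H))
    (hM : g ∈ Subgroup.normalizer (M : Set H)) : ρ g * proj ρ Cd M = proj ρ Cd M * ρ g := by
  rw [proj, mul_sub, sub_mul, avg_conj ρ hCd, avg_conj ρ hM]

theorem normalizer_le (S : Sector ρ r C Cd M μ z) :
    Subgroup.normalizer (C : Set H) ≤ Subgroup.normalizer (Cd : Set H) := by
  rw [S.hCd]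
  exact MaxTwoGen.le_normalizer_commutator le_rfl le_rfl

theorem c_le_stab (S : Sector ρ r C Cd M μ z) :
    C ≤ Subgroup.normalizer (C : Set H) ⊓ Subgroup.normalizer (M : Set H) := by
  refine le_inf Subgroup.le_normalizer (le_trans (fun d hd => ?_) (Subgroup.centralizer_le_normalizer _))
  exact Subgroup.mem_centralizer_iff.2 fun c hc => S.hcen c (S.m_le hc) d hd

theorem mu_eq_zero (S : Sector ρ r C Cd M μ z) {c : H} (hc : c ∈ Cd)
    (h : ρ c * proj ρ Cd M = proj ρ Cd M) : μ c = 0 := by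
  by_contra hne
  obtain ⟨w, hw0, hwM, hwC⟩ := S.hwit
  have hew : proj ρ Cd M w = w := by rw [S.proj_eq_of_fix hwM, hwC, sub_zero]
  refine hw0 ?_
  rw [← hwC, avg_of_fix ρ (S.odd_card S.cd_le) (S.fix_all hwM hc hne ?_)]
  nth_rewrite 1 [← hew]
  rw [← Module.End.mul_apply, h, hew]

/-- An element moving the hyperplane maps the sector into another one. -/
theorem proj_mul_proj (S : Sector ρ r C Cd M μ z) {g : H}
    (hg : g ∈ Subgroup.normalizer (C : Set H)) (hgM : g ∉ Subgroup.normalizer (M : Set H)) :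
    proj ρ Cd M * ρ g * proj ρ Cd M = 0 := by
  obtain ⟨c, hc, hcM⟩ : ∃ c ∈ M, g * c * g⁻¹ ∉ M := by
    by_contra hcon
    push Not at hcon
    refine hgM (Carter.le_normalizer_of_conj_mem hcon)
  have hc' : g * c * g⁻¹ ∈ Cd := CoprimeAct.conj_mem_of_mem_normalizer (S.normalizer_le hg) (S.m_le hc)
  refine LinearMap.ext fun w => ?_
  simp only [Module.End.mul_apply, LinearMap.zero_apply]
  set u := ρ g (proj ρ Cd M w) with hu
  have h1 : ∀ n ∈ M, ρ n (proj ρ Cd M u) = proj ρ Cd M u := fun n hn => by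
    rw [← Module.End.mul_apply, S.mul_proj hn]
  have hgc : g * c * g⁻¹ ∈ Subgroup.normalizer (M : Set H) :=
    (S.c_le_stab (S.cd_le hc')).2
  have h2 : ρ (g * c * g⁻¹) (proj ρ Cd M u) = proj ρ Cd M u := by
    rw [← Module.End.mul_apply, S.proj_comm (Subgroup.le_normalizer hc') hgc, Module.End.mul_apply]
    congr 1
    rw [hu, ← Module.End.mul_apply, ← Module.End.mul_apply, ← map_mul, inv_mul_cancel_right, map_mul,
      mul_assoc, S.mul_proj hc, Module.End.mul_apply]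
  have h3 := avg_of_fix ρ (S.odd_card S.cd_le) (S.fix_all h1 hc'
    (fun h0 => hcM ((S.hmem _).2 ⟨hc', h0⟩)) h2)
  rw [← h3, ← Module.End.mul_apply, S.avg_proj, LinearMap.zero_apply]

theorem mu_mul (S : Sector ρ r C Cd M μ z) {a b c : H} (ha : a ∈ C) (hb : b ∈ C) (hc : c ∈ C) :
    μ ⁅a * b, c⁆ = μ ⁅a, c⁆ + μ ⁅b, c⁆ := by
  have hm : ∀ {x y : H}, x ∈ C → y ∈ C → ⁅x, y⁆ ∈ Cd := fun hx hy => by
    rw [S.hCd]; exact Subgroup.commutator_mem_commutator hx hy
  have h : ⁅a * b, c⁆ = a * ⁅b, c⁆ * a⁻¹ * ⁅a, c⁆ := by simp [commutatorElement_def, mul_assoc]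
  rw [h, ← S.hcen _ (hm hb hc) a ha, mul_inv_cancel_right, S.hμ _ (hm hb hc) _ (hm ha hc), add_comm]

theorem mu_symm (S : Sector ρ r C Cd M μ z) {a c : H} (ha : a ∈ C) (hc : c ∈ C) :
    μ ⁅c, a⁆ = -μ ⁅a, c⁆ := by
  have hm : ∀ {x y : H}, x ∈ C → y ∈ C → ⁅x, y⁆ ∈ Cd := fun hx hy => by
    rw [S.hCd]; exact Subgroup.commutator_mem_commutator hx hy
  have h := S.hμ ⁅a, c⁆ (hm ha hc) ⁅c, a⁆ (hm hc ha)
  rw [← commutatorElement_inv a c, mul_inv_cancel] at h
  have h0 := S.hμ 1 (one_mem _) 1 (one_mem _)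
  rw [mul_one] at h0
  rw [left_eq_add.1 h0] at h
  rw [← commutatorElement_inv a c]
  exact (neg_eq_of_add_eq_zero_right h.symm).symm

/-- The symplectic space of a sector. -/
theorem exists_space [hr : Fact r.Prime] (S : Sector ρ r C Cd M μ z)
    (hpow : ∀ c ∈ C, ∀ d ∈ C, c ^ r * d = d * c ^ r) :
    ∃ (W : Type u) (_ : AddCommGroup W) (_ : Module (ZMod r) W) (_ : Finite W)
      (β : W →ₗ[ZMod r] W →ₗ[ZMod r] ZMod r)
      (φ : ↥(Subgroup.normalizer (C : Set H) ⊓ Subgroup.normalizer (M : Set H)) →*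
        Module.End (ZMod r) W) (π : H → W),
      (∀ w, ∃ u ∈ C, π u = w) ∧ (∀ u ∈ C, ∀ v ∈ C, π (u * v) = π u + π v) ∧
      (∀ u ∈ C, π u = 0 ↔ ∀ d ∈ C, μ ⁅u, d⁆ = 0) ∧
      (∀ γ : ↥(Subgroup.normalizer (C : Set H) ⊓ Subgroup.normalizer (M : Set H)),
        ∀ u ∈ C, π ((γ : H) * u * (γ : H)⁻¹) = φ γ (π u)) ∧
      (∀ u ∈ C, ∀ v ∈ C, β (π u) (π v) = μ ⁅u, v⁆) ∧ (∀ w, β w w = 0) ∧ NondegOn β ⊤ ∧
      (∀ γ, ∃ c : ZMod r, c ≠ 0 ∧ ∀ u w, β (φ γ u) (φ γ w) = c * β u w) ∧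
      (∀ γ : ↥(Subgroup.normalizer (C : Set H) ⊓ Subgroup.normalizer (M : Set H)),
        (∀ c ∈ Cd, (γ : H) * c * (γ : H)⁻¹ = c) → ∀ u w, β (φ γ u) (φ γ w) = β u w) := by
  classical
  set Γ := Subgroup.normalizer (C : Set H) ⊓ Subgroup.normalizer (M : Set H) with hΓ
  have hm : ∀ {x y : H}, x ∈ C → y ∈ C → ⁅x, y⁆ ∈ Cd := fun hx hy => by
    rw [S.hCd]; exact Subgroup.commutator_mem_commutator hx hy
  have hμ1 : μ 1 = 0 := by
    have h := S.hμ 1 (one_mem _) 1 (one_mem _)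
    rw [mul_one] at h
    exact left_eq_add.1 h
  let Rd : Subgroup H :=
    { carrier := {u | u ∈ C ∧ ∀ d ∈ C, μ ⁅u, d⁆ = 0}
      one_mem' := ⟨one_mem _, fun d _ => by rw [commutatorElement_one_left, hμ1]⟩
      mul_mem' := fun {a b} ha hb => ⟨mul_mem ha.1 hb.1, fun d hd => by
        rw [S.mu_mul ha.1 hb.1 hd, ha.2 d hd, hb.2 d hd, add_zero]⟩
      inv_mem' := fun {a} ha => ⟨inv_mem ha.1, fun d hd => by
        have h := S.mu_mul (inv_mem ha.1) ha.1 hd
        rw [inv_mul_cancel, commutatorElement_one_left, hμ1, ha.2 d hd, add_zero] at h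
        exact h.symm⟩ }
  have hcd : ∀ c ∈ Cd, ∀ d ∈ C, ⁅c, d⁆ = 1 := fun c hc d hd =>
    commutatorElement_eq_one_iff_mul_comm.2 (S.hcen c hc d hd)
  have hΓR : Γ ≤ Subgroup.normalizer (Rd : Set H) := by
    intro g hg
    refine Carter.le_normalizer_of_conj_mem fun u hu => ⟨CoprimeAct.conj_mem_of_mem_normalizer hg.1 hu.1,
      fun d hd => ?_⟩
    have hd' : g⁻¹ * d * g ∈ C := by
      simpa using CoprimeAct.conj_mem_of_mem_normalizer (inv_mem hg.1) hd
    have h1 : ⁅g * u * g⁻¹, d⁆ = g * ⁅u, g⁻¹ * d * g⁆ * g⁻¹ := by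
      simp [commutatorElement_def, mul_assoc]
    rw [h1]
    exact ((S.hmem _).1 (CoprimeAct.conj_mem_of_mem_normalizer hg.2
      ((S.hmem _).2 ⟨hm hu.1 hd', hu.2 _ hd'⟩))).2
  obtain ⟨W, i1, i2, i3, φ, π, hπs, hπm, hπ0, hπc⟩ := MaxTwoGen.exists_module (r := r) Γ C Rd
    inf_le_left hΓR
    (fun u hu v hv => ⟨S.cd_le (hm hu hv), fun d hd => by rw [hcd _ (hm hu hv) d hd, hμ1]⟩)
    (fun u hu => ⟨pow_mem hu r, fun d hd => by
      rw [commutatorElement_eq_one_iff_mul_comm.2 (hpow u hu d hd), hμ1]⟩)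
  choose σ hσC hσ using hπs
  have hwd : ∀ u ∈ C, ∀ v ∈ C, π u = π v → ∀ d ∈ C, μ ⁅u, d⁆ = μ ⁅v, d⁆ := by
    intro u hu v hv h d hd
    have h0 : π (u * v⁻¹) = 0 := by
      have h1 := hπm (u * v⁻¹) (mul_mem hu (inv_mem hv)) v hv
      rw [inv_mul_cancel_right, h] at h1
      exact right_eq_add.1 h1
    have h2 := ((hπ0 _ (mul_mem hu (inv_mem hv))).1 h0).2 d hd
    conv_lhs => rw [show u = u * v⁻¹ * v by group]
    rw [S.mu_mul (mul_mem hu (inv_mem hv)) hv hd, h2, zero_add]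
  have hadd : ∀ w w' : W, ∀ d ∈ C, μ ⁅σ (w + w'), d⁆ = μ ⁅σ w, d⁆ + μ ⁅σ w', d⁆ := by
    intro w w' d hd
    rw [← S.mu_mul (hσC w) (hσC w') hd]
    exact hwd _ (hσC _) _ (mul_mem (hσC w) (hσC w')) (by rw [hπm _ (hσC w) _ (hσC w'), hσ, hσ, hσ]) d hd
  let β₀ : W →+ W →+ ZMod r := AddMonoidHom.mk'
    (fun w => AddMonoidHom.mk' (fun w' => μ ⁅σ w, σ w'⁆) fun x y => by
      rw [S.mu_symm (hσC (x + y)) (hσC w), hadd x y _ (hσC w), neg_add,
        ← S.mu_symm (hσC x) (hσC w), ← S.mu_symm (hσC y) (hσC w)])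
    fun x y => AddMonoidHom.ext fun w' => hadd x y _ (hσC w')
  let β : W →ₗ[ZMod r] W →ₗ[ZMod r] ZMod r :=
    (AddMonoidHom.mk' (fun w => (β₀ w).toZModLinearMap r)
      fun x y => LinearMap.ext fun z => by simp).toZModLinearMap r
  have hβ : ∀ u ∈ C, ∀ v ∈ C, β (π u) (π v) = μ ⁅u, v⁆ := by
    intro u hu v hv
    show μ ⁅σ (π u), σ (π v)⁆ = _
    rw [hwd _ (hσC _) u hu (hσ _) _ (hσC _), S.mu_symm (hσC _) hu,
      hwd _ (hσC _) v hv (hσ _) u hu, ← S.mu_symm hv hu]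
  have hsim : ∀ γ : Γ, ∀ u ∈ C, ∀ v ∈ C,
      μ ((γ : H) * ⁅u, v⁆ * (γ : H)⁻¹) = μ ((γ : H) * z * (γ : H)⁻¹) * μ ⁅u, v⁆ := by
    intro γ u hu v hv
    have hn := S.normalizer_le γ.2.1
    set c := ⁅u, v⁆ with hc
    set i := (μ c).val with hi
    have hzi : z ^ i ∈ Cd := pow_mem S.hz i
    have hm' : (z ^ i)⁻¹ * c ∈ M := by
      refine (S.hmem _).2 ⟨mul_mem (inv_mem hzi) (hm hu hv), ?_⟩
      have h := S.hμ (z ^ i) hzi ((z ^ i)⁻¹ * c) (mul_mem (inv_mem hzi) (hm hu hv))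
      rw [mul_inv_cancel_left, S.mu_pow S.hz, S.hz1, mul_one, hi, ZMod.natCast_zmod_val] at h
      exact left_eq_add.1 h
    have e : (γ : H) * c * (γ : H)⁻¹ =
        ((γ : H) * z * (γ : H)⁻¹) ^ i * ((γ : H) * ((z ^ i)⁻¹ * c) * (γ : H)⁻¹) := by
      rw [conj_pow]; group
    rw [e, S.hμ _ (pow_mem (CoprimeAct.conj_mem_of_mem_normalizer hn S.hz) i) _
      (S.m_le (CoprimeAct.conj_mem_of_mem_normalizer γ.2.2 hm')),
      ((S.hmem _).1 (CoprimeAct.conj_mem_of_mem_normalizer γ.2.2 hm')).2, add_zero,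
      S.mu_pow (CoprimeAct.conj_mem_of_mem_normalizer hn S.hz), hi, ZMod.natCast_zmod_val, mul_comm]
  have hform : ∀ γ : Γ, ∀ u ∈ C, ∀ v ∈ C, β (φ γ (π u)) (φ γ (π v)) =
      μ ((γ : H) * ⁅u, v⁆ * (γ : H)⁻¹) := by
    intro γ u hu v hv
    rw [← hπc γ u hu, ← hπc γ v hv, hβ _ (CoprimeAct.conj_mem_of_mem_normalizer γ.2.1 hu) _
      (CoprimeAct.conj_mem_of_mem_normalizer γ.2.1 hv)]
    congr 1
    simp [commutatorElement_def, mul_assoc]
  refine ⟨W, i1, i2, i3, β, φ, π, fun w => ⟨σ w, hσC w, hσ w⟩, hπm,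
    fun u hu => ⟨fun h => ((hπ0 u hu).1 h).2, fun h => (hπ0 u hu).2 ⟨hu, h⟩⟩, hπc, hβ, ?_, ?_, ?_, ?_⟩
  · intro w
    show μ ⁅σ w, σ w⁆ = 0
    rw [commutatorElement_self, hμ1]
  · intro w _ h
    rw [← hσ w]
    refine (hπ0 _ (hσC w)).2 ⟨hσC w, fun d hd => ?_⟩
    rw [← hβ _ (hσC w) d hd, hσ]
    exact h _ trivial
  · intro γ
    refine ⟨μ ((γ : H) * z * (γ : H)⁻¹), fun h0 => ?_, fun u w => ?_⟩
    · have hmem' : (γ : H) * z * (γ : H)⁻¹ ∈ M :=
        (S.hmem _).2 ⟨CoprimeAct.conj_mem_of_mem_normalizer (S.normalizer_le γ.2.1) S.hz, h0⟩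
      have := ((S.hmem _).1 ((Subgroup.mem_normalizer_iff.1 γ.2.2 z).2 hmem')).2
      rw [S.hz1] at this
      exact one_ne_zero this
    · rw [← hσ u, ← hσ w, hform γ _ (hσC u) _ (hσC w), hsim γ _ (hσC u) _ (hσC w),
        hβ _ (hσC u) _ (hσC w)]
  · intro γ hγ u w
    rw [← hσ u, ← hσ w, hform γ _ (hσC u) _ (hσC w), hγ _ (hm (hσC u) (hσC w)),
      hβ _ (hσC u) _ (hσC w)]

/-- The bound on the negated space. -/
theorem minus_bound [hr : Fact r.Prime] (S : Sector ρ r C Cd M μ z) {W : Type*} [AddCommGroup W]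
    [Module (ZMod r) W] [FiniteDimensional (ZMod r) W] (β : W →ₗ[ZMod r] W →ₗ[ZMod r] ZMod r)
    (φ : ↥(Subgroup.normalizer (C : Set H) ⊓ Subgroup.normalizer (M : Set H)) →*
        Module.End (ZMod r) W) (π : H → W)
    (hπs : ∀ w, ∃ u ∈ C, π u = w) (hπm : ∀ u ∈ C, ∀ v ∈ C, π (u * v) = π u + π v)
    (hπ0 : ∀ u ∈ C, π u = 0 ↔ ∀ d ∈ C, μ ⁅u, d⁆ = 0)
    (hπc : ∀ γ : ↥(Subgroup.normalizer (C : Set H) ⊓ Subgroup.normalizer (M : Set H)),
      ∀ u ∈ C, π ((γ : H) * u * (γ : H)⁻¹) = φ γ (π u))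
    (hβ : ∀ u ∈ C, ∀ v ∈ C, β (π u) (π v) = μ ⁅u, v⁆) (halt : ∀ w, β w w = 0)
    (hsim : ∀ γ, ∃ c : ZMod r, c ≠ 0 ∧ ∀ u w, β (φ γ u) (φ γ w) = c * β u w)
    (g : ↥(Subgroup.normalizer (C : Set H) ⊓ Subgroup.normalizer (M : Set H))) (m : ℕ)
    (hg : g ^ 2 ^ (m + 1) = 1)
    (hdeg : (∑ t ∈ Finset.range (2 ^ (m + 1)), ρ ((g : H) ^ t)) * proj ρ Cd M = 0) :
    finrank (ZMod r) (neg (φ (g ^ 2 ^ m))) ≤ 2 ^ m := by
  classical
  by_contra hcon
  push Not at hcon
  let Γ := Subgroup.normalizer (C : Set H) ⊓ Subgroup.normalizer (M : Set H)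
  set k := 2 ^ m with hk
  have hgk : φ g ^ k * φ g ^ k = 1 := by
    rw [← map_pow, ← map_mul, ← pow_add, hk, ← two_mul, ← pow_succ', hg, map_one]
  -- an isotropic orbit
  let q : Fin (k / 2) → W →ₗ[ZMod r] W →ₗ[ZMod r] ZMod r := fun i => β.compl₂ (φ (g ^ ((i : ℕ) + 1)))
  obtain ⟨u, hu, hu0, hq⟩ := Elusive.exists_common_zero q (neg (φ (g ^ k)))
    (by rw [Fintype.card_fin]; omega)
  have huk : (φ g ^ k) u = -u := by rw [← map_pow]; exact mem_neg.1 hu
  obtain ⟨c, hc0, hc⟩ := hsim g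
  have hcpow : ∀ (s : ℕ) a b, β ((φ g ^ s) a) ((φ g ^ s) b) = c ^ s * β a b := by
    intro s
    induction s with
    | zero => intro a b; simp
    | succ s ih =>
      intro a b
      rw [pow_succ', Module.End.mul_apply, Module.End.mul_apply, hc, ih, pow_succ']
      ring
  have hskew : ∀ a b, β a b = -β b a := fun a b => by
    have := halt (a + b)
    simp only [map_add, LinearMap.add_apply, halt, zero_add, add_zero] at this
    exact eq_neg_of_add_eq_zero_right this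
  have hsmall : ∀ t, t < k → β u ((φ g ^ t) u) = 0 := by
    intro t ht
    rcases Nat.eq_zero_or_pos t with rfl | ht0
    · simp [halt]
    by_cases hh : t ≤ k / 2
    · have := hq ⟨t - 1, by omega⟩
      simpa [q, Nat.sub_add_cancel ht0, map_pow] using this
    · have h1 := hq ⟨k - t - 1, by omega⟩
      simp only [q, LinearMap.compl₂_apply, map_pow] at h1
      rw [show k - t - 1 + 1 = k - t by omega] at h1
      have h2 := hcpow t u ((φ g ^ (k - t)) u)
      rw [h1, mul_zero, ← Module.End.mul_apply, ← pow_add, show t + (k - t) = k by omega, huk,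
        map_neg, hskew, neg_neg] at h2
      exact h2
  have hiso : ∀ t, β u ((φ g ^ t) u) = 0 := by
    intro t
    induction t using Nat.strong_induction_on with
    | _ t ih =>
      by_cases ht : t < k
      · exact hsmall t ht
      · rw [show t = t - k + k by omega, pow_add, Module.End.mul_apply, huk, map_neg, map_neg,
          ih (t - k) (by have : 1 ≤ k := Nat.one_le_two_pow; omega), neg_zero]
  have horb : ∀ s t : ℕ, β ((φ g ^ s) u) ((φ g ^ t) u) = 0 := by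
    intro s t
    rcases le_total s t with h | h
    · rw [← Nat.add_sub_cancel' h, pow_add, Module.End.mul_apply, hcpow, hiso, mul_zero]
    · rw [hskew, ← Nat.add_sub_cancel' h, pow_add, Module.End.mul_apply, hcpow, hiso, mul_zero,
        neg_zero]
  -- the operators on the sector
  set e := proj ρ Cd M with he
  have hcomm : ∀ γ : Γ, ρ (γ : H) * e = e * ρ (γ : H) := fun γ =>
    S.proj_comm (S.normalizer_le γ.2.1) γ.2.2
  let θ : Γ →* Module.End (ZMod 2) V :=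
    { toFun := fun γ => ρ (γ : H) * e + (1 - e)
      map_one' := by rw [OneMemClass.coe_one, map_one, one_mul, add_sub_cancel]
      map_mul' := fun a b => by
        have h1 : e * e = e := S.proj_sq
        have h2 : ρ (a : H) * e * (ρ (b : H) * e) = ρ (a : H) * ρ (b : H) * e := by
          rw [mul_assoc, ← mul_assoc e, ← hcomm b, mul_assoc, h1, mul_assoc]
        have h3 : (1 - e) * (ρ (b : H) * e) = 0 := by
          rw [hcomm b, ← mul_assoc, sub_mul, one_mul, h1, sub_self, zero_mul]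
        have h4 : ρ (a : H) * e * (1 - e) = 0 := by
          rw [mul_assoc, mul_sub, mul_one, h1, sub_self, mul_zero]
        have h5 : (1 - e) * (1 - e) = 1 - e := by
          rw [mul_sub, mul_one, sub_mul, one_mul, h1, sub_self, sub_zero]
        rw [Subgroup.coe_mul, map_mul, mul_add, add_mul, add_mul, h2, h3, h4, h5, add_zero, zero_add] }
  have hθ : ∀ γ, θ γ = ρ (γ : H) * e + (1 - e) := fun γ => rfl
  have hker : ∀ (d : H) (hd : d ∈ Cd), θ ⟨d, S.c_le_stab (S.cd_le hd)⟩ = 1 ↔ μ d = 0 := by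
    intro d hd
    rw [hθ]
    refine ⟨fun h => S.mu_eq_zero hd ?_, fun h => ?_⟩
    · exact add_right_cancel (b := 1 - e) (h.trans (add_sub_cancel e 1).symm)
    · rw [show ρ d * e = e from S.mul_proj ((S.hmem d).2 ⟨hd, h⟩), add_sub_cancel]
  let θu := θ.toHomUnits
  set θr := θu.rangeRestrict with hθr
  let ρ' : θu.range →* Module.End (ZMod 2) V := (Units.coeHom _).comp θu.range.subtype
  have hρ' : Function.Injective ρ' := fun a b h => Subtype.ext (Units.ext h)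
  have hρθ : ∀ γ, ρ' (θr γ) = θ γ := fun γ => rfl
  have hdeg' : (ρ' (θr g) - 1) ^ (2 ^ (m + 1) - 1) = 0 := by
    have h1 : ρ' (θr g) - 1 = (ρ (g : H) - 1) * e := by
      rw [hρθ, hθ, sub_mul, one_mul]; abel
    have h2 : Commute (ρ (g : H) - 1) e := (Commute.sub_left (hcomm g) (Commute.one_left e))
    have h3 : 2 ^ (m + 1) - 1 = (2 ^ (m + 1) - 2) + 1 := by
      have : 2 ≤ 2 ^ (m + 1) := Nat.le_self_pow (by omega) 2
      omega
    rw [h1, h2.mul_pow, HHLinear.sub_one_pow_pred (K := ZMod 2)]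
    rw [h3, IsIdempotentElem.pow_succ_eq _ S.proj_sq]
    simpa only [← map_pow] using hdeg
  -- an abelian group of odd order
  obtain ⟨ul, hul, hπul⟩ := hπs u
  let ut : ℕ → Γ := fun t => g ^ t * ⟨ul, S.c_le_stab hul⟩ * (g ^ t)⁻¹
  have hutC : ∀ t, (ut t : H) ∈ C := fun t => by
    simpa [ut] using CoprimeAct.conj_mem_of_mem_normalizer (pow_mem g.2.1 t) hul
  have hutπ : ∀ t, π (ut t : H) = (φ g ^ t) u := fun t => by
    rw [← map_pow, ← hπul, ← hπc _ ul hul]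
    simp [ut]
  set Bs := Subgroup.closure (Set.range fun t => θr (ut t)) with hBs
  have hBc : IsMulCommutative Bs := Subgroup.isMulCommutative_closure (by
    rintro _ ⟨s, rfl⟩ _ ⟨t, rfl⟩
    rw [← map_mul, ← map_mul]
    apply hρ'
    rw [hρθ, hρθ]
    have hd : ⁅(ut s : H), (ut t : H)⁆ ∈ Cd := by
      rw [S.hCd]; exact Subgroup.commutator_mem_commutator (hutC s) (hutC t)
    have hd0 : μ ⁅(ut s : H), (ut t : H)⁆ = 0 := by
      rw [← hβ _ (hutC s) _ (hutC t), hutπ, hutπ]; exact horb s t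
    have hst : ut s * ut t =
        ⟨_, S.c_le_stab (S.cd_le hd)⟩ * (ut t * ut s) := Subtype.ext (by
      simp [commutatorElement_def, mul_assoc])
    rw [hst, map_mul θ, (hker _ hd).2 hd0, one_mul])
  have hBodd : (Nat.card Bs).Coprime 2 := by
    have hle : Bs ≤ (C.subgroupOf Γ).map θr := by
      rw [hBs, Subgroup.closure_le]
      rintro _ ⟨t, rfl⟩
      exact Subgroup.mem_map_of_mem θr (Subgroup.mem_subgroupOf.2 (hutC t))
    refine Nat.Coprime.coprime_dvd_left ((Subgroup.card_dvd_of_le hle).trans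
      (Subgroup.card_map_dvd _ _)) ?_
    rw [Nat.card_congr (Subgroup.subgroupOfEquivOfLe S.c_le_stab).toEquiv, Nat.coprime_two_right]
    exact S.odd_card le_rfl
  have hBx : ∀ b ∈ Bs, θr g * b * (θr g)⁻¹ ∈ Bs := by
    intro b hb
    have hle : Bs.map (MulAut.conj (θr g)).toMonoidHom ≤ Bs := by
      rw [hBs, MonoidHom.map_closure, Subgroup.closure_le]
      rintro _ ⟨_, ⟨t, rfl⟩, rfl⟩
      refine Subgroup.subset_closure ⟨t + 1, ?_⟩
      simp only [MulEquiv.coe_toMonoidHom, MulAut.conj_apply, ← map_inv, ← map_mul]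
      congr 1
      simp only [ut, pow_succ', mul_inv_rev, mul_assoc]
    exact hle (Subgroup.mem_map_of_mem _ hb)
  haveI : Finite ↥θu.range := Finite.of_surjective θr θu.rangeRestrict_surjective
  have hcent := HHExponent.centralizes_abelian (p := 2) ρ' hρ' (θr g) m
    (by rw [← map_pow, hg, map_one]) hdeg' Bs hBodd hBc hBx (θr (ut 0))
    (Subgroup.subset_closure ⟨0, rfl⟩)
  -- the square of the lift is in the radical
  have hθeq : θ (ut k) = θ (ut 0) := by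
    rw [← hρθ, ← hρθ]
    congr 1
    have he2 : θr (ut k) = θr g ^ k * θr (ut 0) * (θr g ^ k)⁻¹ := by
      rw [← map_pow, ← map_inv, ← map_mul, ← map_mul]
      simp [ut]
    rw [he2, hk, hcent.eq, mul_inv_cancel_right]
  have hut0 : (ut 0 : H) = ul := by simp [ut]
  refine hu0 ?_
  have h2u : π ((ut 0 : H) * ut 0) = 0 := by
    refine (hπ0 _ (mul_mem (hutC 0) (hutC 0))).2 fun d hd => ?_
    have h0 : π ((ut 0 : H) * ut k) = 0 := by
      rw [hπm _ (hutC 0) _ (hutC k), hutπ, hutπ, huk, pow_zero, Module.End.one_apply, add_neg_cancel]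
    have hd1 : ⁅(ut 0 : H) * ut 0, d⁆ ∈ Cd := by
      rw [S.hCd]; exact Subgroup.commutator_mem_commutator (mul_mem (hutC 0) (hutC 0)) hd
    have hd2 : ⁅(ut 0 : H) * ut k, d⁆ ∈ Cd := by
      rw [S.hCd]; exact Subgroup.commutator_mem_commutator (mul_mem (hutC 0) (hutC k)) hd
    rw [← hker _ hd1]
    have h1 := (hker _ hd2).2 ((hπ0 _ (mul_mem (hutC 0) (hutC k))).1 h0 d hd)
    refine Eq.trans ?_ h1
    let dΓ : Γ := ⟨d, S.c_le_stab hd⟩
    have e1 : (⟨_, S.c_le_stab (S.cd_le hd1)⟩ : Γ) =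
        (ut 0 * ut 0) * dΓ * (ut 0 * ut 0)⁻¹ * dΓ⁻¹ := Subtype.ext rfl
    have e2 : (⟨_, S.c_le_stab (S.cd_le hd2)⟩ : Γ) =
        (ut 0 * ut k) * dΓ * (ut 0 * ut k)⁻¹ * dΓ⁻¹ := Subtype.ext rfl
    have e3 : θu (ut 0 * ut 0) = θu (ut 0 * ut k) := Units.ext (by
      show θ (ut 0 * ut 0) = θ (ut 0 * ut k)
      rw [map_mul θ (ut 0) (ut 0), map_mul θ (ut 0) (ut k), hθeq])
    show ((θu _ : (Module.End (ZMod 2) V)ˣ) : Module.End (ZMod 2) V) = ((θu _ : _ˣ) : Module.End (ZMod 2) V)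
    rw [e1, e2]
    simp only [map_mul, map_inv] at e3 ⊢
    rw [e3]
  rw [hπm _ (hutC 0) _ (hutC 0), hut0, hπul, ← two_smul (ZMod r)] at h2u
  refine (smul_eq_zero.1 h2u).resolve_left fun h => ?_
  have h' : ((2 : ℕ) : ZMod r) = 0 := by exact_mod_cast h
  rw [ZMod.natCast_eq_zero_iff] at h'
  exact S.hr2 ((Nat.prime_dvd_prime_iff_eq S.hr Nat.prime_two).1 h')

end Sector

end Cfsg.Agent.GrossTwo
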