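import Cfsg.Agent.Lib.GrossTwo.Local
import Cfsg.Agent.Lib.GrossTwo.Component
import Cfsg.Agent.Lib.GrossTwo.Sector
import Cfsg.Agent.Lib.GrossTwo.Quot

/-!
The special elements of a section act trivially on the symplectic space of every sector.
-/

set_option autoImplicit false
set_option linter.unusedSectionVars false
set_option linter.style.haveILetI false
set_option maxHeartbeats 800000

open Module
open scoped commutatorElement

universe u

namespace Cfsg.Agent.GrossTwo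

theorem sum_range_mul {M : Type*} [AddCommMonoid M] (f : ℕ → M) (k : ℕ) :
    ∀ n : ℕ, ∑ t ∈ Finset.range (k * n), f t =
      ∑ s ∈ Finset.range n, ∑ i ∈ Finset.range k, f (k * s + i)
  | 0 => by simp
  | n + 1 => by rw [Nat.mul_succ, Finset.sum_range_add, sum_range_mul f k n, Finset.sum_range_succ]

/-- Elements of a cyclic extension in powers. -/
theorem coset_pow {G : Type*} [Group G] {A : Subgroup G} {U : Type*} [AddCommGroup U]
    [Module (ZMod 2) U] (π : G → U) (hπm : ∀ a ∈ A, ∀ a' ∈ A, π (a * a') = π a + π a')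
    (hπ1 : π 1 = 0) (T : Module.End (ZMod 2) U) {x : G}
    (hx : x ∈ Subgroup.normalizer (A : Set G)) (hT : ∀ a ∈ A, π (x * a * x⁻¹) = T (π a))
    {a : G} (ha : a ∈ A) (n : ℕ) :
    (a * x) ^ n * (x ^ n)⁻¹ ∈ A ∧
      π ((a * x) ^ n * (x ^ n)⁻¹) = (∑ t ∈ Finset.range n, T ^ t) (π a) ∧
      x ^ n * a * (x ^ n)⁻¹ ∈ A ∧ π (x ^ n * a * (x ^ n)⁻¹) = (T ^ n) (π a) := by
  induction n with
  | zero => simp [hπ1, ha]
  | succ n ih =>
    obtain ⟨h1, h2, h3, h4⟩ := ih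
    have e1 : (a * x) ^ (n + 1) * (x ^ (n + 1))⁻¹ =
        (a * x) ^ n * (x ^ n)⁻¹ * (x ^ n * a * (x ^ n)⁻¹) := by
      rw [pow_succ, pow_succ]; group
    have e2 : x ^ (n + 1) * a * (x ^ (n + 1))⁻¹ = x * (x ^ n * a * (x ^ n)⁻¹) * x⁻¹ := by
      rw [pow_succ']; group
    rw [e1, e2]
    refine ⟨mul_mem h1 h3, ?_, CoprimeAct.conj_mem_of_mem_normalizer hx h3, ?_⟩
    · rw [hπm _ h1 _ h3, h2, h4, Finset.sum_range_succ, LinearMap.add_apply]
    · rw [hT _ h3, h4, pow_succ', Module.End.mul_apply]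

theorem sub_one_two_pow {U : Type*} [AddCommGroup U] [Module (ZMod 2) U]
    (T : Module.End (ZMod 2) U) (n : ℕ) : (T - 1) ^ 2 ^ n = T ^ 2 ^ n - 1 := by
  have h : ((Polynomial.X : Polynomial (ZMod 2)) - 1) ^ 2 ^ n = Polynomial.X ^ 2 ^ n - 1 := by
    rw [sub_pow_char_pow, one_pow]
  simpa using congrArg (Polynomial.aeval T) h

/-- Iterated commutators with a fixed element follow the shifts of two quotients at once. -/
theorem exists_iterate {G : Type*} [Group G] {A : Subgroup G} {U Q : Type*} [AddCommGroup U]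
    [Module (ZMod 2) U] [AddCommGroup Q] [Module (ZMod 2) Q] (π : G → U) (κ : G → Q)
    (hπm : ∀ a ∈ A, ∀ a' ∈ A, π (a * a') = π a + π a') (hπ1 : π 1 = 0)
    (hκm : ∀ a ∈ A, ∀ a' ∈ A, κ (a * a') = κ a + κ a') (hκ1 : κ 1 = 0)
    {v : G} (hv : v ∈ Subgroup.normalizer (A : Set G)) (T : Module.End (ZMod 2) U)
    (V : Module.End (ZMod 2) Q) (hT : ∀ a ∈ A, π (v * a * v⁻¹) = T (π a))
    (hV : ∀ a ∈ A, κ (v * a * v⁻¹) = V (κ a)) {u : G} (hu : u ∈ A) (n : ℕ) :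
    ∃ c ∈ A, π c = ((T - 1) ^ n : Module.End (ZMod 2) U) (π u) ∧
      κ c = ((V - 1) ^ n : Module.End (ZMod 2) Q) (κ u) := by
  induction n with
  | zero => exact ⟨u, hu, by simp, by simp⟩
  | succ n ih =>
    obtain ⟨c, hc, h1, h2⟩ := ih
    have hvc := CoprimeAct.conj_mem_of_mem_normalizer hv hc
    have hπi : π c⁻¹ = -π c :=
      eq_neg_of_add_eq_zero_left (by rw [← hπm _ (inv_mem hc) _ hc, inv_mul_cancel, hπ1])
    have hκi : κ c⁻¹ = -κ c :=
      eq_neg_of_add_eq_zero_left (by rw [← hκm _ (inv_mem hc) _ hc, inv_mul_cancel, hκ1])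
    refine ⟨_, mul_mem hvc (inv_mem hc), ?_, ?_⟩
    · rw [hπm _ hvc _ (inv_mem hc), hT c hc, hπi, ← sub_eq_add_neg, h1, pow_succ',
        Module.End.mul_apply, LinearMap.sub_apply, Module.End.one_apply]
    · rw [hκm _ hvc _ (inv_mem hc), hV c hc, hκi, ← sub_eq_add_neg, h2, pow_succ',
        Module.End.mul_apply, LinearMap.sub_apply, Module.End.one_apply]

variable {H : Type u} [Group H] [Finite H] {V : Type u} [AddCommGroup V] [Module (ZMod 2) V]
  [Finite V] {ρ : H →* Module.End (ZMod 2) V} {G : Type u} [Group G] [Finite G] [Group.IsSolvable G]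

/-- The special elements act trivially on a sector. -/
theorem sector_act {e q : ℕ} (he : 1 ≤ e) {x : G} {K A B : Subgroup G} (S : Sect e q x K A B)
    {r : ℕ} [hr : Fact r.Prime] {C Cd M : Subgroup H} {μ : H → ZMod r} {z : H}
    (Sc : Sector ρ r C Cd M μ z) (hpow : ∀ c ∈ C, ∀ d ∈ C, c ^ r * d = d * c ^ r)
    (P₂ : Subgroup G) (hxP : x ∈ P₂) (hAP : A ≤ P₂) (ι : G → H)
    (hιm : ∀ g ∈ P₂, ∀ g' ∈ P₂, ι (g * g') = ι g * ι g')
    (hιC : ∀ g ∈ P₂, ι g ∈ Subgroup.normalizer (C : Set H))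
    (hιA : ∀ a ∈ A, ∀ c ∈ Cd, ι a * c * (ι a)⁻¹ = c)
    (hιy : ∀ c ∈ Cd, ι (x ^ 2 ^ e) * c * (ι (x ^ 2 ^ e))⁻¹ = c)
    (hdeg : ∀ g ∈ P₂, (ρ (ι g) - 1) ^ (2 ^ (e + 1) - 1) = 0)
    {c : H} (hc : c ∈ C) {a : G} (ha : a ∈ A)
    (hsp : a ∈ B ∨ (B = ⊥ ∧ ∃ a₁ ∈ A, a = (a₁ * x) ^ 2 ^ e * (x ^ 2 ^ e)⁻¹)) :
    ∀ d ∈ C, μ ⁅ι a * c * (ι a)⁻¹ * c⁻¹, d⁆ = 0 := by
  classical
  obtain ⟨W, i1, i2, i3, β, φ, π, hπs, hπm, hπ0, hπc, hβ, halt, hnd, hsim, hiso⟩ := Sc.exists_space hpow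
  haveI : FiniteDimensional (ZMod r) W := Module.Finite.of_finite
  have hr2 := Sc.hr2
  have h2 := zmod_two_ne_zero (r := r) hr2
  let St := Subgroup.normalizer (C : Set H) ⊓ Subgroup.normalizer (M : Set H)
  have hι1 : ι 1 = 1 := by
    have h := hιm 1 (one_mem _) 1 (one_mem _)
    rw [mul_one] at h
    exact left_eq_mul.1 h
  have hιi : ∀ g ∈ P₂, ι g⁻¹ = (ι g)⁻¹ := fun g hg =>
    eq_inv_of_mul_eq_one_left (by rw [← hιm _ (inv_mem hg) _ hg, inv_mul_cancel, hι1])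
  have hιp : ∀ g ∈ P₂, ∀ n : ℕ, ι (g ^ n) = ι g ^ n := fun g hg n => by
    induction n with
    | zero => simpa using hι1
    | succ n ih => rw [pow_succ, pow_succ, hιm _ (pow_mem hg n) _ hg, ih]
  let Γ : Subgroup G :=
    { carrier := {g | g ∈ P₂ ∧ ι g ∈ St}
      one_mem' := ⟨one_mem _, by rw [hι1]; exact one_mem _⟩
      mul_mem' := fun {g g'} hg hg' => ⟨mul_mem hg.1 hg'.1, by
        rw [hιm g hg.1 g' hg'.1]; exact mul_mem hg.2 hg'.2⟩
      inv_mem' := fun {g} hg => ⟨inv_mem hg.1, by rw [hιi g hg.1]; exact inv_mem hg.2⟩ }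
  let toSt : Γ →* St :=
    { toFun := fun g => ⟨ι g, g.2.2⟩
      map_one' := Subtype.ext hι1
      map_mul' := fun g g' => Subtype.ext (hιm g g.2.1 g' g'.2.1) }
  set φ₂ : Γ →* Module.End (ZMod r) W := φ.comp toSt with hφ₂
  have hφφ : ∀ (g g' : Γ) (w : W), φ₂ g (φ₂ g' w) = φ₂ (g * g') w := fun g g' w => by
    rw [map_mul, Module.End.mul_apply]
  have hMfix : ∀ g ∈ P₂, (∀ c ∈ Cd, ι g * c * (ι g)⁻¹ = c) → g ∈ Γ := fun g hg h =>
    ⟨hg, hιC g hg, Carter.le_normalizer_of_conj_mem fun c hc => by rw [h c (Sc.m_le hc)]; exact hc⟩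
  have hAΓ : A ≤ Γ := fun g hg => hMfix g (hAP hg) (hιA g hg)
  have hisoA : ∀ g : Γ, (g : G) ∈ A → ∀ u w, β (φ₂ g u) (φ₂ g w) = β u w :=
    fun g hg => hiso (toSt g) (hιA g hg)
  have hyΓ : x ^ 2 ^ e ∈ Γ := hMfix _ (pow_mem hxP _) hιy
  -- the reduction to a linear statement
  suffices hφa : φ₂ ⟨a, hAΓ ha⟩ = 1 by
    have hc' : ι a * c * (ι a)⁻¹ ∈ C :=
      CoprimeAct.conj_mem_of_mem_normalizer (hιC a (hAP ha)) hc
    have h1 : π (ι a * c * (ι a)⁻¹) = π c := by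
      refine (hπc (toSt ⟨a, hAΓ ha⟩) c hc).trans ?_
      show φ₂ ⟨a, hAΓ ha⟩ (π c) = π c
      rw [hφa, Module.End.one_apply]
    refine (hπ0 _ (mul_mem hc' (inv_mem hc))).1 ?_
    have h2 := hπm _ (mul_mem hc' (inv_mem hc)) c hc
    rw [inv_mul_cancel_right, h1] at h2
    exact right_eq_add.1 h2
  -- the base module
  obtain ⟨U, j1, j2, j3, σ, π₀, hπ₀s, hπ₀m, hπ₀0, hπ₀c, hTy, hTd, -⟩ := S.exists_base he
  set T := σ ⟨x, S.hxA, S.hxB⟩ with hT
  have hπ₀1 : π₀ 1 = 0 := (hπ₀0 1 (one_mem A)).2 (one_mem B)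
  have hTx : ∀ a ∈ A, π₀ (x * a * x⁻¹) = T (π₀ a) := hπ₀c ⟨x, S.hxA, S.hxB⟩
  have hcp := fun (a : G) (ha : a ∈ A) (n : ℕ) => coset_pow π₀ hπ₀m hπ₀1 T S.hxA hTx ha n
  have hgeom : ∀ (a : G), a ∈ A → ∀ n : ℕ,
      π₀ ((a * x) ^ 2 ^ n * (x ^ 2 ^ n)⁻¹) = ((T - 1) ^ (2 ^ n - 1) : Module.End (ZMod 2) U) (π₀ a) :=
    fun a ha n => by rw [(hcp a ha _).2.1, HHLinear.sub_one_pow_pred (K := ZMod 2)]
  have hπ₀eq : ∀ c ∈ A, ∀ c' ∈ A, π₀ c = π₀ c' → c * c'⁻¹ ∈ B := fun c hc c' hc' h => by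
    refine (hπ₀0 _ (mul_mem hc (inv_mem hc'))).1 ?_
    have e := hπ₀m (c * c'⁻¹) (mul_mem hc (inv_mem hc')) c' hc'
    rw [inv_mul_cancel_right, h] at e
    exact right_eq_add.1 e
  -- the stabiliser of the sector in the powers of `x`
  obtain ⟨h, hhe, hh⟩ := exists_two_pow_dvd Γ x e hyΓ
  obtain ⟨m, rfl⟩ := Nat.exists_eq_add_of_le hhe
  set vh : Γ := ⟨x ^ 2 ^ h, (hh _).2 dvd_rfl⟩ with hvh
  have hmemA : ∀ (a : G), a ∈ A → ∀ n : ℕ, 2 ^ h ∣ n → (a * x) ^ n ∈ Γ := fun a ha n hn => by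
    have := mul_mem (hAΓ (hcp a ha n).1) ((hh n).2 hn)
    rwa [inv_mul_cancel_right] at this
  have hpe : ∀ i, 2 ^ h * 2 ^ i = 2 ^ (h + i) := fun i => (pow_add 2 h i).symm
  have hvpow : ∀ i, ((vh ^ 2 ^ i : Γ) : G) = x ^ 2 ^ (h + i) := fun i => by
    rw [SubgroupClass.coe_pow, ← hpe, pow_mul]
  have hbound : ∀ (a : G) (ha : a ∈ A),
      finrank (ZMod r) (neg (φ₂ ((⟨(a * x) ^ 2 ^ h, hmemA a ha _ dvd_rfl⟩ : Γ) ^ 2 ^ m))) ≤ 2 ^ m := by
    intro a ha
    have hax : a * x ∈ P₂ := mul_mem (hAP ha) hxP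
    set g : Γ := ⟨(a * x) ^ 2 ^ h, hmemA a ha _ dvd_rfl⟩ with hg
    have hgι : ((toSt g : St) : H) = ι (a * x) ^ 2 ^ h := hιp _ hax _
    rw [hφ₂, MonoidHom.comp_apply, map_pow toSt]
    refine Sc.minus_bound β φ π hπs hπm hπ0 hπc hβ halt hsim (toSt g) m ?_ ?_
    · rw [← map_pow, show g ^ 2 ^ (m + 1) = 1 from Subtype.ext (by
        rw [SubgroupClass.coe_pow, hg, ← pow_mul, hpe, ← add_assoc, S.hord a ha]; rfl), map_one]
    · set p := ι (a * x) with hp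
      set E := Sector.proj ρ Cd M with hE
      have hsum : ∑ t ∈ Finset.range (2 ^ h * 2 ^ (m + 1)), ρ (p ^ t) = 0 := by
        rw [hpe, ← add_assoc]
        have := hdeg _ hax
        rw [HHLinear.sub_one_pow_pred (K := ZMod 2)] at this
        simpa only [map_pow] using this
      have hterm : ∀ s i, i ∈ Finset.range (2 ^ h) → i ≠ 0 → E * ρ (p ^ (2 ^ h * s + i)) * E = 0 := by
        intro s i hi hi0
        refine Sc.proj_mul_proj (pow_mem (hιC _ hax) _) fun hM => hi0 ?_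
        have hmem : (a * x) ^ (2 ^ h * s + i) ∈ Γ :=
          ⟨pow_mem hax _, by rw [hιp _ hax]; exact ⟨pow_mem (hιC _ hax) _, hM⟩⟩
        have := mul_mem (inv_mem (hAΓ (hcp a ha (2 ^ h * s + i)).1)) hmem
        rw [mul_inv_rev, inv_inv, inv_mul_cancel_right] at this
        exact Nat.eq_zero_of_dvd_of_lt ((Nat.dvd_add_right (Dvd.intro s rfl)).1 ((hh _).1 this))
          (Finset.mem_range.1 hi)
      have hmain : ∀ s, E * ρ (p ^ (2 ^ h * s + 0)) * E = ρ (((toSt g : St) : H) ^ s) * E := by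
        intro s
        rw [add_zero, pow_mul, ← hgι, ← SubgroupClass.coe_pow, ← Sc.proj_comm
          (Sc.normalizer_le (toSt g ^ s).2.1) (toSt g ^ s).2.2, mul_assoc, Sc.proj_sq]
      have h0 : E * (∑ t ∈ Finset.range (2 ^ h * 2 ^ (m + 1)), ρ (p ^ t)) * E = 0 := by
        rw [hsum, mul_zero, zero_mul]
      rw [sum_range_mul, Finset.mul_sum, Finset.sum_mul] at h0
      rw [Finset.sum_mul]
      refine Eq.trans (Finset.sum_congr rfl fun s _ => ?_) h0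
      rw [Finset.mul_sum, Finset.sum_mul, Finset.sum_eq_single 0 (fun i hi hi0 => hterm s i hi hi0)
        (fun h0' => absurd (Finset.mem_range.2 (Nat.two_pow_pos h)) h0'), hmain]
  -- the groups inside the stabiliser
  set A' := A.subgroupOf Γ with hA'
  set B' := B.subgroupOf Γ with hB'
  have hmA : ∀ g : Γ, g ∈ A' ↔ (g : G) ∈ A := fun g => Subgroup.mem_subgroupOf
  have hmB : ∀ g : Γ, g ∈ B' ↔ (g : G) ∈ B := fun g => Subgroup.mem_subgroupOf
  have hA2 : IsPGroup 2 A' := S.hA.comap_of_injective Γ.subtype Γ.subtype_injective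
  have hvhA : ∀ (t : ℕ), ∀ g ∈ A', vh ^ t * g * (vh ^ t)⁻¹ ∈ A' := fun t g hg => by
    rw [hmA] at hg ⊢
    simpa [hvh] using CoprimeAct.conj_mem_of_mem_normalizer (pow_mem (pow_mem S.hxA (2 ^ h)) t) hg
  have hvhB : ∀ (t : ℕ), ∀ g ∈ B', vh ^ t * g * (vh ^ t)⁻¹ ∈ B' := fun t g hg => by
    rw [hmB] at hg ⊢
    simpa [hvh] using CoprimeAct.conj_mem_of_mem_normalizer (pow_mem (pow_mem S.hxB (2 ^ h)) t) hg
  -- every component
  have hcomp : ∀ U' : Submodule (ZMod r) W, U' ≠ ⊥ → (∀ g ∈ A', ∀ w ∈ U', φ₂ g w ∈ U') →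
      ∃ w₀ ∈ U', w₀ ≠ 0 ∧ (∀ b (hb : b ∈ B), φ₂ ⟨b, hAΓ (S.hBA hb)⟩ w₀ = w₀) ∧
        (B = ⊥ → ∀ a₁ (ha₁ : a₁ ∈ A),
          φ₂ ⟨_, hAΓ (hcp a₁ ha₁ (2 ^ (h + m))).1⟩ w₀ = w₀) := by
    intro U' hU' hU'A
    obtain ⟨B₀, R, W₁, w₀, hw₀, hw₀W, hw₀U, hB₀, hR, hB₀w, hW₁A, hW₁nd, hRsc, hRanti, hdich⟩ :=
      exists_component β φ₂ hr2 hnd (A := A') (B := B') hA2
        (fun g hg => hisoA g ((hmA g).1 hg))
        (fun g hg => (hmA g).2 (S.hBA ((hmB g).1 hg)))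
        (fun b hb g hg => Subtype.ext (S.hBc _ ((hmB b).1 hb) _ ((hmA g).1 hg)))
        (fun b hb => Subtype.ext (S.hBsq _ ((hmB b).1 hb)))
        (fun g hg g' hg' => (hmB _).2 (by
          simpa [commutatorElement_def] using S.hcomm _ ((hmA g).1 hg) _ ((hmA g').1 hg')))
        (fun B₀ hB₀ g hg hcm => by
          have hle : B₀.map Γ.subtype ≤ B := by
            rintro _ ⟨b, hb, rfl⟩; exact (hmB b).1 (hB₀ hb)
          obtain ⟨b, hb, hbe⟩ := S.sqrad he hle (a := (g : G)) ⟨(hmA g).1 hg, fun a' ha' => by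
            refine ⟨⁅g, ⟨a', hAΓ ha'⟩⁆, hcm _ ((hmA _).2 ha'), ?_⟩
            simp [commutatorElement_def]⟩
          rwa [show g * g = b from Subtype.ext hbe.symm])
        hU' hU'A
    refine ⟨w₀, hw₀U, hw₀, ?_⟩
    have hW₁ne : W₁ ≠ ⊥ := (Submodule.ne_bot_iff _).2 ⟨w₀, hw₀W, hw₀⟩
    obtain ⟨l, hlm, hlW, hlbound⟩ := exists_orbit β φ₂ (fun g => hsim (toSt g)) halt (A := A') vh
      (fun g hg => by simpa using hvhA 1 g hg) hW₁ne hW₁A hW₁nd
      (fun t => hdich (vh ^ t) (hvhA t) (hvhB t)) m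
      (Subtype.ext (by rw [hvpow, ← add_assoc, S.hx]; rfl))
      (S := {g | (g : G) ∈ A ∧ ∃ a₁ ∈ A, (a₁ * x) ^ 2 ^ h * (x ^ 2 ^ h)⁻¹ = g})
      (fun g hg => (hmA g).2 hg.1) ⟨one_mem A, 1, one_mem A, by simp⟩
      (fun g hg => by
        obtain ⟨-, a₁, ha₁, e⟩ := hg
        refine Subtype.ext ?_
        rw [SubgroupClass.coe_pow, Subgroup.coe_mul, hvh, ← e, inv_mul_cancel_right, ← pow_mul, hpe,
          ← add_assoc, S.hord a₁ ha₁]
        rfl)
      (fun g hg => by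
        obtain ⟨-, a₁, ha₁, e⟩ := hg
        have := hbound a₁ ha₁
        rwa [show g * vh = ⟨(a₁ * x) ^ 2 ^ h, hmemA a₁ ha₁ _ dvd_rfl⟩ from Subtype.ext (by
          rw [Subgroup.coe_mul, hvh, ← e, inv_mul_cancel_right])])
    obtain ⟨j, rfl⟩ := Nat.exists_eq_add_of_le hlm
    -- the central involution on the component
    have hgmap : ∀ g : Γ, W₁.map (φ₂ g) = W₁ → ∀ w ∈ W₁, φ₂ g w ∈ W₁ := fun g hg w hw => by
      have h := Submodule.mem_map_of_mem (f := φ₂ g) hw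
      rwa [hg] at h
    have hbl : ∀ a₁ (ha₁ : a₁ ∈ A), finrank (ZMod r) ↥(W₁ ⊓ neg (φ₂
        ((⟨(a₁ * x) ^ 2 ^ h, hmemA a₁ ha₁ _ dvd_rfl⟩ : Γ) ^ 2 ^ (l + j)))) ≤ 2 ^ j := by
      intro a₁ ha₁
      have hb := hlbound ⟨_, hAΓ (hcp a₁ ha₁ (2 ^ h)).1⟩ ⟨(hcp a₁ ha₁ (2 ^ h)).1, a₁, ha₁, rfl⟩
      rw [show (⟨_, hAΓ (hcp a₁ ha₁ (2 ^ h)).1⟩ : Γ) * vh = ⟨(a₁ * x) ^ 2 ^ h, hmemA a₁ ha₁ _ dvd_rfl⟩
        from Subtype.ext (by rw [Subgroup.coe_mul, hvh]; exact inv_mul_cancel_right _ _)] at hb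
      rw [pow_add 2 l j] at hb ⊢
      exact Nat.le_of_mul_le_mul_left hb (Nat.two_pow_pos l)
    have hneg_one : ∀ w : W, w = -w → w = 0 := fun w hw =>
      eq_zero_of_fix_neg h2 (P := (1 : Module.End (ZMod r) W)) (mem_fix.2 rfl) (mem_neg.2 hw)
    have hR1 : ∀ g ∈ A', (∀ w ∈ W₁, φ₂ g w = w) → g ∈ R := fun g hg hgW => by
      by_contra hgR
      obtain ⟨g', hg', hanti⟩ := hRanti g hg hgR
      have h1 := hanti w₀ hw₀W
      rw [hgW _ (hW₁A g' hg' w₀ hw₀W), hgW w₀ hw₀W] at h1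
      exact hw₀ (map_inj φ₂ g' ((hneg_one _ h1).trans (map_zero _).symm))
    -- `j = 0`: the cosets fix the component
    have hj0 : j = 0 → ∀ a₁ (ha₁ : a₁ ∈ A), ∀ w ∈ W₁,
        φ₂ ⟨_, hAΓ (hcp a₁ ha₁ (2 ^ (h + (l + j)))).1⟩ w = w := by
      rintro rfl
      simp only [Nat.add_zero] at hbl hyΓ hιy ⊢
      have hone : ∀ a₁ (ha₁ : a₁ ∈ A), ∀ w ∈ W₁,
          φ₂ ((⟨(a₁ * x) ^ 2 ^ h, hmemA a₁ ha₁ _ dvd_rfl⟩ : Γ) ^ 2 ^ l) w = w := by
        intro a₁ ha₁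
        set g : Γ := (⟨(a₁ * x) ^ 2 ^ h, hmemA a₁ ha₁ _ dvd_rfl⟩ : Γ) ^ 2 ^ l with hg
        have hge : (g : G) = (a₁ * x) ^ 2 ^ (h + l) := by
          rw [hg, SubgroupClass.coe_pow, ← pow_mul, hpe]
        set g' : Γ := ⟨_, hAΓ (hcp a₁ ha₁ (2 ^ (h + l))).1⟩ with hg'
        have hgg : g = g' * vh ^ 2 ^ l := Subtype.ext (by
          rw [hge, Subgroup.coe_mul, hvpow]; exact (inv_mul_cancel_right _ _).symm)
        have hgW : ∀ w ∈ W₁, φ₂ g w ∈ W₁ := fun w hw => by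
          rw [hgg, ← hφφ]
          exact hW₁A g' ((hmA g').2 (hcp a₁ ha₁ _).1) _ (hgmap _ hlW w hw)
        have hP : φ₂ g * φ₂ g = 1 := by
          rw [← map_mul, ← map_one φ₂]
          congr 1
          refine Subtype.ext ?_
          rw [Subgroup.coe_mul, hge, ← pow_add, ← two_mul, ← pow_succ',
            show h + l + 1 = h + (l + 0) + 1 by omega, S.hord a₁ ha₁]
          rfl
        have hPi : ∀ u w, β (φ₂ g u) (φ₂ g w) = β u w := fun u w => by
          rw [hgg, ← hφφ, ← hφφ, hisoA g' (hcp a₁ ha₁ _).1]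
          exact hiso (toSt (vh ^ 2 ^ l)) (fun c hc => by
            show ι ((vh ^ 2 ^ l : Γ) : G) * c * (ι ((vh ^ 2 ^ l : Γ) : G))⁻¹ = c
            rw [hvpow]; exact hιy c hc) u w
        have hndn := nondegOn_fix β h2 (P := -φ₂ g) (by rw [neg_mul_neg, hP])
          (fun u w => by simp [hPi u w]) (fun w hw => W₁.neg_mem (hgW w hw)) hW₁nd
        rw [fix_neg] at hndn
        obtain ⟨k, hk⟩ := even_finrank β halt hndn
        have hb := hbl a₁ ha₁
        change finrank (ZMod r) ↥(W₁ ⊓ neg (φ₂ g)) ≤ _ at hb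
        have hsum := finrank_fix_add_neg h2 hP hgW
        have heq : W₁ ⊓ fix (φ₂ g) = W₁ :=
          Submodule.eq_of_le_of_finrank_le inf_le_left (by norm_num at hb; omega)
        exact fun w hw => mem_fix.1 ((inf_eq_left.1 heq) hw)
      intro a₁ ha₁ w hw
      have h1 := hone a₁ ha₁ w hw
      have h3 := hone 1 (one_mem A) w hw
      simp only [one_mul] at h3
      have e : ((⟨(a₁ * x) ^ 2 ^ h, hmemA a₁ ha₁ _ dvd_rfl⟩ : Γ) ^ 2 ^ l) =
          ⟨_, hAΓ (hcp a₁ ha₁ (2 ^ (h + l))).1⟩ * vh ^ 2 ^ l := Subtype.ext (by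
        rw [Subgroup.coe_mul, hvpow, SubgroupClass.coe_pow, ← pow_mul, hpe]
        exact (inv_mul_cancel_right _ _).symm)
      rw [e, ← hφφ, h3] at h1
      exact h1
    refine ⟨fun b hb => ?_, fun hB a₁ ha₁ => ?_⟩
    · -- a hyperplane of the central part is impossible
      by_contra hbw
      set b' : Γ := ⟨b, hAΓ (S.hBA hb)⟩ with hb'
      have hle : B₀.map Γ.subtype ≤ B := by rintro _ ⟨d, hd, rfl⟩; exact (hmB d).1 (hB₀ hd)
      have hne : B₀.map Γ.subtype ≠ B := fun heq => by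
        obtain ⟨d, hd, hdb⟩ := heq.ge hb
        exact hbw ((hB₀w b' ((hmB b').2 hb)).1 (by rwa [show b' = d from Subtype.ext hdb.symm]))
      have hRrad : ∀ g : Γ, g ∈ R ↔ (g : G) ∈ S.rad hle := by
        intro g
        rw [hR, S.mem_rad, hmA]
        refine and_congr_right fun _ => ⟨fun hg a' ha' => ?_, fun hg g' hg' => ?_⟩
        · exact ⟨_, hg ⟨a', hAΓ ha'⟩ ((hmA _).2 ha'), by simp [commutatorElement_def]⟩
        · obtain ⟨d, hd, hde⟩ := hg g' ((hmA g').1 hg')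
          rwa [show ⁅g, g'⁆ = d from Subtype.ext (by
            rw [Subgroup.coe_subtype] at hde
            rw [hde]; simp [commutatorElement_def])]
      obtain ⟨a₂, ha₂, hkey⟩ := S.key π₀ hπ₀s hπ₀m hπ₀0 T hTx hTd hle hne
      rcases Nat.eq_zero_or_pos j with hj | hj
      · -- `j = 0`
        have hpd : 2 ^ (h + (l + j)) - 1 ≤ 3 * 2 ^ (h + (l + j) - 1) - 1 := by
          obtain ⟨k, hk⟩ : ∃ k, h + (l + j) = k + 1 := ⟨_, (Nat.sub_add_cancel he).symm⟩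
          rw [hk, Nat.add_sub_cancel, pow_succ]; omega
        obtain ⟨D, hD⟩ := Nat.exists_eq_add_of_le hpd
        obtain ⟨a₁, ha₁, ha₁π⟩ := hπ₀s (((T - 1) ^ D : Module.End (ZMod 2) U) (π₀ a₂))
        refine hkey _ (hcp a₁ ha₁ (2 ^ (h + (l + j)))).1 ?_ ((hRrad ⟨_, hAΓ (hcp a₁ ha₁ _).1⟩).1
          (hR1 _ ((hmA _).2 (hcp a₁ ha₁ _).1) (hj0 hj a₁ ha₁)))
        rw [hgeom a₁ ha₁, ha₁π, hD, pow_add (T - 1), Module.End.mul_apply]
      · -- the local configuration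
        let Γi : Subgroup Γ :=
          { carrier := {g | W₁.map (φ₂ g) = W₁}
            one_mem' := by
              show W₁.map (φ₂ 1) = W₁
              rw [map_one]
              exact Submodule.map_id _
            mul_mem' := fun {g g'} hg hg' => by
              show W₁.map (φ₂ (g * g')) = W₁
              rw [map_mul, Module.End.mul_eq_comp, Submodule.map_comp, hg', hg]
            inv_mem' := fun {g} hg => by
              show W₁.map (φ₂ g⁻¹) = W₁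
              conv_lhs => rw [← hg]
              rw [← Submodule.map_comp, ← Module.End.mul_eq_comp, ← map_mul, inv_mul_cancel, map_one]
              exact Submodule.map_id _ }
        have hAi : A' ≤ Γi := fun g hg => Submodule.eq_of_le_of_finrank_le
          (by rintro _ ⟨w, hw, rfl⟩; exact hW₁A g hg w hw)
          (le_of_eq (Submodule.equivMapOfInjective _ (map_inj φ₂ g) W₁).finrank_eq)
        set vi : Γi := ⟨vh ^ 2 ^ l, hlW⟩ with hvi
        have hviG : (((vi : Γi) : Γ) : G) = x ^ 2 ^ (h + l) := hvpow l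
        let φi : Γi →* Module.End (ZMod r) W₁ :=
          { toFun := fun g => (φ₂ (g : Γ)).restrict (hgmap _ g.2)
            map_one' := LinearMap.ext fun w => Subtype.ext (by simp)
            map_mul' := fun g g' => LinearMap.ext fun w => Subtype.ext (by simp) }
        have hφi : ∀ (g : Γi) (w : W₁), ((φi g w : W₁) : W) = φ₂ (g : Γ) w := fun g w => rfl
        have hfix1 : ∀ d ∈ B₀, ∀ w ∈ W₁, φ₂ d w = w := by
          intro d hd w hw
          have hdR : d ∈ R := (hR d).2 ⟨(hmA d).2 (S.hBA ((hmB d).1 (hB₀ hd))), fun g' hg' => by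
            rw [show ⁅d, g'⁆ = 1 from commutatorElement_eq_one_iff_mul_comm.2 (Subtype.ext
              (S.hBc _ ((hmB d).1 (hB₀ hd)) _ ((hmA g').1 hg')))]
            exact one_mem _⟩
          rcases hRsc d hdR with h1 | h1
          · exact h1 w hw
          · exact absurd (hneg_one _ (((hB₀w d (hB₀ hd)).1 hd).symm.trans (h1 w₀ hw₀W))) hw₀
        have hvB₀ : ∀ d ∈ B₀.map Γ.subtype, x ^ 2 ^ (h + l) * d * (x ^ 2 ^ (h + l))⁻¹ ∈ B₀.map Γ.subtype := by
          rintro _ ⟨d, hd, rfl⟩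
          refine ⟨vh ^ 2 ^ l * d * (vh ^ 2 ^ l)⁻¹, ?_, by simp [hvpow]⟩
          refine (hB₀w _ (hvhB _ d (hB₀ hd))).2 ?_
          rw [mul_assoc, ← hφφ, ← hφφ, hfix1 d hd _ (hgmap _ (Γi.inv_mem hlW) w₀ hw₀W), hφφ,
            mul_inv_cancel, map_one, Module.End.one_apply]
        obtain ⟨Q, k1, k2, k3, κ, Vv, hκs, hκm, hκ0, hκc, hQcard, hQsix⟩ := S.exists_quot he hle hne
          (i := h + l) (j := j) (by omega) hvB₀
        have hκ1 : κ 1 = 0 := (hκ0 1 (one_mem A)).2 (one_mem _)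
        have hκeq : ∀ c ∈ A, ∀ c' ∈ A, π₀ c = π₀ c' → κ c = κ c' := fun c hc c' hc' heq => by
          have hb := (hκ0 _ (mul_mem hc (inv_mem hc'))).2 (S.le_rad hle (hπ₀eq c hc c' hc' heq))
          have e := hκm (c * c'⁻¹) (mul_mem hc (inv_mem hc')) c' hc'
          rwa [inv_mul_cancel_right, hb, zero_add] at e
        have hTv : ∀ c ∈ A, π₀ (x ^ 2 ^ (h + l) * c * (x ^ 2 ^ (h + l))⁻¹) = (T ^ 2 ^ (h + l)) (π₀ c) :=
          fun c hc => (hcp c hc _).2.2.2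
        let Sset : Set Γi := {g | ∃ a₁ ∈ A, (((g : Γi) : Γ) : G) =
          (a₁ * x) ^ 2 ^ (h + l) * (x ^ 2 ^ (h + l))⁻¹}
        have hmk : ∀ a₁ ∈ A, ∃ g ∈ Sset, (((g : Γi) : Γ) : G) =
            (a₁ * x) ^ 2 ^ (h + l) * (x ^ 2 ^ (h + l))⁻¹ := fun a₁ ha₁ =>
          ⟨⟨⟨_, hAΓ (hcp a₁ ha₁ _).1⟩, hAi ((hmA _).2 (hcp a₁ ha₁ _).1)⟩, ⟨a₁, ha₁, rfl⟩, rfl⟩
        have hSpow : ∀ u ∈ Sset, ∃ a₁ ∈ A, (((u * vi : Γi) : Γ) : G) = (a₁ * x) ^ 2 ^ (h + l) := by
          rintro u ⟨a₁, ha₁, hue⟩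
          exact ⟨a₁, ha₁, by rw [Subgroup.coe_mul, Subgroup.coe_mul, hviG, hue, inv_mul_cancel_right]⟩
        have D : LocalData ((β.domRestrict₁₂ W₁ W₁)) φi (A'.subgroupOf Γi) vi j
            (fun g => κ (((g : Γi) : Γ) : G)) Vv Sset := by
          refine ⟨hr2, fun w => halt w, ?_,
            hA2.comap_of_injective Γi.subtype Γi.subtype_injective, ?_, ?_, ?_, ?_, ?_, ?_, ?_, ?_, ?_,
            ?_, ?_, ?_, ?_, ?_, ?_⟩
          · intro w _ hw
            exact Subtype.ext (hW₁nd w w.2 fun w' hw' => hw ⟨w', hw'⟩ trivial)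
          · intro g hg
            exact hvhA _ _ hg
          · refine Subtype.ext (Subtype.ext ?_)
            rw [SubgroupClass.coe_pow, SubgroupClass.coe_pow, hviG, ← pow_mul, ← pow_add,
              show h + l + (j + 1) = h + (l + j) + 1 by omega, S.hx]
            rfl
          · intro g hg u w
            exact hisoA g ((hmA _).1 hg) u w
          · intro u w
            refine hiso (toSt ((vi ^ 2 ^ j : Γi) : Γ)) (fun c hc => ?_) u w
            show ι (((vi ^ 2 ^ j : Γi) : Γ) : G) * c * (ι (((vi ^ 2 ^ j : Γi) : Γ) : G))⁻¹ = c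
            rw [SubgroupClass.coe_pow, SubgroupClass.coe_pow, hviG, ← pow_mul, ← pow_add,
              add_assoc]
            exact hιy c hc
          · intro v'
            obtain ⟨d, hd, rfl⟩ := hκs v'
            exact ⟨⟨⟨d, hAΓ hd⟩, hAi ((hmA _).2 hd)⟩, (hmA ⟨d, hAΓ hd⟩).2 hd, rfl⟩
          · intro g hg g' hg'
            exact hκm _ ((hmA _).1 hg) _ ((hmA _).1 hg')
          · intro g hg
            show κ (((vi * g * vi⁻¹ : Γi) : Γ) : G) = _
            simp only [Subgroup.coe_mul, InvMemClass.coe_inv, hviG]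
            exact hκc _ ((hmA _).1 hg)
          · intro g hg h0
            rcases hRsc _ ((hRrad _).2 ((hκ0 _ ((hmA _).1 hg)).1 h0)) with h1 | h1
            · exact Or.inl (LinearMap.ext fun w => Subtype.ext (h1 w w.2))
            · exact Or.inr (LinearMap.ext fun w => Subtype.ext (h1 w w.2))
          · intro g hg hcm
            refine (hκ0 _ ((hmA _).1 hg)).2 ((hRrad _).1 ?_)
            by_contra hgR
            obtain ⟨g', hg', hanti⟩ := hRanti (g : Γ) hg hgR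
            have h1 := congrArg Subtype.val
              (LinearMap.congr_fun (hcm ⟨g', hAi hg'⟩ hg').eq ⟨w₀, hw₀W⟩)
            replace h1 : φ₂ (g : Γ) (φ₂ g' w₀) = φ₂ g' (φ₂ (g : Γ) w₀) := h1
            rw [hanti w₀ hw₀W] at h1
            exact hw₀ (map_inj φ₂ (g : Γ) ((map_inj φ₂ g'
              ((hneg_one _ h1.symm).trans (map_zero _).symm)).trans (map_zero _).symm))
          · rintro u ⟨a₁, ha₁, hue⟩
            show ((u : Γi) : Γ) ∈ A'
            rw [hmA, hue]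
            exact (hcp a₁ ha₁ _).1
          · exact ⟨1, one_mem A, by simp⟩
          · rintro u ⟨a₁, ha₁, hue⟩ u' ⟨a₁', ha₁', hue'⟩
            obtain ⟨u'', hu'', e⟩ := hmk _ (mul_mem ha₁ ha₁')
            refine ⟨u'', hu'', ?_⟩
            show κ _ = κ _ + κ _
            rw [e, hue, hue', ← hκm _ (hcp a₁ ha₁ _).1 _ (hcp a₁' ha₁' _).1]
            refine hκeq _ (hcp _ (mul_mem ha₁ ha₁') _).1 _
              (mul_mem (hcp a₁ ha₁ _).1 (hcp a₁' ha₁' _).1) ?_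
            rw [hπ₀m _ (hcp a₁ ha₁ _).1 _ (hcp a₁' ha₁' _).1, (hcp _ (mul_mem ha₁ ha₁') _).2.1,
              (hcp a₁ ha₁ _).2.1, (hcp a₁' ha₁' _).2.1, hπ₀m _ ha₁ _ ha₁', map_add]
          · rintro u ⟨a₁, ha₁, hue⟩
            obtain ⟨c₁, hc₁, h1, -⟩ := exists_iterate π₀ κ hπ₀m hπ₀1 hκm hκ1
              (pow_mem S.hxA (2 ^ (h + l))) _ Vv hTv hκc ha₁ 1
            obtain ⟨c₂, hc₂, h3, h4⟩ := exists_iterate π₀ κ hπ₀m hπ₀1 hκm hκ1
              (pow_mem S.hxA (2 ^ (h + l))) _ Vv hTv hκc (hcp a₁ ha₁ (2 ^ (h + l))).1 1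
            obtain ⟨u', hu', e⟩ := hmk c₁ hc₁
            refine ⟨u', hu', ?_⟩
            show κ _ = (Vv - 1) (κ _)
            rw [pow_one] at h4
            rw [e, hue, ← h4]
            refine hκeq _ (hcp c₁ hc₁ _).1 _ hc₂ ?_
            rw [h3, hgeom c₁ hc₁, hgeom a₁ ha₁, h1, pow_one, ← Module.End.mul_apply,
              ← Module.End.mul_apply]
            congr 1
            exact ((((Commute.refl T).pow_right _).sub_right (Commute.one_right T)).sub_left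
              (Commute.one_left _) |>.pow_left _).eq
          · intro u hu
            obtain ⟨a₁, ha₁, hu'⟩ := hSpow u hu
            refine Subtype.ext (Subtype.ext ?_)
            rw [SubgroupClass.coe_pow, SubgroupClass.coe_pow, hu', ← pow_mul, ← pow_add,
              show h + l + (j + 1) = h + (l + j) + 1 by omega, S.hord a₁ ha₁]
            rfl
          · intro u hu
            obtain ⟨a₁, ha₁, hu'⟩ := hSpow u hu
            refine le_trans (le_of_eq ?_) (hbl a₁ ha₁)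
            have he' : (((u * vi) ^ 2 ^ j : Γi) : Γ) =
                (⟨(a₁ * x) ^ 2 ^ h, hmemA a₁ ha₁ _ dvd_rfl⟩ : Γ) ^ 2 ^ (l + j) := Subtype.ext (by
              rw [SubgroupClass.coe_pow, SubgroupClass.coe_pow, hu', SubgroupClass.coe_pow, ← pow_mul,
                ← pow_mul, ← pow_add, hpe, add_assoc])
            rw [← he']
            refine LinearEquiv.finrank_eq (LinearEquiv.trans (LinearEquiv.ofEq _ _ ?_)
              (Submodule.comapSubtypeEquivOfLe inf_le_left))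
            ext w
            simp only [mem_neg, Submodule.mem_comap, Submodule.mem_inf, Submodule.subtype_apply,
              w.2, true_and, Subtype.ext_iff, hφi, Submodule.coe_neg]
        haveI : Finite Γi := inferInstance
        refine D.false_of hj hQcard hQsix ?_
        -- a class of large degree
        obtain ⟨u, hu, hue⟩ := hmk a₂ ha₂
        refine ⟨u, hu, fun h0 => ?_⟩
        obtain ⟨c₁, hc₁, h1, h3⟩ := exists_iterate π₀ κ hπ₀m hπ₀1 hκm hκ1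
          (pow_mem S.hxA (2 ^ (h + l))) _ Vv hTv hκc (hcp a₂ ha₂ (2 ^ (h + l))).1
          (3 * 2 ^ (j - 1) - 1)
        refine hkey c₁ hc₁ ?_ ((hκ0 c₁ hc₁).1 ?_)
        · rw [h1, hgeom a₂ ha₂, ← sub_one_two_pow, ← pow_mul, ← Module.End.mul_apply, ← pow_add]
          congr 2
          rw [show h + (l + j) - 1 = h + l + (j - 1) by omega, pow_add 2 (h + l) (j - 1), Nat.mul_sub,
            mul_one, mul_left_comm 3 (2 ^ (h + l))]
          have : 2 ^ (h + l) * 1 ≤ 2 ^ (h + l) * (3 * 2 ^ (j - 1)) :=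
            Nat.mul_le_mul_left _ (by have := Nat.two_pow_pos (j - 1); omega)
          have := Nat.two_pow_pos (h + l)
          omega
        · rw [h3, ← hue]; exact h0
    · -- an abelian section
      rcases Nat.eq_zero_or_pos j with hj | hj
      · exact hj0 hj a₁ ha₁ w₀ hw₀W
      have hsc : ∀ g ∈ A', φ₂ g w₀ = w₀ ∧ (∀ w ∈ W₁, φ₂ g w = w) ∨
          φ₂ g w₀ = -w₀ ∧ (∀ w ∈ W₁, φ₂ g w = -w) := fun g hg => by
        have hgR : g ∈ R := (hR g).2 ⟨hg, fun g' hg' => by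
          have hc := S.hcomm _ ((hmA g).1 hg) _ ((hmA g').1 hg')
          rw [hB, Subgroup.mem_bot] at hc
          rw [show ⁅g, g'⁆ = 1 from Subtype.ext (by simpa [commutatorElement_def] using hc)]
          exact one_mem _⟩
        rcases hRsc g hgR with h1 | h1
        · exact Or.inl ⟨h1 w₀ hw₀W, h1⟩
        · exact Or.inr ⟨h1 w₀ hw₀W, h1⟩
      obtain ⟨k, hk⟩ : ∃ k, h + (l + j) = h + l + k + 1 := ⟨j - 1, by omega⟩
      set u : Γ := (vh ^ 2 ^ l) ^ 2 ^ k with hu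
      have huG : (u : G) = x ^ 2 ^ (h + l + k) := by
        rw [hu, SubgroupClass.coe_pow, hvpow, ← pow_mul, ← pow_add]
      have huW : W₁.map (φ₂ u) = W₁ := by
        rw [hu]
        generalize 2 ^ k = n
        induction n with
        | zero => rw [pow_zero, map_one]; exact Submodule.map_id _
        | succ n ih => rw [pow_succ, map_mul, Module.End.mul_eq_comp, Submodule.map_comp, hlW, ih]
      obtain ⟨c, hc, hcπ⟩ := hπ₀s (((T - 1) ^ (2 ^ (h + l + k) - 1) : Module.End (ZMod 2) U) (π₀ a₁))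
      set c' : Γ := ⟨c, hAΓ hc⟩ with hc'
      have hc'A : c' ∈ A' := (hmA c').2 hc
      have hu'A : u * c' * u⁻¹ ∈ A' := by
        rw [hu, ← pow_mul]; exact hvhA _ c' hc'A
      have hsame : φ₂ (u * c' * u⁻¹) w₀ = φ₂ c' w₀ := by
        have hw' := hgmap _ huW w₀ hw₀W
        have e : φ₂ (u * c' * u⁻¹) (φ₂ u w₀) = φ₂ u (φ₂ c' w₀) := by
          rw [hφφ, hφφ, inv_mul_cancel_right]
        have hu0 : φ₂ u w₀ ≠ 0 := fun h0 => hw₀ (map_inj φ₂ u (h0.trans (map_zero _).symm))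
        rcases hsc c' hc'A with ⟨h1, -⟩ | ⟨h1, -⟩ <;>
          rcases hsc _ hu'A with ⟨h3, h4⟩ | ⟨h3, h4⟩
        · rw [h1, h3]
        · rw [h1, h4 _ hw'] at e
          exact absurd (hneg_one _ e.symm) hu0
        · rw [h1, map_neg, h4 _ hw'] at e
          exact absurd (hneg_one _ e) hu0
        · rw [h1, h3]
      have heq : (⟨_, hAΓ (hcp a₁ ha₁ (2 ^ (h + (l + j)))).1⟩ : Γ) = u * c' * u⁻¹ * c'⁻¹ := by
        refine Subtype.ext ?_
        have hm1 := (hcp a₁ ha₁ (2 ^ (h + (l + j)))).1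
        have hm2 : (u : G) * c * (u : G)⁻¹ * c⁻¹ ∈ A :=
          mul_mem (by rw [huG]; exact (hcp c hc _).2.2.1) (inv_mem hc)
        have h0 := hπ₀eq _ hm1 _ hm2 (by
          rw [hgeom a₁ ha₁, hπ₀m _ (by rw [huG]; exact (hcp c hc _).2.2.1) _ (inv_mem hc), huG,
            (hcp c hc _).2.2.2, show π₀ c⁻¹ = -π₀ c from eq_neg_of_add_eq_zero_left (by
              rw [← hπ₀m _ (inv_mem hc) _ hc, inv_mul_cancel, hπ₀1]),
            ← sub_eq_add_neg, hcπ, hk, pow_succ]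
          nth_rewrite 2 [← Module.End.one_apply (R := ZMod 2)
            (((T - 1) ^ (2 ^ (h + l + k) - 1) : Module.End (ZMod 2) U) (π₀ a₁))]
          rw [← LinearMap.sub_apply, ← sub_one_two_pow, ← Module.End.mul_apply, ← pow_add]
          congr 2
          have := Nat.two_pow_pos (h + l + k)
          omega)
        rw [hB, Subgroup.mem_bot, mul_inv_eq_one] at h0
        show _ = (u : G) * (c' : G) * (u : G)⁻¹ * (c' : G)⁻¹
        exact h0
      rw [heq, ← hφφ]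
      have hinv : φ₂ c'⁻¹ (φ₂ c' w₀) = w₀ := by
        rw [hφφ, inv_mul_cancel, map_one, Module.End.one_apply]
      rcases hsc c' hc'A with ⟨h1, -⟩ | ⟨h1, -⟩
      · rw [h1] at hinv hsame
        rw [hinv, hsame]
      · rw [h1, map_neg] at hinv
        rw [h1] at hsame
        rw [neg_eq_iff_eq_neg.1 hinv, map_neg, hsame, neg_neg]
  -- conclusion
  set a' : Γ := ⟨a, hAΓ ha⟩ with ha'
  have hsq : a' * a' = 1 ∧ ∀ g ∈ A', a' * g = g * a' := by
    rcases hsp with hb | ⟨hB, -⟩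
    · exact ⟨Subtype.ext (S.hBsq a hb), fun g hg => Subtype.ext (S.hBc a hb _ ((hmA g).1 hg))⟩
    · have h1 := S.hsq a ha
      rw [hB, Subgroup.mem_bot] at h1
      refine ⟨Subtype.ext h1, fun g hg => Subtype.ext ?_⟩
      have hc := S.hcomm a ha _ ((hmA g).1 hg)
      rw [hB, Subgroup.mem_bot] at hc
      exact commutatorElement_eq_one_iff_mul_comm.1 hc
  by_contra hne
  have hP : φ₂ a' * φ₂ a' = 1 := by rw [← map_mul, hsq.1, map_one]
  have hN0 : neg (φ₂ a') ≠ ⊥ := by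
    intro h0
    refine hne (LinearMap.ext fun w => ?_)
    have h1 : w - φ₂ a' w ∈ neg (φ₂ a') := mem_neg.2 (by
      rw [map_sub, ← Module.End.mul_apply, hP, Module.End.one_apply, neg_sub])
    rw [h0, Submodule.mem_bot, sub_eq_zero] at h1
    exact h1.symm
  obtain ⟨w₀, hw₀, hw₀0, hB, hab⟩ := hcomp (neg (φ₂ a')) hN0 fun g hg w hw => mem_neg.2 (by
    rw [hφφ, hsq.2 g hg, ← hφφ, mem_neg.1 hw, map_neg])
  refine hw₀0 (eq_zero_of_fix_neg h2 (mem_fix.2 ?_) hw₀)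
  rcases hsp with hb | ⟨hB', a₁, ha₁, rfl⟩
  · exact hB a hb
  · exact hab hB' a₁ ha₁

end Cfsg.Agent.GrossTwo
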