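import Cfsg.Agent.Lib.GrossTwo.Linear
import Mathlib.GroupTheory.PGroup
import Mathlib.LinearAlgebra.Matrix.GeneralLinearGroup.Card

/-!
Odd `q`-groups of operators of small spaces over the field of two elements.
-/

set_option autoImplicit false
set_option linter.unusedSectionVars false

open Module

namespace Cfsg.Agent.GrossTwo

variable {X : Type*} [AddCommGroup X] [Module (ZMod 2) X] [Finite X]

theorem card_units_end : Nat.card (Module.End (ZMod 2) X)ˣ =
    ∏ i : Fin (finrank (ZMod 2) X), (2 ^ finrank (ZMod 2) X - 2 ^ (i : ℕ)) := by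
  haveI : FiniteDimensional (ZMod 2) X := Module.Finite.of_finite
  rw [Nat.card_congr (Units.mapEquiv (algEquivMatrix (finBasis (ZMod 2) X)).toMulEquiv).toEquiv]
  show Nat.card (Matrix.GeneralLinearGroup (Fin (finrank (ZMod 2) X)) (ZMod 2)) = _
  rw [Matrix.card_GL_field, ZMod.card]

theorem not_cube_dvd_five {q : ℕ} (hq : q.Prime) (hq2 : q ≠ 2) : ¬ q ^ 3 ∣ 9999360 := by
  intro h
  have hcop : (q ^ 3).Coprime (2 ^ 10) := Nat.coprime_pow_primes 3 10 hq Nat.prime_two hq2
  have h1 : q ^ 3 ∣ 9765 := hcop.dvd_of_dvd_mul_left (by norm_num; exact h)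
  have h2 : q ^ 3 ≤ 9765 := Nat.le_of_dvd (by norm_num) h1
  have h3 : q ≤ 21 := by
    by_contra h'
    have := Nat.pow_le_pow_left (show 22 ≤ q by omega) 3
    omega
  interval_cases q <;> norm_num at *

theorem six_cases {q k : ℕ} (hq : q.Prime) (hq2 : q ≠ 2) (hk : 3 ≤ k) (h : q ^ k ∣ 20158709760) :
    q = 3 ∧ k ≤ 4 := by
  have hcop : (q ^ k).Coprime (2 ^ 15) := Nat.coprime_pow_primes k 15 hq Nat.prime_two hq2
  have h1 : q ^ k ∣ 615195 := hcop.dvd_of_dvd_mul_left (by norm_num; exact h)
  have h2 : q ^ 3 ∣ 615195 := (Nat.pow_dvd_pow q hk).trans h1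
  have hq3 : q = 3 := by
    have h3 : q ≤ 85 := by
      by_contra h'
      have := Nat.pow_le_pow_left (show 86 ≤ q by omega) 3
      have := Nat.le_of_dvd (by norm_num) h2
      omega
    interval_cases q <;> norm_num at *
  subst hq3
  refine ⟨rfl, ?_⟩
  by_contra h'
  have := (Nat.pow_dvd_pow 3 (show 5 ≤ k by omega)).trans h1
  norm_num at this

theorem card_units_dvd (hn : finrank (ZMod 2) X ≤ 5) :
    Nat.card (Module.End (ZMod 2) X)ˣ ∣ 9999360 := by
  rw [card_units_end]
  generalize finrank (ZMod 2) X = n at hn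
  interval_cases n <;> simp [Fin.prod_univ_succ]

theorem card_units_six (hn : finrank (ZMod 2) X = 6) :
    Nat.card (Module.End (ZMod 2) X)ˣ = 20158709760 := by
  rw [card_units_end, hn]
  simp [Fin.prod_univ_succ]

/-- An odd `q`-group acts commutatively on a space of dimension at most five. -/
theorem commute_of_small {q : ℕ} (hq : q.Prime) (hq2 : q ≠ 2) {Kg : Type*} [Group Kg] [Finite Kg]
    (hK : IsPGroup q Kg) (hn : finrank (ZMod 2) X ≤ 5) (θ : Kg →* Module.End (ZMod 2) X) (a b : Kg) :
    θ a * θ b = θ b * θ a := by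
  haveI := Fact.mk hq
  have hp := hK.of_surjective θ.toHomUnits.rangeRestrict θ.toHomUnits.rangeRestrict_surjective
  haveI : Finite θ.toHomUnits.range :=
    Finite.of_surjective _ θ.toHomUnits.rangeRestrict_surjective
  obtain ⟨k, hk⟩ := hp.exists_card_eq
  have hd : q ^ k ∣ 9999360 := hk ▸ (Subgroup.card_subgroup_dvd_card _).trans (card_units_dvd hn)
  have hk2 : k ≤ 2 := by
    by_contra h
    exact not_cube_dvd_five hq hq2 ((Nat.pow_dvd_pow q (by omega)).trans hd)
  have hcomm : ∀ u v : θ.toHomUnits.range, u * v = v * u := by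
    rcases (by omega : k = 0 ∨ k = 1 ∨ k = 2) with rfl | rfl | rfl
    · rw [pow_zero] at hk
      haveI := (Nat.card_eq_one_iff_unique.1 hk).1
      exact fun u v => Subsingleton.elim _ _
    · rw [pow_one] at hk
      haveI : IsCyclic θ.toHomUnits.range := isCyclic_of_prime_card hk
      exact fun u v => IsMulCommutative.is_comm.comm u v
    · exact IsPGroup.commutative_of_card_eq_prime_sq hk
  have h := congrArg (fun u : θ.toHomUnits.range => ((u : (Module.End (ZMod 2) X)ˣ) : Module.End (ZMod 2) X))
    (hcomm (θ.toHomUnits.rangeRestrict a) (θ.toHomUnits.rangeRestrict b))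
  simpa using h

/-- A self-map of period four whose square moves every point acts on a set of size divisible by
four. -/
theorem four_dvd {α : Type*} [Finite α] (f : α → α) (h4 : ∀ x, f (f (f (f x))) = x)
    (h2 : ∀ x, f (f x) ≠ x) : 4 ∣ Nat.card α := by
  classical
  haveI := Fintype.ofFinite α
  have key : ∀ s : Finset α, (∀ x ∈ s, f x ∈ s) → 4 ∣ s.card := by
    intro s
    induction s using Finset.strongInduction with
    | _ s ih =>
      intro hs
      rcases s.eq_empty_or_nonempty with rfl | ⟨x, hx⟩
      · simp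
      have h1 : f x ≠ x := fun h => h2 x (by rw [h, h])
      have hinj : Function.Injective f := fun a b h => by rw [← h4 a, ← h4 b, h]
      set t : Finset α := {x, f x, f (f x), f (f (f x))} with ht
      have hts : t ⊆ s := by
        intro y hy
        simp only [ht, Finset.mem_insert, Finset.mem_singleton] at hy
        rcases hy with rfl | rfl | rfl | rfl
        exacts [hx, hs _ hx, hs _ (hs _ hx), hs _ (hs _ (hs _ hx))]
      have htc : t.card = 4 := by
        have a1 : f (f (f x)) ≠ x := fun h => h1 (by
          have := congrArg f h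
          rw [h4] at this
          exact this.symm)
        have a2 : f (f x) ≠ f x := fun h => h1 (hinj h)
        have a3 : f (f (f x)) ≠ f x := fun h => h2 x (hinj h)
        have a4 : f (f (f x)) ≠ f (f x) := fun h => h1 (hinj (hinj h))
        simp [ht, h1.symm, (h2 x).symm, a1.symm, a2.symm, a3.symm, a4.symm]
      have hsub := ih (s \ t) (Finset.sdiff_ssubset hts ⟨x, by simp [ht]⟩) fun y hy => by
        rw [Finset.mem_sdiff] at hy ⊢
        refine ⟨hs y hy.1, fun h => hy.2 ?_⟩
        simp only [ht, Finset.mem_insert, Finset.mem_singleton] at h ⊢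
        rcases h with h | h | h | h
        · exact Or.inr (Or.inr (Or.inr (hinj (by rw [h4, h]))))
        · exact Or.inl (hinj h)
        · exact Or.inr (Or.inl (hinj h))
        · exact Or.inr (Or.inr (Or.inl (hinj h)))
      have := Finset.card_sdiff_of_subset hts
      have hle := Finset.card_le_card hts
      omega
  rw [Nat.card_eq_fintype_card]
  exact key Finset.univ fun x _ => Finset.mem_univ _

end Cfsg.Agent.GrossTwo
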